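import Cfsg.Agent.MinIndexUN.Points

/-!
Numerical facts on the numbers of points (helper10).
-/

set_option autoImplicit false

namespace Cfsg.Agent.MinIndexUN

open Cfsg.Agent.Unitary

variable {F : Type*} [Field F] [Fintype F] {q : ℕ} (hF : Fintype.card F = q ^ 2)

include hF

theorem card_pts_step (d : ℕ) (hd : 1 ≤ d) :
    Nat.card (IsoPt hF (d + 2)) = q ^ 2 * Nat.card (IsoPt hF d) + 1 + q ^ (2 * d + 1) := by
  have hq := two_le_q hF
  have h1 := card_pts_mul hF (d + 2)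
  have h2 := card_pts_mul hF d
  have e1 := q_mul_nvec_zero hF (d + 2)
  have e2 := q_mul_nvec_zero hF d
  rw [← h1] at e1
  rw [← h2] at e2
  have h4 : 1 ≤ q ^ 2 := Nat.one_le_pow _ _ (by omega)
  push_cast [Nat.cast_sub h4] at e1 e2
  have hne : (q : ℤ) * ((q : ℤ) ^ 2 - 1) ≠ 0 := by
    have : (2 : ℤ) ≤ q := by exact_mod_cast hq
    exact mul_ne_zero (by omega) (by nlinarith)
  zify
  refine mul_left_cancel₀ hne ?_
  linear_combination e1 - (q : ℤ) ^ 2 * e2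

theorem nvec_zero_le (d : ℕ) (hd : 1 ≤ d) : q * nvec d F q 0 ≤ 2 * q ^ (2 * d) := by
  have hq : (2 : ℤ) ≤ q := by exact_mod_cast two_le_q hF
  have h := q_mul_nvec_zero hF d
  have h1 : (q : ℤ) ^ (d + 1) ≤ (q : ℤ) ^ (2 * d) := pow_le_pow_right₀ (by omega) (by omega)
  have h2 : (0 : ℤ) ≤ (q : ℤ) ^ d := by positivity
  have h3 : (q : ℤ) ^ d ≤ (q : ℤ) ^ (d + 1) := pow_le_pow_right₀ (by omega) (by omega)
  zify
  rcases neg_one_pow_eq_or ℤ d with e | e <;> rw [e] at h <;> linarith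

theorem pts_lower {n : ℕ} (hn : 3 ≤ n) : q ^ (2 * n - 3) ≤ Nat.card (IsoPt hF n) := by
  obtain ⟨d, rfl⟩ : ∃ d, n = d + 2 := ⟨n - 2, by omega⟩
  rw [card_pts_step hF d (by omega), show 2 * (d + 2) - 3 = 2 * d + 1 by omega]
  omega

/-- Points off the orthogonal space dominate. -/
theorem pts_small {d : ℕ} (hq : 3 ≤ q) (hd : 1 ≤ d) :
    q ^ 2 * Nat.card (IsoPt hF d) + 1 ≤ q ^ (2 * d) := by
  have h1 := card_pts_mul hF d
  have h2 := nvec_zero_le hF d hd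
  have h9 : 9 ≤ q ^ 2 := by nlinarith
  obtain ⟨r, hr⟩ : ∃ r, q ^ 2 = r + 1 := ⟨q ^ 2 - 1, by omega⟩
  rw [← h1, show q ^ 2 - 1 = r by omega] at h2
  rw [hr]
  have h3 : 2 * q + 2 ≤ r := by nlinarith
  set N := Nat.card (IsoPt hF d)
  set T := q ^ (2 * d)
  have hT : 9 ≤ T := h9.trans (Nat.pow_le_pow_right (by omega) (by omega))
  by_contra hlt
  push Not at hlt
  have h4 : T * r ≤ (r + 1) * (N * r) := by
    calc T * r ≤ ((r + 1) * N) * r := Nat.mul_le_mul_right _ (by omega)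
      _ = _ := by ring
  have h5 : q * (N * r + 1) * (r + 1) ≤ 2 * T * (r + 1) := Nat.mul_le_mul_right _ h2
  have h7 : 2 * (r + 1) < q * r := by nlinarith
  nlinarith

end Cfsg.Agent.MinIndexUN
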