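import Cfsg.Agent.Lib.Unitary.Basic
import Mathlib.LinearAlgebra.Dual.Lemmas
import Mathlib.FieldTheory.Finiteness

/-!
Additive subgroups of a unitary space with small commutators (helper10).
-/

set_option autoImplicit false

namespace Cfsg.Agent.MinIndexUN

open Cfsg.Agent.Unitary
open Module (finrank)

variable {F : Type*} [Field F] [Fintype F] {q m : ℕ} (hF : Fintype.card F = q ^ 2)
variable (B : AddSubgroup F)

/-- The fixed scalars stabilising `B`. -/
def scal (hF : Fintype.card F = q ^ 2) (B : AddSubgroup F) : Subfield F where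
  carrier := {t | t ^ q = t ∧ ∀ b ∈ B, t * b ∈ B}
  zero_mem' := ⟨zero_pow_q hF, fun b _ => by simp⟩
  one_mem' := ⟨one_pow q, fun b hb => by simpa using hb⟩
  add_mem' := fun {s t} hs ht => ⟨by rw [add_pow_q hF, hs.1, ht.1],
    fun b hb => by rw [add_mul]; exact add_mem (hs.2 b hb) (ht.2 b hb)⟩
  mul_mem' := fun {s t} hs ht => ⟨by rw [mul_pow, hs.1, ht.1],
    fun b hb => by rw [mul_assoc]; exact hs.2 _ (ht.2 b hb)⟩
  neg_mem' := fun {s} hs => ⟨by rw [neg_pow_q hF, hs.1],
    fun b hb => by rw [neg_mul]; exact neg_mem (hs.2 b hb)⟩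
  inv_mem' := fun s hs => by
    by_cases h0 : s = 0
    · subst h0; rw [inv_zero]; exact hs
    have hq := two_le_q hF
    have h1 : s⁻¹ = s ^ (q - 2) := by
      refine inv_eq_of_mul_eq_one_right ?_
      rw [← pow_succ', show q - 2 + 1 = q - 1 by omega, pow_q_sub_one hF h0, hs.1, div_self h0]
    rw [h1]
    refine ⟨by rw [← pow_mul, mul_comm, pow_mul, hs.1], ?_⟩
    intro b hb
    induction (q - 2) with
    | zero => simpa using hb
    | succ k ih => rw [pow_succ', mul_assoc]; exact hs.2 _ ih

/-- The order of `scal`. -/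
noncomputable def ksc (hF : Fintype.card F = q ^ 2) (B : AddSubgroup F) : ℕ := Nat.card (scal hF B)

/-- `B` as a space over its scalars. -/
def bsp (hF : Fintype.card F = q ^ 2) (B : AddSubgroup F) : Submodule (scal hF B) F :=
  { B with smul_mem' := fun t x hx => t.2.2 x hx }

/-- The elements of trace zero as a space over the scalars. -/
def tr0 (hF : Fintype.card F = q ^ 2) (B : AddSubgroup F) : Submodule (scal hF B) F where
  carrier := {x | x + x ^ q = 0}
  zero_mem' := by simp [zero_pow_q hF]
  add_mem' := fun {x y} hx hy => by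
    simp only [Set.mem_ofPred_eq] at hx hy ⊢
    rw [add_pow_q hF]; linear_combination hx + hy
  smul_mem' := fun t x hx => by
    simp only [Set.mem_ofPred_eq] at hx ⊢
    show (t : F) * x + ((t : F) * x) ^ q = 0
    rw [mul_pow, t.2.1]; linear_combination (t : F) * hx

include hF

theorem two_le_ksc : 2 ≤ ksc hF B := by
  have : Nontrivial (scal hF B) := inferInstance
  exact Finite.one_lt_card

theorem card_tr0 : Nat.card (tr0 hF B) = q := card_trace_ker hF

theorem card_space (S : Submodule (scal hF B) F) :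
    Nat.card S = ksc hF B ^ finrank (scal hF B) S := by
  rw [Module.natCard_eq_pow_finrank (K := scal hF B)]; rfl

variable (hB : ∀ b ∈ B, b + b ^ q = 0)
include hB

theorem ksc_mul_card_le (h : Nat.card B ≠ q) : Nat.card B * ksc hF B ≤ q := by
  have hlt : bsp hF B < tr0 hF B :=
    lt_of_le_of_ne (fun b hb => hB b hb : bsp hF B ≤ tr0 hF B) fun e => h (by
      have : Nat.card (bsp hF B) = q := by rw [e, card_tr0 hF B]
      exact this)
  have h1 := Submodule.finrank_lt_finrank_of_lt hlt
  calc Nat.card B * ksc hF B = ksc hF B ^ (finrank (scal hF B) (bsp hF B) + 1) := by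
        rw [pow_succ]; exact congrArg (· * _) (card_space hF B (bsp hF B))
    _ ≤ ksc hF B ^ finrank (scal hF B) (tr0 hF B) :=
        Nat.pow_le_pow_right (Nat.zero_lt_of_lt (two_le_ksc hF B)) h1
    _ = q := by rw [← card_space hF B, card_tr0 hF B]

omit hB in
theorem ksc_le_card (h : Nat.card B ≠ 1) : ksc hF B ≤ Nat.card B := by
  have h1 : Nat.card B = ksc hF B ^ finrank (scal hF B) (bsp hF B) := card_space hF B (bsp hF B)
  rw [h1]
  refine Nat.le_self_pow (fun e => h ?_) _
  rw [h1, e, pow_zero]

/-- An additive subgroup with commutators in a proper `B` has at most `q^m` elements. -/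
theorem card_isotropic_le (h : Nat.card B ≠ q) (A : AddSubgroup (Fin m → F))
    (hA : ∀ x ∈ A, ∀ y ∈ A, herm q x y - herm q y x ∈ B) :
    Nat.card A ≤ q ^ m ∧
      (Nat.card A = q ^ m → ∀ t ∈ scal hF B, ∀ x ∈ A, t • x ∈ A) := by
  classical
  set K := scal hF B with hK
  have hlt : bsp hF B < tr0 hF B :=
    lt_of_le_of_ne (fun b hb => hB b hb : bsp hF B ≤ tr0 hF B) fun e => h (by
      have : Nat.card (bsp hF B) = q := by rw [e, card_tr0 hF B]
      exact this)
  obtain ⟨v, hv, hvB⟩ := SetLike.exists_of_lt hlt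
  obtain ⟨φ, hφ, hmap⟩ := Submodule.exists_dual_map_eq_bot_of_notMem hvB inferInstance
  have hφB : ∀ b ∈ B, φ b = 0 := fun b hb =>
    (Submodule.mem_bot _).1 (hmap ▸ Submodule.mem_map_of_mem (show b ∈ bsp hF B from hb))
  have hts : ∀ (t : K) (x : Fin m → F), t • x = (t : F) • x := fun t x => rfl
  let β : (Fin m → F) →ₗ[K] Module.Dual K (Fin m → F) :=
    LinearMap.mk₂ K (fun x y => φ (herm q x y - herm q y x))
      (fun x x' y => by rw [← map_add, herm_add_left, herm_add_right hF]; congr 1; ring)
      (fun t x y => by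
        rw [← map_smul, hts, herm_smul_left, herm_smul_right hF, t.2.1]
        congr 1; simp only [Subfield.smul_def, smul_eq_mul]; ring)
      (fun x y y' => by rw [← map_add, herm_add_left, herm_add_right hF]; congr 1; ring)
      (fun t x y => by
        rw [← map_smul, hts, herm_smul_left, herm_smul_right hF, t.2.1]
        congr 1; simp only [Subfield.smul_def, smul_eq_mul]; ring)
  have hinj : Function.Injective β := by
    refine (injective_iff_map_eq_zero _).2 fun x hx => by_contra fun hx0 => hφ ?_
    obtain ⟨y, hy⟩ : ∃ y, herm q x y ≠ 0 := by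
      by_contra! hall; exact hx0 (eq_zero_of_herm hF hall)
    obtain ⟨δ, hδ⟩ := exists_sub_pow_eq hF (c := v) hv
    have := LinearMap.congr_fun hx ((δ / herm q x y) ^ q • y)
    have hyq : herm q x y ^ q ≠ 0 := pow_ne_zero _ hy
    rw [LinearMap.mk₂_apply, LinearMap.zero_apply, herm_smul_right hF, pow_q_pow_q hF,
      herm_smul_left, herm_swap hF x y] at this
    rw [← this]
    congr 1
    rw [← hδ, div_pow]
    field_simp
  let S : Submodule K (Fin m → F) := Submodule.span K (A : Set (Fin m → F))
  have hS : ∀ x ∈ S, ∀ y ∈ S, herm q x y - herm q y x ∈ B := by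
    intro x hx y hy
    induction hx using Submodule.span_induction with
    | mem x hx =>
      induction hy using Submodule.span_induction with
      | mem y hy => exact hA x hx y hy
      | zero => simp [herm_zero_right hF]
      | add y y' _ _ h1 h2 =>
        rw [herm_add_left, herm_add_right hF]
        convert add_mem h1 h2 using 1; ring
      | smul t y _ h1 =>
        rw [hts, herm_smul_left, herm_smul_right hF, t.2.1, ← mul_sub]
        exact t.2.2 _ h1
    | zero => simp [herm_zero_right hF]
    | add x x' _ _ h1 h2 =>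
      rw [herm_add_left, herm_add_right hF]
      convert add_mem h1 h2 using 1; ring
    | smul t x _ h1 =>
      rw [hts, herm_smul_left, herm_smul_right hF, t.2.1, ← mul_sub]
      exact t.2.2 _ h1
  let R : (Fin m → F) →ₗ[K] Module.Dual K S := (LinearMap.lcomp _ _ S.subtype).comp β
  have hRs : Function.Surjective R := by
    intro ψ
    obtain ⟨Ψ, hΨ⟩ := LinearMap.exists_extend ψ
    obtain ⟨x, hx⟩ := ((LinearMap.injective_iff_surjective_of_finrank_eq_finrank
      (by rw [Subspace.dual_finrank_eq])).1 hinj) Ψ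
    exact ⟨x, by rw [LinearMap.comp_apply, hx]; exact hΨ⟩
  have hker : S ≤ LinearMap.ker R := fun x hx =>
    LinearMap.mem_ker.2 (LinearMap.ext fun y => hφB _ (hS x hx y.1 y.2))
  have h1 := LinearMap.finrank_range_add_finrank_ker R
  rw [LinearMap.range_eq_top.2 hRs, finrank_top, Subspace.dual_finrank_eq] at h1
  have h2 := Submodule.finrank_mono hker
  have hW : finrank K (Fin m → F) = 2 * (m * finrank K (tr0 hF B)) := by
    refine Nat.pow_right_injective (two_le_ksc hF B) ?_
    show ksc hF B ^ _ = ksc hF B ^ _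
    have hV : ksc hF B ^ finrank K (tr0 hF B) = q :=
      (card_space hF B (tr0 hF B)).symm.trans (card_tr0 hF B)
    have hc : Nat.card (Fin m → F) = ksc hF B ^ finrank K (Fin m → F) :=
      Module.natCard_eq_pow_finrank (K := K)
    rw [← hc, Nat.card_eq_fintype_card, Fintype.card_fun, hF, Fintype.card_fin, mul_comm m,
      ← mul_assoc, mul_comm 2, pow_mul, pow_mul, hV]
  have hcS : Nat.card S ≤ q ^ m := by
    have hV : ksc hF B ^ finrank K (tr0 hF B) = q :=
      (card_space hF B (tr0 hF B)).symm.trans (card_tr0 hF B)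
    have hc : Nat.card S = ksc hF B ^ finrank K S := Module.natCard_eq_pow_finrank (K := K)
    calc Nat.card S = ksc hF B ^ finrank K S := hc
      _ ≤ ksc hF B ^ (m * finrank K (tr0 hF B)) :=
          Nat.pow_le_pow_right (Nat.zero_lt_of_lt (two_le_ksc hF B)) (by omega)
      _ = q ^ m := by rw [mul_comm, pow_mul, hV]
  have hAS : (A : Set (Fin m → F)) ⊆ S := Submodule.subset_span
  refine ⟨(Nat.card_mono (Set.toFinite _) hAS).trans hcS, fun heq t ht x hx => ?_⟩
  have hSA : (S : Set (Fin m → F)) = A := (Set.eq_of_subset_of_ncard_le hAS (by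
    rw [← Nat.card_coe_set_eq, ← Nat.card_coe_set_eq]
    exact hcS.trans heq.ge)).symm
  have : (⟨t, ht⟩ : K) • x ∈ (S : Set (Fin m → F)) := S.smul_mem _ (hAS hx)
  rwa [hSA] at this

/-- With no transvections every fixed scalar is allowed. -/
theorem mem_scal_of_bot (hb : Nat.card B = 1) {t : F} (ht : t ^ q = t) : t ∈ scal hF B :=
  ⟨ht, fun b hb' => by
    rw [AddSubgroup.card_eq_one.1 hb] at hb' ⊢
    rw [AddSubgroup.mem_bot] at hb' ⊢
    rw [hb', mul_zero]⟩

end Cfsg.Agent.MinIndexUN
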