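import Cfsg.Agent.MinIndexUN.Elements
import Cfsg.Agent.MinIndexUN.Lagr

/-!
The lower bound on the index in a point stabiliser (helper10).
-/

set_option autoImplicit false

namespace Cfsg.Agent.MinIndexUN

open Cfsg.Agent.Unitary

variable {F : Type*} [Field F] [Fintype F] {q m : ℕ} (hF : Fintype.card F = q ^ 2)
variable {e f : Fin (m + 2) → F} (h : Std q e f) (H : Subgroup (SU (m + 2) F q))

include hF h

/-- The norm of the multiplier at `e`. -/
noncomputable def nu (hF : Fintype.card F = q ^ 2) (h : Std q e f) :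
    (Lev (q := q) e f) →* Fˣ :=
  MonoidHom.toHomUnits
    { toFun := fun g => herm q ((g : SU (m + 2) F q) • e) f ^ (q + 1)
      map_one' := by rw [Subgroup.coe_one, one_smul, h.ef, one_pow]
      map_mul' := fun g g' => by
        obtain ⟨⟨a, -, hg⟩, -⟩ := g.2
        obtain ⟨⟨a', -, hg'⟩, -⟩ := g'.2
        rw [Subgroup.coe_mul, mul_smul, hg', smul_comm _ a', hg, herm_smul_left, herm_smul_left,
          herm_smul_left, h.ef, mul_one, mul_one, ← mul_pow, mul_comm] }

theorem coe_nu (g : Lev (q := q) e f) {a : F} (hg : (g : SU (m + 2) F q) • e = a • e) :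
    ((nu hF h g : Fˣ) : F) = a ^ (q + 1) := by
  show herm q ((g : SU (m + 2) F q) • e) f ^ (q + 1) = _
  rw [hg, herm_smul_left, h.ef, mul_one]

/-- The elements of the Levi subgroup with multiplier of norm one. -/
def Lev1 (e f : Fin (m + 2) → F) : Subgroup (SU (m + 2) F q) where
  carrier := {g | g ∈ Lev e f ∧ ∃ a : F, a ^ (q + 1) = 1 ∧ g • e = a • e}
  one_mem' := ⟨one_mem _, 1, one_pow _, by rw [one_smul, one_smul]⟩
  mul_mem' := by
    rintro g g' ⟨hg, a, ha, hge⟩ ⟨hg', a', ha', hge'⟩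
    exact ⟨mul_mem hg hg', a' * a, by rw [mul_pow, ha', ha, one_mul],
      by rw [mul_smul, hge', smul_comm g, hge, smul_smul]⟩
  inv_mem' := by
    rintro g ⟨hg, a, ha, hge⟩
    have ha0 : a ≠ 0 := by rintro rfl; simp at ha
    exact ⟨inv_mem hg, a⁻¹, by rw [inv_pow, ha, inv_one],
      by rw [inv_smul_eq_iff, smul_comm g, hge, inv_smul_smul₀ ha0]⟩

omit hF h in
theorem Lev1_le : Lev1 (q := q) e f ≤ Lev e f := fun _ hg => hg.1

theorem ker_nu : (nu hF h).ker = (Lev1 e f).subgroupOf (Lev e f) := by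
  ext g
  obtain ⟨⟨a, ha, hg⟩, -⟩ := g.2
  rw [MonoidHom.mem_ker, Units.ext_iff, coe_nu hF h g hg, Subgroup.mem_subgroupOf]
  refine ⟨fun e1 => ⟨g.2, a, e1, hg⟩, fun hm => ?_⟩
  obtain ⟨-, a', ha', hg'⟩ := hm
  rw [smul_left_injective F (h.e_ne hF) (hg.symm.trans hg')]
  exact ha'

theorem jG_range_le : (jG m : SU m F q →* SU (m + 2) F q).range ≤ Lev1 e f := by
  rintro _ ⟨g, rfl⟩
  exact ⟨jG_mem_Lev hF h g, 1, one_pow _, by rw [one_smul]; exact h.jG_e g⟩

theorem card_range_nu (hm : 1 ≤ m) : Nat.card (nu hF h).range + 1 = q := by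
  classical
  let e1 : {t : F // t ^ q = t ∧ t ≠ 0} ≃ (nu hF h).range :=
    Equiv.ofBijective (fun t => ⟨Units.mk0 t.1 t.2.2, by
        obtain ⟨a, ha⟩ := exists_norm_eq hF t.2.1
        have ha0 : a ≠ 0 := by rintro rfl; exact t.2.2 (by simpa using ha.symm)
        obtain ⟨g, hg, hge⟩ := exists_Lev_mult hF h hm ha0
        exact ⟨⟨g, hg⟩, Units.ext (by rw [coe_nu hF h _ hge, ha]; rfl)⟩⟩) ⟨?_, ?_⟩
  · refine Eq.trans ?_ (card_fixed hF)
    rw [← Nat.card_congr e1]
    rw [← Nat.card_congr (Equiv.optionSubtypeNe (⟨0, zero_pow_q hF⟩ : {t : F // t ^ q = t})),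
      Finite.card_option]
    congr 1
    exact Nat.card_congr
      { toFun := fun t => ⟨⟨t.1, t.2.1⟩, fun e' => t.2.2 (congrArg Subtype.val e')⟩
        invFun := fun t => ⟨t.1.1, t.1.2, fun e' => t.2 (Subtype.ext e')⟩
        left_inv := fun _ => rfl
        right_inv := fun _ => rfl }
  · intro t t' ht
    exact Subtype.ext (congrArg (fun x : (nu hF h).range => ((x : Fˣ) : F)) ht)
  · rintro ⟨u, g, rfl⟩
    obtain ⟨⟨a, ha, hg⟩, -⟩ := g.2
    exact ⟨⟨_, by rw [coe_nu hF h g hg]; exact norm_fixed hF a, Units.ne_zero _⟩,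
      Subtype.ext (Units.ext rfl)⟩

theorem card_map_Kbar_le :
    Nat.card ((nu hF h).comp ((Kbar hF h H).subgroupOf (Lev e f)).subtype).range + 1 ≤
      ksc hF (Bset hF h H) := by
  classical
  set R := ((nu hF h).comp ((Kbar hF h H).subgroupOf (Lev e f)).subtype).range
  have hin : ∀ u : R, ((u : Fˣ) : F) ∈ scal hF (Bset hF h H) := by
    rintro ⟨u, g, rfl⟩
    obtain ⟨⟨a, ha, hg⟩, -⟩ := g.1.2
    have e1 : (((nu hF h) g.1 : Fˣ) : F) = a ^ (q + 1) := coe_nu hF h g.1 hg
    show (((nu hF h) g.1 : Fˣ) : F) ∈ _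
    rw [e1]
    exact ⟨norm_fixed hF a, fun b hb => Kbar_B hF h H g.2 hg hb⟩
  let φ : Option R → scal hF (Bset hF h H) := fun o => o.elim 0 fun u => ⟨_, hin u⟩
  have hφ : Function.Injective φ := by
    rintro (_ | u) (_ | u') he
    · rfl
    · exact absurd (congrArg Subtype.val he).symm (Units.ne_zero _)
    · exact absurd (congrArg Subtype.val he) (Units.ne_zero _)
    · exact congrArg some (Subtype.ext (Units.ext (congrArg
        (fun x : scal hF (Bset hF h H) => (x : F)) he)))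
  have := Nat.card_le_card_of_injective φ hφ
  rwa [Finite.card_option] at this

/-- The multiplier splits off from the index in the Levi subgroup. -/
theorem relIndex_Lev_ge (hm : 1 ≤ m) :
    (q - 1) * (Kbar hF h H).relIndex (Lev1 e f) ≤
      (Kbar hF h H).relIndex (Lev e f) * (ksc hF (Bset hF h H) - 1) := by
  classical
  set X := Lev (q := q) e f
  set K := (Kbar hF h H).subgroupOf X
  set ψ := (nu hF h).comp K.subtype with hψ
  set N := (nu hF h).ker with hN
  have h1 : Nat.card K * K.index = Nat.card X := K.card_mul_index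
  have h2 : Nat.card N * Nat.card (nu hF h).range = Nat.card X := by
    rw [← Subgroup.index_ker]; exact N.card_mul_index
  have h3 : Nat.card ψ.ker * Nat.card ψ.range = Nat.card K := by
    rw [← Subgroup.index_ker]; exact ψ.ker.card_mul_index
  have hk : ψ.ker = N.subgroupOf K := rfl
  have h4 : Nat.card ψ.ker * K.relIndex N = Nat.card N := by
    rw [← (K.subgroupOf N).card_mul_index, hk]
    congr 1
    refine Nat.card_congr
      { toFun := fun x => ⟨⟨x.1.1, x.2⟩, x.1.2⟩
        invFun := fun x => ⟨⟨x.1.1, x.2⟩, x.1.2⟩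
        left_inv := fun _ => rfl
        right_inv := fun _ => rfl }
  have h5 : K.relIndex N = (Kbar hF h H).relIndex (Lev1 e f) := by
    rw [hN, ker_nu, Subgroup.relIndex_subgroupOf (Lev1_le)]
  have hR := card_range_nu hF h hm
  have hB := card_map_Kbar_le hF h H
  have hpos : 0 < Nat.card ψ.ker := Nat.card_pos
  rw [← h5]
  refine Nat.le_of_mul_le_mul_left ?_ hpos
  calc Nat.card ψ.ker * ((q - 1) * K.relIndex N)
      = Nat.card X := by rw [← h2, ← h4, show q - 1 = Nat.card (nu hF h).range by omega]; ring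
    _ = Nat.card ψ.ker * (Nat.card ψ.range * K.index) := by rw [← h1, ← h3]; ring
    _ ≤ Nat.card ψ.ker * (K.index * (ksc hF (Bset hF h H) - 1)) := by
        rw [mul_comm K.index]
        refine Nat.mul_le_mul_left _ (Nat.mul_le_mul_right _ ?_)
        have : Nat.card ψ.range + 1 ≤ ksc hF (Bset hF h H) := hB
        omega

/-- The part of `H` inside `SU_m`. -/
def Kj (hF : Fintype.card F = q ^ 2) (h : Std q e f) (H : Subgroup (SU (m + 2) F q)) :
    Subgroup (SU m F q) := (Kbar hF h H).comap (jG m)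

theorem index_Kj_le : (Kj hF h H).index ≤ (Kbar hF h H).relIndex (Lev1 e f) := by
  have h1 : (Kj hF h H).index = (Kbar hF h H).relIndex (jG m : SU m F q →* SU (m + 2) F q).range :=
    Subgroup.index_comap _ _
  rw [h1]
  exact Subgroup.relIndex_le_of_le_right (jG_range_le hF h) Subgroup.index_ne_zero_of_finite

/-- The index in the point stabiliser with the full Levi subgroup. -/
theorem x_ge_Lev :
    q ^ (2 * m + 1) * (Kbar hF h H).relIndex (Lev e f) ≤
      H.relIndex (Est e) * (Nat.card (Aset hF h H) * Nat.card (Bset hF h H)) := by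
  rw [← relIndex_Qs hF h H, mul_comm (H.relIndex (Est e)), mul_comm (H.relIndex (Qs hF h)), mul_assoc]
  exact Nat.mul_le_mul_left _ (count_le hF h H le_rfl)

/-- The master inequality. -/
theorem x_ge (hm : 1 ≤ m) :
    (q - 1) * q ^ (2 * m + 1) * (Kbar hF h H).relIndex (Lev1 e f) ≤
      H.relIndex (Est e) * (Nat.card (Aset hF h H) * Nat.card (Bset hF h H)) *
        (ksc hF (Bset hF h H) - 1) :=
  calc (q - 1) * q ^ (2 * m + 1) * (Kbar hF h H).relIndex (Lev1 e f)
      = q ^ (2 * m + 1) * ((q - 1) * (Kbar hF h H).relIndex (Lev1 e f)) := by ring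
    _ ≤ q ^ (2 * m + 1) * ((Kbar hF h H).relIndex (Lev e f) * (ksc hF (Bset hF h H) - 1)) :=
        Nat.mul_le_mul_left _ (relIndex_Lev_ge hF h H hm)
    _ ≤ _ := by rw [← mul_assoc]; exact Nat.mul_le_mul_right _ (x_ge_Lev hF h H)

/-- With no transvections. -/
theorem x_ge_of_B_one (hB : Nat.card (Bset hF h H) = 1) (hm : 1 ≤ m) :
    q ^ (2 * m + 1) * (Kbar hF h H).relIndex (Lev1 e f) ≤
      H.relIndex (Est e) * Nat.card (Aset hF h H) := by
  have hq := two_le_q hF
  have h1 := x_ge hF h H hm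
  have hk : ksc hF (Bset hF h H) ≤ q :=
    (Nat.card_le_card_of_injective (α := scal hF (Bset hF h H))
      (fun t => (⟨t.1, t.2.1⟩ : {t : F // t ^ q = t}))
      fun t t' e' => Subtype.ext (congrArg (fun x : {t : F // t ^ q = t} => x.1) e')).trans
      (card_fixed hF).le
  rw [hB, mul_one] at h1
  refine Nat.le_of_mul_le_mul_left ?_ (show 0 < q - 1 by omega)
  calc (q - 1) * (q ^ (2 * m + 1) * (Kbar hF h H).relIndex (Lev1 e f))
      = (q - 1) * q ^ (2 * m + 1) * (Kbar hF h H).relIndex (Lev1 e f) := (mul_assoc _ _ _).symm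
    _ ≤ _ := h1
    _ ≤ H.relIndex (Est e) * Nat.card (Aset hF h H) * (q - 1) :=
        Nat.mul_le_mul_left _ (by omega)
    _ = _ := mul_comm _ _

/-- With some transvections, but not all. -/
theorem x_ge_of_B_mid (hB : Nat.card (Bset hF h H) ≠ 1) (hB' : Nat.card (Bset hF h H) ≠ q)
    (hm : 1 ≤ m) :
    (q + 2) * q ^ (2 * m) * (Kbar hF h H).relIndex (Lev1 e f) ≤
      H.relIndex (Est e) * Nat.card (Aset hF h H) := by
  have h1 := x_ge hF h H hm
  set b := Nat.card (Bset hF h H)
  set k := ksc hF (Bset hF h H)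
  set j := (Kbar hF h H).relIndex (Lev1 e f)
  set X := H.relIndex (Est e) * Nat.card (Aset hF h H)
  have hk2 : 2 ≤ k := two_le_ksc hF _
  have hbk : b * k ≤ q := ksc_mul_card_le hF _ (fun x hx => Bset_trace hF h H hx) hB'
  have hkb : k ≤ b := ksc_le_card hF _ hB
  obtain ⟨K, hK⟩ : ∃ K, k = K + 1 := ⟨k - 1, by omega⟩
  obtain ⟨Q, hQ⟩ : ∃ Q, q = Q + 1 := ⟨q - 1, by have := two_le_q hF; omega⟩
  have hK1 : 1 ≤ K := by omega
  rw [show q - 1 = Q by omega, show k - 1 = K by omega, pow_succ] at h1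
  replace h1 : Q * (q ^ (2 * m) * q) * j ≤ X * (b * K) := h1.trans (by
    rw [show X = H.relIndex (Est e) * Nat.card (Aset hF h H) from rfl]
    exact le_of_eq (by ring))
  refine Nat.le_of_mul_le_mul_left ?_ (show 0 < b * k * K from
    Nat.mul_pos (Nat.mul_pos Nat.card_pos (by omega)) hK1)
  have h2 : (q + 2) * (b * k) * K ≤ Q * q * k := by
    calc (q + 2) * (b * k) * K ≤ (q + 2) * q * K := by gcongr
      _ = q * ((q + 2) * K) := by ring
      _ ≤ q * (Q * k) := Nat.mul_le_mul_left _ (by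
          have : k * k ≤ q := (Nat.mul_le_mul_right _ hkb).trans hbk
          nlinarith)
      _ = _ := by ring
  calc b * k * K * ((q + 2) * q ^ (2 * m) * j) = (q + 2) * (b * k) * K * (q ^ (2 * m) * j) := by ring
    _ ≤ Q * q * k * (q ^ (2 * m) * j) := Nat.mul_le_mul_right _ h2
    _ = k * (Q * (q ^ (2 * m) * q) * j) := by ring
    _ ≤ k * (X * (b * K)) := Nat.mul_le_mul_left _ h1
    _ = b * k * K * X := by ring

end Cfsg.Agent.MinIndexUN
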