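import Cfsg.Agent.MinIndexUN.Cover
import Cfsg.Agent.Lib.Unitary.Generation

/-!
Orbits of `SU_d` on vectors and stable additive subgroups (helper10).
-/

set_option autoImplicit false

namespace Cfsg.Agent.MinIndexUN

open Matrix Cfsg.Agent.Unitary

variable {F : Type*} [Field F] [Fintype F] {q d : ℕ} (hF : Fintype.card F = q ^ 2)

include hF

theorem exists_move_iso (hd : 3 ≤ d) {z z' : Fin d → F} (hz : herm q z z = 0)
    (hz' : herm q z' z' = 0) (h0 : z ≠ 0) (h0' : z' ≠ 0) : ∃ g : SU d F q, g • z = z' := by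
  obtain ⟨t, -, ht⟩ := exists_move hF (S := (∅ : Finset (Fin d))) (u := z) (u' := z')
    (by simpa using hd) (by simp [supp_empty]) (by simp [supp_empty]) hz hz' h0 h0'
  exact ⟨t, ht⟩

theorem exists_move_norm (hd : 3 ≤ d) (hS : 4 ≤ d ∨ 3 ≤ q) {v v' : Fin d → F}
    (h0 : herm q v v ≠ 0) (he : herm q v' v' = herm q v v) : ∃ g : SU d F q, g • v = v' := by
  obtain ⟨a, ha⟩ := exists_norm_eq hF (herm_self_fixed hF v)
  have ha0 : a ≠ 0 := fun e => h0 (by simp [← ha, e])
  have key : ∀ x : Fin d → F, herm q x x = herm q v v → herm q (a⁻¹ • x) (a⁻¹ • x) = 1 := by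
    intro x hx
    rw [herm_smul_left, herm_smul_right hF, hx, ← ha, pow_succ, inv_pow]
    field_simp
  obtain ⟨t, -, ht⟩ := exists_move_norm_one hF (S := (∅ : Finset (Fin d)))
    (by simpa using hd) (by simpa using hS) (by simp [supp_empty]) (by simp [supp_empty])
    (key v rfl) (key v' he)
  exact ⟨t, smul_right_injective _ (inv_ne_zero ha0)
    (show a⁻¹ • (t • v) = a⁻¹ • v' by rw [← smul_comm t, ht])⟩

theorem card_iso_le (hd : 3 ≤ d) (K : Subgroup (SU d F q)) (A : Set (Fin d → F))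
    (hA : ∀ k ∈ K, ∀ v ∈ A, k • v ∈ A) {z : Fin d → F} (hzA : z ∈ A) (h0 : z ≠ 0)
    (hz : herm q z z = 0) :
    nvec d F q 0 - 1 ≤ K.index * {v | v ∈ A ∧ v ≠ 0 ∧ herm q v v = 0}.ncard := by
  have h1 : {v : Fin d → F | v ≠ 0 ∧ herm q v v = 0}.ncard = nvec d F q 0 - 1 := by
    rw [nvec, show {v : Fin d → F | v ≠ 0 ∧ herm q v v = 0} =
      {v : Fin d → F | herm q v v = 0} \ {0} by ext v; simp [and_comm],
      Set.ncard_sdiff_singleton_of_mem (by simp), ← Nat.card_coe_set_eq]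
    rfl
  rw [← h1, ← Subgroup.relIndex_top_right K]
  refine card_orbit_le (fun (g : SU d F q) (v : Fin d → F) => g • v) (v := z)
    (fun g _ k _ => mul_smul g k z) (Set.toFinite _) (fun w hw => ?_) fun k hk _ => ?_
  · obtain ⟨g, hg⟩ := exists_move_iso hF hd hz hw.2 h0 hw.1
    exact ⟨g, trivial, hg⟩
  · exact ⟨hA k hk z hzA, (smul_ne_zero_iff_ne k).2 h0, by rw [herm_smul_SU, hz]⟩

theorem card_norm_le (hd : 3 ≤ d) (hS : 4 ≤ d ∨ 3 ≤ q) (K : Subgroup (SU d F q))
    (A : Set (Fin d → F)) (hA : ∀ k ∈ K, ∀ v ∈ A, k • v ∈ A) {v : Fin d → F} (hvA : v ∈ A)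
    (h0 : herm q v v ≠ 0) :
    nvec d F q 1 ≤ K.index * {x | x ∈ A ∧ herm q x x = herm q v v}.ncard := by
  rw [← nvec_eq_one hF (herm_self_fixed hF v) h0, nvec, ← Subgroup.relIndex_top_right K]
  show Nat.card ({x : Fin d → F | herm q x x = herm q v v} : Set _) ≤ _
  rw [Nat.card_coe_set_eq]
  refine card_orbit_le (fun (g : SU d F q) (v : Fin d → F) => g • v) (v := v)
    (fun g _ k _ => mul_smul g k v) (Set.toFinite _) (fun w hw => ?_) fun k hk _ => ?_
  · obtain ⟨g, hg⟩ := exists_move_norm hF hd hS h0 hw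
    exact ⟨g, trivial, hg⟩
  · exact ⟨hA k hk v hvA, herm_smul_SU k v v⟩

theorem eq_zero_of_orth_isotropic (hd : 2 ≤ d) {v : Fin d → F}
    (hall : ∀ u : Fin d → F, herm q u u = 0 → herm q v u = 0) : v = 0 := by
  refine eq_zero_of_herm hF fun y => ?_
  have hy := exists_sum_isotropic hF (S := (∅ : Finset (Fin d))) (by simpa using hd)
    (x := y) (by simp [supp_empty])
  induction hy using AddSubmonoid.closure_induction with
  | mem y hy => exact hall y hy.2
  | zero => exact herm_zero_right hF v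
  | add y y' _ _ e e' => rw [herm_add_right hF, e, e', add_zero]

/-- An additive subgroup stable under `SU_d`. -/
theorem stable_eq_bot_or_top (hd : 3 ≤ d) (A : AddSubgroup (Fin d → F))
    (hA : ∀ g : SU d F q, ∀ v ∈ A, g • v ∈ A) : A = ⊥ ∨ A = ⊤ := by
  refine or_iff_not_imp_left.2 fun hne => ?_
  obtain ⟨v, hvA, hv0⟩ : ∃ v ∈ A, v ≠ 0 := by
    by_contra! hall
    exact hne (eq_bot_iff.2 fun x hx => hall x hx)
  obtain ⟨u, hu, hvu⟩ : ∃ u : Fin d → F, herm q u u = 0 ∧ herm q v u ≠ 0 := by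
    by_contra! hall
    exact hv0 (eq_zero_of_orth_isotropic hF (by omega) hall)
  obtain ⟨c, hc0, hc⟩ := exists_trace_zero_ne_zero hF
  have hz : (c * herm q v u) • u ∈ A := by
    have := sub_mem (hA (tv hF hu hc) v hvA) hvA
    rwa [tv_smul, add_sub_cancel_left] at this
  have hu0 : u ≠ 0 := fun e => hvu (by rw [e, herm_zero_right hF])
  refine eq_top_iff.2 fun x hxt => ?_
  clear hxt
  have hx := exists_sum_isotropic hF (S := (∅ : Finset (Fin d))) (by simp; omega) (x := x)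
    (by simp [supp_empty])
  induction hx using AddSubmonoid.closure_induction with
  | mem y hy =>
    by_cases hy0 : y = 0
    · rw [hy0]; exact zero_mem A
    · obtain ⟨g, hg⟩ := exists_move_iso hF hd (z := (c * herm q v u) • u)
        (by rw [herm_smul_left, herm_smul_right hF, hu, mul_zero, mul_zero]) hy.2
        (smul_ne_zero (mul_ne_zero hc0 hvu) hu0) hy0
      rw [← hg]
      exact hA g _ hz
  | zero => exact zero_mem A
  | add y y' _ _ e e' => exact add_mem e e'

end Cfsg.Agent.MinIndexUN
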