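import Cfsg.Agent.Lib.Unitary.Count
import Cfsg.Agent.Lib.Unitary.Moves
import Mathlib.LinearAlgebra.Matrix.SchurComplement

/-!
Pseudo-reflections and elements of `GU` with prescribed determinant (helper10).
-/

set_option autoImplicit false

namespace Cfsg.Agent.MinIndexUN

open Matrix Cfsg.Agent.Unitary

variable {F : Type*} [Field F] [Fintype F] {q d : ℕ} (hF : Fintype.card F = q ^ 2)

include hF

theorem exists_pseudo {r : Fin d → F} (hr : herm q r r ≠ 0) {lam : F}
    (hlam : lam ^ (q + 1) = 1) :
    ∃ g : GU d F q, (detGU g : F) = lam ∧ ∀ x, herm q x r = 0 → g • x = x := by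
  classical
  set s := herm q r r with hs
  have hsq : s ^ q = s := herm_self_fixed hF r
  set c := (lam - 1) / s with hc
  set M : Matrix (Fin d) (Fin d) F :=
    1 + Matrix.replicateCol Unit (c • r) * Matrix.replicateRow Unit (fun k => r k ^ q) with hM
  have hMv : ∀ x, M *ᵥ x = x + (c * herm q x r) • r := by
    intro x
    rw [hM, Matrix.add_mulVec, Matrix.one_mulVec, ← Matrix.mulVec_mulVec]
    congr 1
    funext k
    have e1 : ∑ l, r l ^ q * x l = herm q x r :=
      Finset.sum_congr rfl fun l _ => mul_comm _ _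
    simp only [Matrix.mulVec, dotProduct, Matrix.replicateCol_apply, Matrix.replicateRow_apply,
      Finset.univ_unique, Finset.sum_singleton, Pi.smul_apply, smul_eq_mul, e1]
    ring
  have hform : ∀ x y, herm q (M *ᵥ x) (M *ᵥ y) = herm q x y := by
    intro x y
    rw [hMv, hMv]
    simp only [herm_add_left, herm_add_right hF, herm_smul_left, herm_smul_right hF, mul_pow,
      ← herm_swap hF y r, ← hs]
    have e : c + c ^ q + c * c ^ q * s = 0 := by
      rw [hc, div_pow, sub_pow_q hF, one_pow, hsq]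
      field_simp
      rw [pow_succ] at hlam
      linear_combination hlam
    linear_combination (herm q x r * herm q r y) * e
  refine ⟨mkGU hF M hform, ?_, fun x hx => ?_⟩
  · show M.det = lam
    rw [hM, Matrix.det_one_add_replicateCol_mul_replicateRow]
    have e1 : (fun k => r k ^ q) ⬝ᵥ (c • r) = c * s := by
      rw [hs, herm, hermForm, Finset.mul_sum, dotProduct]
      refine Finset.sum_congr rfl fun l _ => ?_
      simp only [Pi.smul_apply, smul_eq_mul]
      ring
    rw [e1, hc, div_mul_cancel₀ _ hr]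
    ring
  · rw [mkGU_smul, hMv, hx, mul_zero, zero_smul, add_zero]

/-- Adjust the determinant. -/
theorem exists_adjust (G : GU d F q) {r : Fin d → F} (hr : herm q r r ≠ 0) {δ : F}
    (hδ : δ ^ (q + 1) = 1) :
    ∃ G' : GU d F q, (detGU G' : F) = δ ∧ ∀ x, herm q x r = 0 → G' • x = G • x := by
  have hG : (detGU G : F) ≠ 0 := Units.ne_zero _
  obtain ⟨P, hP, hfix⟩ := exists_pseudo hF hr (lam := δ / (detGU G : F))
    (by rw [div_pow, hδ, det_norm hF G, div_one])
  refine ⟨G * P, ?_, fun x hx => by rw [mul_smul, hfix x hx]⟩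
  rw [map_mul, Units.val_mul, hP, mul_div_cancel₀ _ hG]

/-- An element of `GU` scaling an isotropic vector, of any determinant. -/
theorem exists_scale_det (hd : 3 ≤ d) {w : Fin d → F} (hw : herm q w w = 0) (h0 : w ≠ 0) {a : F}
    (ha : a ≠ 0) {δ : F} (hδ : δ ^ (q + 1) = 1) :
    ∃ G : GU d F q, (detGU G : F) = δ ∧ G • w = a • w := by
  obtain ⟨v, -, hv, hwv⟩ := exists_partner hF (S := (∅ : Finset (Fin d))) (u := w)
    (by simp [supp_empty]) hw h0
  obtain ⟨r, -, hrw, -, hrr⟩ := exists_orth_norm hF (S := (∅ : Finset (Fin d)))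
    (by simpa using hd) (u := w) (v := v) (by simp [supp_empty]) (by simp [supp_empty])
    hw hv hwv (t := (1 : F)) (one_pow q)
  obtain ⟨G, -, hG, -⟩ := exists_fixGU_pair hF (S := (∅ : Finset (Fin d))) (u := w) (v := v)
    (u' := a • w) (v' := (a ^ q)⁻¹ • v) (by simp [supp_empty]) (by simp [supp_empty])
    (by simp [supp_empty]) (by simp [supp_empty]) hw hv hwv
    (by rw [herm_smul_left, herm_smul_right hF, hw, mul_zero, mul_zero])
    (by rw [herm_smul_left, herm_smul_right hF, hv, mul_zero, mul_zero])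
    (by rw [herm_smul_left, herm_smul_right hF, hwv, inv_pow, pow_q_pow_q hF, mul_one,
      mul_inv_cancel₀ ha])
  obtain ⟨G', h1, h2⟩ := exists_adjust hF G (r := r) (by rw [hrr]; exact one_ne_zero) hδ
  exact ⟨G', h1, by rw [h2 w ((herm_eq_zero_comm hF).1 hrw), hG]⟩

end Cfsg.Agent.MinIndexUN
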