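import Cfsg.Agent.MinIndexUN.Complement
import Cfsg.Agent.MinIndexUN.Counts
import Cfsg.Agent.MinIndexUN.Orbit
import Cfsg.Agent.MinIndexUN.Pseudo
import Cfsg.Agent.MinIndexUN.Factor

/-!
A point stabiliser which is exactly the Levi subgroup (helper10).
-/

set_option autoImplicit false

namespace Cfsg.Agent.MinIndexUN

open Matrix Cfsg.Agent.Unitary MulAction

variable {F : Type*} [Field F] [Fintype F] {q m : ℕ} (hF : Fintype.card F = q ^ 2)
variable {e f : Fin (m + 2) → F} (h : Std q e f) (H : Subgroup (SU (m + 2) F q))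

include hF h

/-- The standard pair reversed. -/
theorem Std.symm : Std q f e := ⟨h.ff, h.ee, h.fe hF, h.fs, h.es⟩

theorem herm_std (α β γ δ : F) (v w : Fin m → F) :
    herm q (α • e + β • f + jV m v) (γ • e + δ • f + jV m w) =
      α * δ ^ q + β * γ ^ q + herm q v w := by
  simp only [herm_add_left, herm_add_right hF, herm_smul_left, herm_smul_right hF, h.ee, h.ff,
    h.ef, h.fe hF, h.jV_e hF, h.jV_f hF, h.e_jV hF, h.f_jV hF, herm_jV_jV]
  ring

theorem tail2_std (α β : F) (v : Fin m → F) : tail2 (α • e + β • f + jV m v) = v := by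
  funext k
  have he' := congrFun h.es k
  have hf' := congrFun h.fs k
  have hu := congrFun (tail2_jV v) k
  simp only [tail2, Fin.tail, Pi.zero_apply] at he' hf' hu
  simp [tail2, Fin.tail, he', hf', hu]

theorem eq_of_std {α β γ δ : F} {v w : Fin m → F}
    (he : α • e + β • f + jV m v = γ • e + δ • f + jV m w) : α = γ ∧ β = δ ∧ v = w := by
  refine ⟨?_, ?_, by have := congrArg tail2 he; rwa [tail2_std hF h, tail2_std hF h] at this⟩
  · simpa [herm_add_left, herm_smul_left, h.ef, h.ff, h.jV_f hF] using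
      congrArg (fun x => herm q x f) he
  · simpa [herm_add_left, herm_smul_left, h.ee, h.fe hF, h.jV_e hF] using
      congrArg (fun x => herm q x e) he

/-- A standard Levi inside `H` and no radical: `e` is not moved onto `e + w`. -/
theorem no_move_to_sum (hm : 3 ≤ m) (hq : 3 ≤ q) (hQ : H ⊓ Qs hF h = ⊥) (hL : Lev e f ≤ H)
    (hEf : ∀ g ∈ H, g ∈ Est f → g ∈ Lev e f) {w : Fin m → F} (hw : herm q w w = 0) (hw0 : w ≠ 0)
    {g : SU (m + 2) F q} (hg : g ∈ H) {lam : F} (hlam : lam ≠ 0)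
    (hge : g • e = lam • (e + jV m w)) : False := by
  set x := e + jV m w with hx
  have hx' : x = (1 : F) • e + (0 : F) • f + jV m w := by rw [hx]; module
  set y := g • f with hy
  obtain ⟨α, β, v, hydec⟩ : ∃ α β v, y = α • e + β • f + jV m v := ⟨_, _, _, h.decomp hF y⟩
  have hyx : herm q y x = β + herm q v w := by
    rw [hydec, hx', herm_std hF h, one_pow, zero_pow_q hF]; ring
  have hyx0 : herm q y x ≠ 0 := by
    intro e0
    have h1 : herm q (g • f) (g • e) = 1 := by rw [herm_smul_SU, h.fe hF]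
    rw [hge, herm_smul_right hF, ← hy, e0, mul_zero] at h1
    exact zero_ne_one h1
  have key : ∀ l ∈ Lev (q := q) e f, ∀ s : F, s ≠ 0 → l • x = s • x →
      ∃ μ : F, l • y = μ • y := by
    intro l hl s hs hlx
    have hmem : g⁻¹ * l * g ∈ H := mul_mem (mul_mem (inv_mem hg) (hL hl)) hg
    have hE : g⁻¹ * l * g ∈ Est e := ⟨s, hs, by
      rw [mul_smul, mul_smul, hge, smul_comm l, hlx, smul_comm lam, smul_comm (g⁻¹) s, ← hge,
        inv_smul_smul]⟩
    obtain ⟨-, ⟨μ, -, hμ⟩⟩ := mem_Lev_of_trivial hF h H hQ hL hmem hE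
    rw [mul_smul, mul_smul, inv_smul_eq_iff, smul_comm g, ← hy] at hμ
    exact ⟨μ, hμ⟩
  have hfixed : ∀ g₀ : SU m F q, g₀ • w = w → jG m g₀ • y = y := by
    intro g₀ hg₀
    have hxx : jG m g₀ • x = x := by
      rw [hx, smul_add, h.jG_e, jG_smul_jV, hg₀]
    obtain ⟨μ, hμ⟩ := key _ (jG_mem_Lev hF h g₀) 1 one_ne_zero (by rw [one_smul]; exact hxx)
    have h1 := herm_smul_SU (jG m g₀) y x
    rw [hμ, hxx, herm_smul_left] at h1
    rw [hμ, (mul_eq_right₀ hyx0).1 h1, one_smul]
  have hv : ∀ g₀ : SU m F q, g₀ • w = w → g₀ • v = v := by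
    intro g₀ hg₀
    have h1 := hfixed g₀ hg₀
    rw [hydec, smul_add, smul_add, smul_comm _ α, smul_comm _ β, h.jG_e, h.jG_f, jG_smul_jV] at h1
    exact (eq_of_std hF h h1).2.2
  obtain ⟨c, hc0, hc⟩ := exists_trace_zero_ne_zero hF
  have hvw : herm q v w = 0 := by
    have h1 := hv (tv hF hw hc) (by rw [tv_smul, hw, mul_zero, zero_smul, add_zero])
    rw [tv_smul, add_eq_left, smul_eq_zero] at h1
    exact (mul_eq_zero.1 (h1.resolve_right hw0)).resolve_left hc0
  have hvr : ∀ r : Fin m → F, herm q r w = 0 → herm q v r = 0 := by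
    intro r hr
    obtain ⟨b, hb⟩ := exists_trace_eq hF (t := -herm q r r)
      (by rw [neg_pow_q hF, herm_self_fixed hF])
    have hwr : herm q w r = 0 := (herm_eq_zero_comm hF).1 hr
    have h1 := hv (Qel hF hw hr hb) (by rw [Qel_smul, hw, hwr]; simp)
    rw [Qel_smul, hvw] at h1
    simpa [hw0] using h1
  obtain ⟨w', -, hw', hww'⟩ := exists_partner hF (S := (∅ : Finset (Fin m))) (u := w)
    (by simp [supp_empty]) hw hw0
  set γ := herm q v w' with hγ
  have hvγ : v = γ • w := by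
    refine sub_eq_zero.1 (eq_zero_of_herm hF fun z => ?_)
    have hz : herm q (z - herm q z w • w') w = 0 := by
      rw [herm_sub_left, herm_smul_left, herm_one_swap hF hww', mul_one, sub_self]
    have h2 := hvr _ hz
    rw [herm_sub_right hF, herm_smul_right hF, ← hγ, ← herm_swap hF z w] at h2
    rw [herm_sub_left, herm_smul_left]
    linear_combination h2
  have hβ0 : β ≠ 0 := by simpa [hyx, hvw] using hyx0
  obtain ⟨a, ha0, ha⟩ : ∃ a : F, a ≠ 0 ∧ a ^ (q + 1) ≠ 1 := by
    by_contra! hall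
    have hle : Nat.card Fˣ ≤ Nat.card {x : F // x ^ (q + 1) = 1} :=
      Nat.card_le_card_of_injective (fun x => ⟨(x : F), hall _ x.ne_zero⟩)
        fun x x' e' => Units.ext (congrArg Subtype.val e')
    rw [Nat.card_units, Nat.card_eq_fintype_card (α := F), hF, card_norm_eq_one hF] at hle
    have : q + 2 < q ^ 2 := by nlinarith
    omega
  have haq : a ^ q ≠ 0 := pow_ne_zero _ ha0
  obtain ⟨G, hGd, hGw⟩ := exists_scale_det hF hm hw hw0 ha0 (δ := a ^ q / a) (by
    rw [div_pow, show (a ^ q) ^ (q + 1) = a ^ (q + 1) by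
      rw [pow_succ, pow_q_pow_q hF, pow_succ, mul_comm], div_self (pow_ne_zero _ ha0)])
  obtain ⟨l, hl, hle, hlv⟩ := exists_Lev_el hF h ha0 G (by rw [hGd, div_mul_cancel₀ _ ha0])
  obtain ⟨a', -, hle', hlf, -⟩ := Lev_data hF h hl
  obtain rfl : a' = a := smul_left_injective F (h.e_ne hF) (hle'.symm.trans hle)
  obtain ⟨μ, hμ⟩ := key l hl a' ha0 (by rw [hx, smul_add, hle, hlv, hGw, map_smul, smul_add])
  rw [hydec, hvγ, smul_add, smul_add, smul_comm l α, smul_comm l β, map_smul, smul_comm l γ, hle,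
    hlf, hlv, hGw, map_smul, smul_smul, smul_smul, smul_smul, smul_add, smul_add, smul_smul,
    smul_smul, smul_smul, ← map_smul, ← map_smul] at hμ
  obtain ⟨hα', hβ', hγ'⟩ := eq_of_std hF h hμ
  have hμa : μ = (a' ^ q)⁻¹ := mul_right_cancel₀ hβ0 (by rw [← hβ', mul_comm])
  have hne : a' ≠ (a' ^ q)⁻¹ := by
    intro e0
    apply ha
    rw [pow_succ]
    nth_rewrite 2 [e0]
    exact mul_inv_cancel₀ haq
  have hα0 : α = 0 := by
    have h2 : α * (a' - (a' ^ q)⁻¹) = 0 := by rw [hμa] at hα'; linear_combination hα'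
    exact (mul_eq_zero.1 h2).resolve_right (sub_ne_zero.2 hne)
  have hγ0 : γ = 0 := by
    have h2 : γ * a' = μ * γ := smul_left_injective F hw0 hγ'
    have h3 : γ * (a' - (a' ^ q)⁻¹) = 0 := by rw [hμa] at h2; linear_combination h2
    exact (mul_eq_zero.1 h3).resolve_right (sub_ne_zero.2 hne)
  have hgf : g ∈ Est f := ⟨β, hβ0, by
    rw [← hy, hydec, hvγ, hα0, hγ0, zero_smul, zero_smul, map_zero]; module⟩
  obtain ⟨⟨κ, -, hκ⟩, -⟩ := hEf g hg hgf
  rw [hge] at hκ
  have h1 : lam • e + (0 : F) • f + jV m (lam • w) = κ • e + (0 : F) • f + jV m 0 := by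
    rw [map_smul, map_zero, ← hκ, hx]; module
  exact hw0 ((smul_eq_zero.1 (eq_of_std hF h h1).2.2).resolve_left hlam)

/-- Trace-zero scalars are commutators. -/
theorem Bset_full_of_top (hm : 2 ≤ m) (hA : Aset hF h H = ⊤) :
    Nat.card (Bset hF h H) = q := by
  refine le_antisymm (card_Bset_le hF h H) ?_
  conv_lhs => rw [← card_trace_ker hF]
  obtain ⟨u, v, -, -, hu, hv, huv⟩ :=
    exists_std_pair hF (i := (⟨0, by omega⟩ : Fin m)) (j := ⟨1, by omega⟩) (by simp [Fin.ext_iff])
  refine Nat.card_le_card_of_injective (fun c : {x : F // x + x ^ q = 0} =>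
    (⟨c.1, by
      obtain ⟨δ, hδ⟩ := exists_sub_pow_eq hF c.2
      have := alt_mem hF h H (w := δ • u) (w' := v) (hA ▸ AddSubgroup.mem_top _)
        (hA ▸ AddSubgroup.mem_top _)
      rwa [herm_smul_left, herm_smul_right hF, huv, herm_one_swap hF huv, mul_one, mul_one, hδ]
        at this⟩ : Bset hF h H))
    fun x x' e' => Subtype.ext (congrArg (fun b : Bset hF h H => b.1) e')

theorem stable_Aset (hj : ∀ g : SU m F q, jG m g ∈ Kbar hF h H) (g : SU m F q) {v : Fin m → F}
    (hv : v ∈ Aset hF h H) : g • v ∈ Aset hF h H := by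
  have := Kbar_A hF h H (hj g) (a := 1) (by rw [one_smul, h.jG_e]) hv
  rwa [one_pow, one_smul, lact_jG hF h] at this

theorem Lev_le_Kbar (hL : Lev e f ≤ H) : Lev e f ≤ Kbar hF h H :=
  fun l hl => ⟨hl, 1, one_mem _, by rw [one_mul]; exact hL hl⟩

theorem card_stab_eq (hQ : H ⊓ Qs hF h = ⊥) (hL : Lev e f ≤ H) (p : IsoPt hF (m + 2)) {a : F}
    (ha : a ≠ 0) (hp : p.1.rep = a • e) :
    Nat.card (MulAction.stabilizer H p) = Nat.card (Lev (q := q) e f) := by
  refine Nat.card_congr
    { toFun := fun g => ⟨g.1.1, mem_Lev_of_trivial hF h H hQ hL g.1.2 ?_⟩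
      invFun := fun l => ⟨⟨l.1, hL l.2⟩, ?_⟩
      left_inv := fun _ => rfl
      right_inv := fun _ => rfl }
  · obtain ⟨g, hg⟩ := g
    have h1 : (g : SU (m + 2) F q) ∈ MulAction.stabilizer (SU (m + 2) F q) p := hg
    rwa [stab_eq hF, hp, Est_smul ha] at h1
  · show (l.1 : SU (m + 2) F q) ∈ MulAction.stabilizer (SU (m + 2) F q) p
    rw [stab_eq hF, hp, Est_smul ha]
    exact l.2.1

theorem index_ge_of_Lev (hm : 3 ≤ m) (hq : 3 ≤ q) (hne : H ≠ ⊤) (hQ : H ⊓ Qs hF h = ⊥)
    (hL : Lev e f ≤ H) : Nat.card (IsoPt hF (m + 2)) ≤ H.index := by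
  classical
  by_contra hlt
  push Not at hlt
  have hs : Std q f e := Std.symm hF h
  haveI := finite_pts hF (m + 2)
  obtain ⟨p, a, ha, hp⟩ := exists_pt hF (h.e_ne hF) h.ee
  obtain ⟨r, b, hb, hr⟩ := exists_pt hF (h.f_ne hF) h.ff
  have hpos : 0 < Nat.card (IsoPt hF (m + 2)) := Nat.card_pos_iff.2 ⟨⟨p⟩, inferInstance⟩
  have hi : 0 < H.index := Nat.pos_of_ne_zero Subgroup.index_ne_zero_of_finite
  have hAe : Aset hF h H = ⊥ ∧ Nat.card (Bset hF h H) = 1 := by
    have h1 : Nat.card (Aset hF h H) * Nat.card (Bset hF h H) = 1 := by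
      rw [← card_inf_Qs hF h H, hQ, Subgroup.card_bot]
    obtain ⟨h2, h3⟩ := mul_eq_one.1 h1
    exact ⟨AddSubgroup.card_eq_one.1 h2, h3⟩
  have hxp : q ^ (2 * m + 1) ≤ H.relIndex (Est e) := by
    have h1 := x_ge_Lev hF h H
    rw [hAe.1, hAe.2, Nat.card_unique, mul_one, mul_one] at h1
    refine le_trans (Nat.le_mul_of_pos_right _ ?_) h1
    exact Nat.pos_of_ne_zero Subgroup.index_ne_zero_of_finite
  have horb : ∀ {s : IsoPt hF (m + 2)} {u : Fin (m + 2) → F} {c : F} {k : ℕ}, c ≠ 0 →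
      s.1.rep = c • u → k ≤ H.relIndex (Est u) → 1 ≤ k →
        k < Nat.card (MulAction.orbit H s) := by
    intro s u c k hc hs' hk hk1
    have h1 := index_mul_card_orbit hF H s
    rw [hs', Est_smul hc] at h1
    by_contra hle
    push Not at hle
    have h2 : H.index * Nat.card (MulAction.orbit H s) < Nat.card (IsoPt hF (m + 2)) * k :=
      lt_of_le_of_lt (Nat.mul_le_mul_left _ hle) (Nat.mul_lt_mul_of_pos_right hlt hk1)
    have h3 : Nat.card (IsoPt hF (m + 2)) * k ≤
        Nat.card (IsoPt hF (m + 2)) * H.relIndex (Est u) := Nat.mul_le_mul_left _ hk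
    rw [h1, mul_comm] at h2
    omega
  have hOp := horb ha hp hxp (Nat.one_le_pow _ _ (by omega))
  -- the point of `f` is in the orbit of the point of `e`
  have hL' : Lev (q := q) f e ≤ H := fun l hl => hL ⟨hl.2, hl.1⟩
  have hjf : ∀ g : SU m F q, jG m g ∈ Kbar hF hs H := fun g =>
    Lev_le_Kbar hF hs H hL' (jG_mem_Lev hF hs g)
  have hArf : Aset hF hs H = ⊥ := by
    refine (stable_eq_bot_or_top hF hm _ fun g v hv => stable_Aset hF hs H hjf g hv).resolve_right
      fun htop => ?_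
    have hle : Est f ≤ H := Est_le hF hs H
      (Qs_le_of_full hF hs H htop (Bset_full_of_top hF hs H (by omega) htop)) hL'
    haveI := isPreprimitive_points hF (n := m + 2) (by omega) (fun hh => by omega)
    haveI : Nontrivial (IsoPt hF (m + 2)) := by
      refine ⟨p, r, fun e0 => ?_⟩
      have h1 : herm q p.1.rep r.1.rep = 0 := by rw [e0]; exact r.2
      rw [hp, hr, herm_smul_left, herm_smul_right hF, h.ef, mul_one] at h1
      exact (mul_ne_zero ha (pow_ne_zero _ hb)) h1
    have hco := MulAction.IsPreprimitive.isCoatom_stabilizer_of_isPreprimitive (G := SU (m + 2) F q) r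
    rw [stab_eq hF, hr, Est_smul hb] at hco
    rcases hco.le_iff.1 hle with e0 | e0
    · exact hne e0
    · rw [e0, ← index_Est hF r, hr, Est_smul hb] at hlt
      exact lt_irrefl _ hlt
  have hxr : q ^ (2 * m) ≤ H.relIndex (Est f) := by
    have h1 := x_ge_Lev hF hs H
    rw [hArf, Nat.card_unique, one_mul] at h1
    refine Nat.le_of_mul_le_mul_right ?_ (q_pos hF)
    rw [← pow_succ]
    refine le_trans (Nat.le_mul_of_pos_right _
      (Nat.pos_of_ne_zero Subgroup.index_ne_zero_of_finite)) (h1.trans ?_)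
    exact Nat.mul_le_mul_left _ (card_Bset_le hF hs H)
  have hOr := horb hb hr hxr (Nat.one_le_pow _ _ (by omega))
  have hN := card_pts_step hF m (by omega)
  have hsm := pts_small hF hq (show 1 ≤ m by omega)
  have hsame : MulAction.orbit H r = MulAction.orbit H p := by
    by_contra hdiff
    have hd : Disjoint (MulAction.orbit H p) (MulAction.orbit H r) := by
      rw [Set.disjoint_left]
      intro s hs1 hs2
      exact hdiff ((MulAction.orbit_eq_iff.2 hs2).symm.trans (MulAction.orbit_eq_iff.2 hs1))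
    have := Set.ncard_union_eq hd (Set.toFinite _) (Set.toFinite _)
    have hle := Set.ncard_le_card (MulAction.orbit H p ∪ MulAction.orbit H r)
    rw [← Nat.card_coe_set_eq (MulAction.orbit H p), ← Nat.card_coe_set_eq (MulAction.orbit H r)]
      at this
    omega
  have hr_mem : r ∈ MulAction.orbit H p := hsame ▸ MulAction.mem_orbit_self r
  -- stabilisers of the two points
  have hEf : ∀ g ∈ H, g ∈ Est f → g ∈ Lev e f := by
    have hcard : Nat.card (MulAction.stabilizer H r) = Nat.card (Lev (q := q) e f) := by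
      rw [← card_stab_eq hF h H hQ hL p ha hp]
      obtain ⟨k, rfl⟩ := hr_mem
      rw [MulAction.stabilizer_smul_eq_stabilizer_map_conj]
      exact Subgroup.card_map_of_injective (MulAut.conj k).injective
    let φ : Lev (q := q) e f → MulAction.stabilizer H r := fun l => ⟨⟨l.1, hL l.2⟩, by
      show (l.1 : SU (m + 2) F q) ∈ MulAction.stabilizer (SU (m + 2) F q) r
      rw [stab_eq hF, hr, Est_smul hb]
      exact l.2.2⟩
    have hφ : Function.Injective φ := fun l l' e0 =>
      Subtype.ext (congrArg (fun z : MulAction.stabilizer H r => (z.1 : SU (m + 2) F q)) e0)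
    have hsur := (hφ.bijective_of_nat_card_le hcard.le).2
    intro g hg hgf
    obtain ⟨l, hl⟩ := hsur ⟨⟨g, hg⟩, by
      show g ∈ MulAction.stabilizer (SU (m + 2) F q) r
      rw [stab_eq hF, hr, Est_smul hb]
      exact hgf⟩
    rw [← show (l.1 : SU (m + 2) F q) = g from
      congrArg (fun z : MulAction.stabilizer H r => (z.1 : SU (m + 2) F q)) hl]
    exact l.2
  have hEe : ∀ g ∈ H, g ∈ Est e → g ∈ Lev f e := fun g hg hge =>
    let hh := mem_Lev_of_trivial hF h H hQ hL hg hge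
    ⟨hh.2, hh.1⟩
  have hQr : H ⊓ Qs hF hs = ⊥ := by
    rw [eq_bot_iff]
    rintro g ⟨hgH, hgQ⟩
    obtain ⟨w, b', hb', rfl⟩ := hgQ
    obtain ⟨κ, -, hκ⟩ := (hEf _ hgH (Qs_le_Est hF hs ⟨w, b', hb', rfl⟩)).1
    rw [Qg_f hF hs] at hκ
    have h1 : (1 : F) • e + b' • f + jV m w = κ • e + (0 : F) • f + jV m 0 := by
      rw [map_zero, zero_smul, add_zero, add_zero, ← hκ]; module
    obtain ⟨-, rfl, rfl⟩ := eq_of_std hF h h1
    exact Qg_one hF hs
  -- some `e + w` or `f + w` is in the orbit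
  have hw0of : ∀ {w : Fin m → F}, w ≠ 0 → e + jV m w ≠ 0 := fun {w} hw h0 => by
    have h1 : (1 : F) • e + (0 : F) • f + jV m w = (0 : F) • e + (0 : F) • f + jV m 0 := by
      rw [map_zero, one_smul, zero_smul, zero_smul, add_zero, add_zero, add_zero]; exact h0
    exact one_ne_zero (eq_of_std hF h h1).1
  let W := {w : Fin m → F | w ≠ 0 ∧ herm q w w = 0}
  have hW : W.ncard + 1 = Nat.card (IsoPt hF m) * (q ^ 2 - 1) + 1 := by
    rw [card_pts_mul hF, nvec, show W = {v : Fin m → F | herm q v v = 0} \ {0} by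
      ext v; simp [W, and_comm], Set.ncard_sdiff_singleton_add_one (by simp) (Set.toFinite _),
      ← Nat.card_coe_set_eq]
    rfl
  choose P c hc hP using fun w : W => exists_pt hF (n := m + 2) (w := e + jV m w.1) (hw0of w.2.1)
    (by rw [herm_add_left, herm_add_right hF, herm_add_right hF, h.ee, h.e_jV hF, h.jV_e hF,
      herm_jV_jV, w.2.2]; simp)
  choose P' c' hc' hP' using fun w : W => exists_pt hF (n := m + 2) (w := f + jV m w.1)
    (fun h0 => by
      have h1 : (0 : F) • e + (1 : F) • f + jV m w.1 = (0 : F) • e + (0 : F) • f + jV m 0 := by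
        rw [map_zero, one_smul, zero_smul, zero_smul, zero_add, zero_add, add_zero]; exact h0
      exact one_ne_zero (eq_of_std hF h h1).2.1)
    (by rw [herm_add_left, herm_add_right hF, herm_add_right hF, h.ff, h.f_jV hF, h.jV_f hF,
      herm_jV_jV, w.2.2]; simp)
  have hstd : ∀ w : W, (P w).1.rep = c w • e + (0 : F) • f + jV m (c w • w.1) := fun w => by
    rw [hP, map_smul]; module
  have hstd' : ∀ w : W, (P' w).1.rep = (0 : F) • e + c' w • f + jV m (c' w • w.1) := fun w => by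
    rw [hP', map_smul]; module
  have hPinj : Function.Injective P := fun w w' e0 => by
    have h1 := congrArg (fun z : IsoPt hF (m + 2) => z.1.rep) e0
    simp only [hstd] at h1
    obtain ⟨h2, -, h3⟩ := eq_of_std hF h h1
    rw [h2] at h3
    exact Subtype.ext (smul_right_injective _ (hc w') h3)
  have hP'inj : Function.Injective P' := fun w w' e0 => by
    have h1 := congrArg (fun z : IsoPt hF (m + 2) => z.1.rep) e0
    simp only [hstd'] at h1
    obtain ⟨-, h2, h3⟩ := eq_of_std hF h h1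
    rw [h2] at h3
    exact Subtype.ext (smul_right_injective _ (hc' w') h3)
  have hPP' : Disjoint (Set.range P) (Set.range P') := by
    rw [Set.disjoint_left]
    rintro _ ⟨w, rfl⟩ ⟨w', e0⟩
    have h1 := congrArg (fun z : IsoPt hF (m + 2) => z.1.rep) e0
    simp only [hstd, hstd'] at h1
    exact hc' w' (eq_of_std hF h h1).2.1
  by_cases hmeet : ∃ w : W, P w ∈ MulAction.orbit H p
  · obtain ⟨w, ⟨g, hg⟩, hgp⟩ := hmeet
    obtain ⟨lam, hlam, hl⟩ := rep_smul_of_eq hF (g := g) (p := p) (p' := P w) hgp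
    rw [hp, hP, smul_comm g, smul_smul] at hl
    exact no_move_to_sum hF h H hm hq hQ hL hEf w.2.2 w.2.1 hg
      (lam := a⁻¹ * (lam * c w)) (mul_ne_zero (inv_ne_zero ha) (mul_ne_zero hlam (hc w))) (by
        rw [← smul_smul, ← hl, inv_smul_smul₀ ha])
  by_cases hmeet' : ∃ w : W, P' w ∈ MulAction.orbit H p
  · obtain ⟨w, hw⟩ := hmeet'
    rw [← hsame] at hw
    obtain ⟨⟨g, hg⟩, hgp⟩ := hw
    obtain ⟨lam, hlam, hl⟩ := rep_smul_of_eq hF (g := g) (p := r) (p' := P' w) hgp
    rw [hr, hP', smul_comm g, smul_smul] at hl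
    exact no_move_to_sum hF hs H hm hq hQr hL' hEe w.2.2 w.2.1 hg
      (lam := b⁻¹ * (lam * c' w)) (mul_ne_zero (inv_ne_zero hb) (mul_ne_zero hlam (hc' w))) (by
        rw [← smul_smul, ← hl, inv_smul_smul₀ hb])
  have hd1 : Disjoint (MulAction.orbit H p) (Set.range P ∪ Set.range P') := by
    rw [Set.disjoint_left]
    rintro s hs1 (⟨w, rfl⟩ | ⟨w, rfl⟩)
    · exact hmeet ⟨w, hs1⟩
    · exact hmeet' ⟨w, hs1⟩
  have h1 := Set.ncard_union_eq hd1 (Set.toFinite _) (Set.toFinite _)
  have h2 := Set.ncard_le_card (MulAction.orbit H p ∪ (Set.range P ∪ Set.range P'))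
  rw [Set.ncard_union_eq hPP' (Set.toFinite _) (Set.toFinite _), Set.ncard_range_of_injective hPinj,
    Set.ncard_range_of_injective hP'inj, ← Nat.card_coe_set_eq (MulAction.orbit H p),
    Nat.card_coe_set_eq W] at h1
  have h9 : 9 ≤ q ^ 2 := by nlinarith
  have hpm : 0 < Nat.card (IsoPt hF m) :=
    lt_of_lt_of_le (pow_pos (q_pos hF) _) (pts_lower hF hm)
  have h4 : q ^ 2 * Nat.card (IsoPt hF m) < 2 * (Nat.card (IsoPt hF m) * (q ^ 2 - 1)) := by
    calc q ^ 2 * Nat.card (IsoPt hF m) < 2 * (q ^ 2 - 1) * Nat.card (IsoPt hF m) :=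
          Nat.mul_lt_mul_of_pos_right (by omega) hpm
      _ = _ := by ring
  omega

end Cfsg.Agent.MinIndexUN
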