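import Cfsg.Agent.MinIndexUN.Radical
import Mathlib.GroupTheory.GroupAction.Primitive

/-!
Points, their stabilisers and the reduction to a standard point (helper10).
-/

set_option autoImplicit false

namespace Cfsg.Agent.MinIndexUN

open Matrix Cfsg.Agent.Unitary MulAction
open scoped LinearAlgebra.Projectivization

variable {F : Type*} [Field F] [Fintype F] {q m : ℕ} (hF : Fintype.card F = q ^ 2)

include hF

theorem finite_pts (n : ℕ) : Finite (IsoPt hF n) :=
  inferInstanceAs (Finite {p : ℙ F (Fin n → F) // herm q p.rep p.rep = 0})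

theorem exists_iso_vec {n : ℕ} (hn : 2 ≤ n) : ∃ w : Fin n → F, w ≠ 0 ∧ herm q w w = 0 := by
  obtain ⟨u, v, -, -, hu, -, huv⟩ :=
    exists_std_pair hF (i := (⟨0, by omega⟩ : Fin n)) (j := ⟨1, by omega⟩) (by simp [Fin.ext_iff])
  exact ⟨u, ne_zero_of_herm_one hF huv, hu⟩

/-- The number of points. -/
theorem card_pts_mul (n : ℕ) :
    Nat.card (IsoPt hF n) * (q ^ 2 - 1) + 1 = nvec n F q 0 := by
  classical
  haveI := finite_pts hF n
  let V := {v : Fin n → F // v ≠ 0 ∧ herm q v v = 0}
  have hV : Nat.card V + 1 = nvec n F q 0 := by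
    rw [nvec, ← Nat.card_congr (Equiv.optionSubtypeNe (⟨0, herm_zero_left 0⟩ :
      {v : Fin n → F // herm q v v = 0})), Finite.card_option]
    congr 1
    exact Nat.card_congr
      { toFun := fun v => ⟨⟨v.1, v.2.2⟩, fun e => v.2.1 (congrArg Subtype.val e)⟩
        invFun := fun v => ⟨v.1.1, fun e => v.2 (Subtype.ext e), v.1.2⟩
        left_inv := fun _ => rfl
        right_inv := fun _ => rfl }
  have hVP : Nat.card (IsoPt hF n × Fˣ) = Nat.card V := by
    refine Nat.card_eq_of_bijective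
      (fun pa : IsoPt hF n × Fˣ => (⟨(pa.2 : F) • pa.1.1.rep,
        smul_ne_zero pa.2.ne_zero pa.1.1.rep_nonzero,
        by rw [herm_smul_left, herm_smul_right hF, pa.1.2, mul_zero, mul_zero]⟩ : V)) ⟨?_, ?_⟩
    · rintro ⟨p, a⟩ ⟨p', a'⟩ e
      have e' : (a : F) • p.1.rep = (a' : F) • p'.1.rep := congrArg Subtype.val e
      have hp : p = p' := by
        by_contra hne
        refine ne_smul_of_ne hF hne ((a : F)⁻¹ * (a' : F)) ?_
        rw [← smul_smul, ← e', inv_smul_smul₀ a.ne_zero]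
      subst hp
      exact Prod.ext rfl (Units.ext (smul_left_injective F p.1.rep_nonzero e'))
    · rintro ⟨v, hv, hvv⟩
      obtain ⟨p, a, ha, hp⟩ := exists_pt hF hv hvv
      exact ⟨(p, Units.mk0 a⁻¹ (inv_ne_zero ha)), Subtype.ext (by
        show a⁻¹ • p.1.rep = v
        rw [hp, inv_smul_smul₀ ha])⟩
  rw [← hV, ← hVP, Nat.card_prod, Nat.card_units, Nat.card_eq_fintype_card (α := F), hF]

theorem card_pts_formula (n : ℕ) :
    Nat.card (IsoPt hF n) * (q ^ 2 - 1) =
      if Even n then (q ^ n - 1) * (q ^ (n - 1) + 1) else (q ^ n + 1) * (q ^ (n - 1) - 1) := by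
  have := card_pts_mul hF n
  rw [nvec_zero_formula hF n] at this
  omega

theorem rep_smul_of_eq {n : ℕ} {g : SU n F q} {p p' : IsoPt hF n} (hg : g • p = p') :
    ∃ a : F, a ≠ 0 ∧ g • p.1.rep = a • p'.1.rep := by
  have h1 : g • p.1 = p'.1 := congrArg Subtype.val hg
  rw [← p.1.mk_rep, smul_mk_SU, ← p'.1.mk_rep] at h1
  obtain ⟨a, ha⟩ := (Projectivization.mk_eq_mk_iff' F _ _ _ _).1 h1
  exact ⟨a, fun e => (smul_ne_zero_iff_ne g).2 p.1.rep_nonzero (by rw [← ha, e, zero_smul]),
    ha.symm⟩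

theorem stab_eq (p : IsoPt hF (m + 2)) :
    MulAction.stabilizer (SU (m + 2) F q) p = Est p.1.rep := by
  ext g
  exact ⟨fun hg => rep_smul_of_eq hF hg, fun ⟨a, _, ha⟩ => smul_eq_of_rep hF ha⟩

omit hF in
theorem Est_smul {a : F} (ha : a ≠ 0) (w : Fin (m + 2) → F) :
    Est (q := q) (a • w) = Est w := by
  ext g
  constructor
  · rintro ⟨b, hb, hg⟩
    exact ⟨b, hb, smul_right_injective _ ha (by
      show a • (g • w) = a • (b • w)
      rw [← smul_comm g, hg, smul_comm a])⟩
  · rintro ⟨b, hb, hg⟩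
    exact ⟨b, hb, by rw [smul_comm g, hg, smul_comm a]⟩

theorem index_Est (p : IsoPt hF (m + 2)) :
    (Est (q := q) p.1.rep).index = Nat.card (IsoPt hF (m + 2)) := by
  haveI := isPretransitive_points hF (n := m + 2)
  rw [← stab_eq hF p, MulAction.index_stabilizer_of_transitive]

/-- The index formula at a point. -/
theorem index_mul_card_orbit (H : Subgroup (SU (m + 2) F q)) (p : IsoPt hF (m + 2)) :
    H.index * Nat.card (MulAction.orbit H p) =
      H.relIndex (Est p.1.rep) * Nat.card (IsoPt hF (m + 2)) := by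
  have h1 : Nat.card (MulAction.orbit H p) = (Est (q := q) p.1.rep).relIndex H := by
    rw [Nat.card_coe_set_eq, ← MulAction.index_stabilizer]
    show _ = ((Est (q := q) p.1.rep).subgroupOf H).index
    rw [← stab_eq hF p]
    rfl
  rw [h1, ← index_Est hF p, ← Subgroup.inf_relIndex_left H, ← Subgroup.inf_relIndex_right H]
  rw [mul_comm H.index, Subgroup.relIndex_mul_index inf_le_left,
    Subgroup.relIndex_mul_index inf_le_right]

theorem relIndex_le_index {n : ℕ} (H K : Subgroup (SU n F q)) : H.relIndex K ≤ H.index := by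
  rw [← Subgroup.relIndex_top_right]
  exact Subgroup.relIndex_le_of_le_right le_top Subgroup.index_ne_zero_of_finite

/-- `H` contains every transvection at `w`. -/
def FullAt (hF : Fintype.card F = q ^ 2) {n : ℕ} (H : Subgroup (SU n F q)) (w : Fin n → F) :
    Prop :=
  ∀ (c : F) (hw : herm q w w = 0) (hc : c + c ^ q = 0), tv hF hw hc ∈ H

theorem FullAt_smul {n : ℕ} {H : Subgroup (SU n F q)} {w : Fin n → F} (a : F)
    (hw : herm q w w = 0) (hfull : FullAt hF H w) : FullAt hF H (a • w) := by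
  intro c hw' hc
  have hn : (a * a ^ q) ^ q = a * a ^ q := by rw [mul_pow, pow_q_pow_q hF, mul_comm]
  have hc' : a * a ^ q * c + (a * a ^ q * c) ^ q = 0 := by
    rw [mul_pow, hn]; linear_combination (a * a ^ q) * hc
  have : tv hF hw' hc = tv hF hw hc' := eq_of_smul_eq_SU fun x => by
    rw [tv_smul, tv_smul, herm_smul_right hF, smul_smul]
    congr 2
    ring
  rw [this]
  exact hfull _ hw hc'

theorem eq_top_of_all_full {n : ℕ} (h32 : ¬ (n = 3 ∧ q = 2)) {H : Subgroup (SU n F q)}
    (hall : ∀ w : Fin n → F, w ≠ 0 → herm q w w = 0 → FullAt hF H w) : H = ⊤ := by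
  rw [eq_top_iff, ← tvGroup_empty hF h32, tvGroup, Subgroup.closure_le]
  rintro _ ⟨u, c, hu, hc, -, rfl⟩
  by_cases hu0 : u = 0
  · have : tv hF hu hc = 1 := eq_of_smul_eq_SU fun x => by rw [tv_smul, hu0]; simp
    rw [this]
    exact one_mem _
  · exact hall u hu0 hu c hu hc

theorem Qg_zero_eq_tv {e f : Fin (m + 2) → F} (h : Std q e f) {b : F}
    (hb : b + b ^ q = -herm q (0 : Fin m → F) 0) (hb' : b + b ^ q = 0) :
    Qg hF h 0 hb = tv hF h.ee hb' := eq_of_smul_eq_SU fun x => by
  rw [Qg_smul hF h, tv_smul]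
  simp [herm_zero_right hF]

theorem card_Bset_le {e f : Fin (m + 2) → F} (h : Std q e f) (H : Subgroup (SU (m + 2) F q)) :
    Nat.card (Bset hF h H) ≤ q :=
  (Nat.card_le_card_of_injective
    (fun b : Bset hF h H => (⟨b.1, Bset_trace hF h H b.2⟩ : {x : F // x + x ^ q = 0}))
    fun b b' e' => Subtype.ext (congrArg (fun x : {x : F // x + x ^ q = 0} => x.1) e')).trans
    (card_trace_ker hF).le

theorem FullAt_iff_card {e f : Fin (m + 2) → F} (h : Std q e f)
    (H : Subgroup (SU (m + 2) F q)) : FullAt hF H e ↔ Nat.card (Bset hF h H) = q := by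
  constructor
  · intro hfull
    refine le_antisymm (card_Bset_le hF h H) ?_
    conv_lhs => rw [← card_trace_ker hF]
    refine Nat.card_le_card_of_injective (fun x : {x : F // x + x ^ q = 0} =>
      (⟨x.1, by simpa using x.2, by
        rw [Qg_zero_eq_tv hF h _ x.2]; exact hfull _ h.ee x.2⟩ : Bset hF h H))
      fun x x' e' => Subtype.ext (congrArg (fun b : Bset hF h H => b.1) e')
  · intro hc c hw hcc
    have hinj : Function.Injective
        (fun b : Bset hF h H => (⟨b.1, Bset_trace hF h H b.2⟩ : {x : F // x + x ^ q = 0})) :=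
      fun b b' e' => Subtype.ext (congrArg (fun x : {x : F // x + x ^ q = 0} => x.1) e')
    obtain ⟨⟨b, hb, hH⟩, hbc⟩ := (Function.Injective.bijective_of_nat_card_le hinj
      (by rw [card_trace_ker hF, hc])).2 ⟨c, hcc⟩
    obtain rfl : b = c := congrArg Subtype.val hbc
    rwa [Qg_zero_eq_tv hF h hb hcc] at hH

/-- A proper subgroup is, up to conjugation, not full at the standard point. -/
theorem exists_conj_not_full {e f : Fin (m + 2) → F} (h : Std q e f)
    (h32 : ¬ (m + 2 = 3 ∧ q = 2)) {H : Subgroup (SU (m + 2) F q)} (hH : H ≠ ⊤) :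
    ∃ H' : Subgroup (SU (m + 2) F q), H'.index = H.index ∧ H' ≠ ⊤ ∧
      Nat.card (Bset hF h H') ≠ q := by
  obtain ⟨w, hw0, hww, hnf⟩ : ∃ w : Fin (m + 2) → F, w ≠ 0 ∧ herm q w w = 0 ∧ ¬ FullAt hF H w := by
    by_contra! hall
    exact hH (eq_top_of_all_full hF h32 hall)
  obtain ⟨g, -, a, ha, hg⟩ := exists_move_point hF (S := ∅) (u := w) (u' := e)
    (by simp [supp_empty]) (by simp [supp_empty]) hww h.ee hw0 (h.e_ne hF)
  have hidx : (H.map (MulAut.conj g).toMonoidHom).index = H.index :=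
    Subgroup.index_map_equiv H (MulAut.conj g)
  refine ⟨H.map (MulAut.conj g).toMonoidHom, hidx, fun e' => hH ?_, fun hq' => hnf ?_⟩
  · rw [← Subgroup.index_eq_one, ← hidx, e', Subgroup.index_top]
  · intro c hw hc
    have hfull := FullAt_smul hF a h.ee ((FullAt_iff_card hF h _).2 hq')
    obtain ⟨x, hx, hxe⟩ := hfull c
      (by rw [herm_smul_left, herm_smul_right hF, h.ee, mul_zero, mul_zero]) hc
    have e1 : tv hF ((herm_smul_SU g w w).trans hw) hc =
        tv hF (show herm q (a • e) (a • e) = 0 by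
          rw [herm_smul_left, herm_smul_right hF, h.ee, mul_zero, mul_zero]) hc :=
      eq_of_smul_eq_SU fun x => by rw [tv_smul, tv_smul, hg]
    have e2 : g * tv hF hw hc * g⁻¹ = g * x * g⁻¹ := by
      rw [conj_tv hF g hw hc, e1, ← hxe]
      rfl
    rwa [mul_left_cancel (mul_right_cancel e2)]

end Cfsg.Agent.MinIndexUN
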