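import Cfsg.Agent.MinIndexUN.Radical
import Cfsg.Agent.MinIndexUN.Points

/-!
`Est e = Qs · Lev` (helper10).
-/

set_option autoImplicit false

namespace Cfsg.Agent.MinIndexUN

open Matrix Cfsg.Agent.Unitary

variable {F : Type*} [Field F] [Fintype F] {q m : ℕ} (hF : Fintype.card F = q ^ 2)
variable {e f : Fin (m + 2) → F} (h : Std q e f) (H : Subgroup (SU (m + 2) F q))

include hF h

theorem exists_dec {g : SU (m + 2) F q} (hg : g ∈ Est e) :
    ∃ x ∈ Qs hF h, ∃ l ∈ Lev (q := q) e f, g = x * l := by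
  obtain ⟨a, ha, hge⟩ := hg
  have haq : a ^ q ≠ 0 := pow_ne_zero _ ha
  set y := g • f with hy
  set β := herm q y f with hβ
  set w' := tail2 y with hw'
  have hye : herm q y e = (a ^ q)⁻¹ := by
    have h1 := herm_smul_SU g f e
    rw [hge, herm_smul_right hF, h.fe hF] at h1
    exact eq_inv_of_mul_eq_one_right h1
  have hdec : y = β • e + (a ^ q)⁻¹ • f + jV m w' := by rw [← hye]; exact h.decomp hF y
  have hiso : herm q y y = 0 := by rw [hy, herm_smul_SU, h.ff]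
  rw [hdec] at hiso
  simp only [herm_add_left, herm_add_right hF, herm_smul_left, herm_smul_right hF, h.ee, h.ff,
    h.ef, h.fe hF, h.jV_e hF, h.jV_f hF, h.e_jV hF, h.f_jV hF, herm_jV_jV, inv_pow,
    pow_q_pow_q hF] at hiso
  have hb : a ^ q * β + (a ^ q * β) ^ q = -herm q (a ^ q • w') (a ^ q • w') := by
    rw [mul_pow, herm_smul_left, herm_smul_right hF, pow_q_pow_q hF]
    field_simp at hiso ⊢
    linear_combination hiso
  set x := Qg hF h (a ^ q • w') hb with hx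
  refine ⟨x, ⟨_, _, _, rfl⟩, x⁻¹ * g, ⟨⟨a, ha, ?_⟩, ⟨(a ^ q)⁻¹, inv_ne_zero haq, ?_⟩⟩,
    (mul_inv_cancel_left x g).symm⟩
  · rw [mul_smul, inv_smul_eq_iff, hge, smul_comm x, hx, Qg_e]
  · rw [mul_smul, inv_smul_eq_iff, ← hy, hdec, smul_comm x, hx, Qg_f, map_smul]
    match_scalars <;> field_simp

theorem mem_Lev_of_trivial (hQ : H ⊓ Qs hF h = ⊥) (hL : Lev e f ≤ H) {g : SU (m + 2) F q}
    (hgH : g ∈ H) (hg : g ∈ Est e) : g ∈ Lev e f := by
  obtain ⟨x, hx, l, hl, rfl⟩ := exists_dec hF h hg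
  have hxH : x ∈ H := by simpa using mul_mem hgH (inv_mem (hL hl))
  have : x ∈ H ⊓ Qs hF h := ⟨hxH, hx⟩
  rw [hQ, Subgroup.mem_bot] at this
  rwa [this, one_mul]

theorem Est_le (hQ : Qs hF h ≤ H) (hL : Lev e f ≤ H) : Est e ≤ H := by
  intro g hg
  obtain ⟨x, hx, l, hl, rfl⟩ := exists_dec hF h hg
  exact mul_mem (hQ hx) (hL hl)

theorem Qs_le_of_full (hA : Aset hF h H = ⊤) (hB : Nat.card (Bset hF h H) = q) : Qs hF h ≤ H := by
  have h1 := relIndex_Qs hF h H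
  rw [hA, hB, Nat.card_congr AddSubgroup.topEquiv.toEquiv, Nat.card_eq_fintype_card,
    Fintype.card_fun, hF, Fintype.card_fin, ← pow_mul, ← pow_succ] at h1
  exact Subgroup.relIndex_eq_one.1 (Nat.eq_of_mul_eq_mul_right (pow_pos (q_pos hF) _)
    (h1.trans (one_mul _).symm))

theorem inf_Qs_eq_bot (hA : Aset hF h H = ⊥) (hB : Nat.card (Bset hF h H) = 1) :
    H ⊓ Qs hF h = ⊥ := by
  refine Subgroup.card_eq_one.1 ?_
  rw [card_inf_Qs hF h H, hA, hB, Nat.card_unique]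

end Cfsg.Agent.MinIndexUN
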