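import Cfsg.Agent.MinIndexUN.Elements
import Cfsg.Agent.MinIndexUN.Decomp

/-!
A complement of the radical in a point stabiliser is conjugate to the Levi subgroup (helper10).
-/

set_option autoImplicit false

namespace Cfsg.Agent.MinIndexUN

open Matrix Cfsg.Agent.Unitary

variable {F : Type*} [Field F] [Fintype F] {q m : ℕ} (hF : Fintype.card F = q ^ 2)
variable {e f : Fin (m + 2) → F} (h : Std q e f) (H : Subgroup (SU (m + 2) F q))

/-- Conjugate by an element of the radical. -/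
def conjH (y : SU (m + 2) F q) : Subgroup (SU (m + 2) F q) := H.map (MulAut.conj y).toMonoidHom

include hF h

omit h in
theorem index_conjH (y : SU (m + 2) F q) : (conjH H y).index = H.index :=
  Subgroup.index_map_equiv H (MulAut.conj y)

omit hF h in
theorem conj_mem_conjH {y g : SU (m + 2) F q} (hg : g ∈ H) : y * g * y⁻¹ ∈ conjH H y :=
  ⟨g, hg, rfl⟩

theorem conjH_inf_Qs {y : SU (m + 2) F q} (hy : y ∈ Qs hF h) (hQ : H ⊓ Qs hF h = ⊥) :
    conjH H y ⊓ Qs hF h = ⊥ := by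
  rw [eq_bot_iff]
  rintro _ ⟨⟨g, hg, rfl⟩, hgQ⟩
  have hgQ' : g ∈ Qs hF h := by
    have hg' : y * g * y⁻¹ ∈ Qs hF h := hgQ
    have := mul_mem (mul_mem (inv_mem hy) hg') hy
    simpa [mul_assoc] using this
  have hg1 : g = 1 := by
    have hm : g ∈ H ⊓ Qs hF h := ⟨hg, hgQ'⟩
    rwa [hQ, Subgroup.mem_bot] at hm
  show y * g * y⁻¹ ∈ ⊥
  simp [hg1]

theorem Qg_move {g : SU (m + 2) F q} (hg : g ∈ Lev e f) {a : F} (hge : g • e = a • e)
    {w : Fin m → F} {b : F} (hb : b + b ^ q = -herm q w w) :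
    g * Qg hF h w hb = Qg hF h (a ^ q • lact g w) (cond_conj hF h hg a hb) * g := by
  rw [← Lev_conj hF h hg hge hb, inv_mul_cancel_right]

/-- The element of the radical with parameters `0`, `b`. -/
def Qz (hF : Fintype.card F = q ^ 2) (h : Std q e f) {b : F} (hb : b + b ^ q = 0) :
    SU (m + 2) F q :=
  Qg hF h (0 : Fin m → F) (b := b) (by simpa using hb)

theorem Qz_mem {b : F} (hb : b + b ^ q = 0) : Qz hF h hb ∈ Qs hF h := ⟨_, _, _, rfl⟩

theorem Qz_congr {b b' : F} (hb : b + b ^ q = 0) (hb' : b' + b' ^ q = 0) (e' : b = b') :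
    Qz hF h hb = Qz hF h hb' := by subst e'; rfl

theorem Qz_mul {b b' : F} (hb : b + b ^ q = 0) (hb' : b' + b' ^ q = 0) :
    Qz hF h hb * Qz hF h hb' =
      Qz hF h (b := b + b') (by rw [add_pow_q hF]; linear_combination hb + hb') := by
  rw [Qz, Qz, Qz, Qg_mul]
  exact Qg_congr hF h _ _ (zero_add 0) (by rw [herm_zero_left, sub_zero])

theorem Qz_zero : Qz hF h (b := (0 : F)) (by simp [zero_pow_q hF]) = 1 := Qg_one hF h

theorem Qz_move {g : SU (m + 2) F q} (hg : g ∈ Lev e f) {a : F} (hge : g • e = a • e) {b : F}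
    (hb : b + b ^ q = 0) :
    g * Qz hF h hb = Qz hF h (b := a ^ (q + 1) * b)
      (by rw [mul_pow, norm_fixed hF]; linear_combination (a ^ (q + 1)) * hb) * g := by
  rw [Qz, Qg_move hF h hg hge, Qz]
  congr 1
  refine Qg_congr hF h _ _ ?_ rfl
  have := lact_smul hF h (g := g) (0 : F) (0 : Fin m → F)
  simp only [zero_smul] at this
  rw [this, smul_zero]

theorem Qz_eq_of_mem (hQ : H ⊓ Qs hF h = ⊥) {l : SU (m + 2) F q} {b b' : F}
    (hb : b + b ^ q = 0) (hb' : b' + b' ^ q = 0) (h1 : Qz hF h hb * l ∈ H)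
    (h2 : Qz hF h hb' * l ∈ H) : b = b' := by
  have hm : Qz hF h hb * (Qz hF h hb')⁻¹ ∈ H ⊓ Qs hF h := by
    refine Subgroup.mem_inf.2 ⟨?_, mul_mem (Qz_mem hF h hb) (inv_mem (Qz_mem hF h hb'))⟩
    have := mul_mem h1 (inv_mem h2)
    rwa [_root_.mul_inv_rev, mul_assoc, mul_inv_cancel_left] at this
  rw [hQ, Subgroup.mem_bot, mul_inv_eq_one] at hm
  exact (Qg_param hF h _ _ hm).2

theorem exists_Qz_of {w : Fin m → F} {b : F} {hb : b + b ^ q = -herm q w w}
    {l : SU (m + 2) F q} (hw : w = 0) (hm : Qg hF h w hb * l ∈ H) :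
    ∃ (b' : F) (hb' : b' + b' ^ q = 0), Qz hF h hb' * l ∈ H := by
  subst hw
  exact ⟨b, by simpa using hb, hm⟩

/-- Every lift is central in the radical, after a conjugation. -/
theorem exists_conj_central (hq : 3 ≤ q) (hQ : H ⊓ Qs hF h = ⊥) (hK : Lev e f ≤ Kbar hF h H) :
    ∃ y ∈ Qs hF h, ∀ l ∈ Lev (q := q) e f,
      ∃ (b : F) (hb : b + b ^ q = 0), Qz hF h hb * l ∈ conjH H y := by
  obtain ⟨c, hcf, hc0, hc1⟩ : ∃ c : F, c ^ q = c ∧ c ≠ 0 ∧ c ≠ 1 := by
    by_contra! hall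
    have hle : Nat.card {x : F // x ^ q = x} ≤ Nat.card Bool :=
      haveI := Classical.decEq F
      Nat.card_le_card_of_injective (fun x => decide (x.1 = 0)) (by
        intro x x' e'
        replace e' : x.1 = 0 ↔ x'.1 = 0 := decide_eq_decide.1 e'
        by_cases hx : x.1 = 0
        · exact Subtype.ext (hx.trans (e'.1 hx).symm)
        · exact Subtype.ext ((hall _ x.2 hx).trans (hall _ x'.2 (mt e'.2 hx)).symm))
    rw [card_fixed hF, Nat.card_eq_fintype_card, Fintype.card_bool] at hle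
    omega
  obtain ⟨t, htL, hte, htv⟩ := exists_Lev_torus hF h hc0 hcf
  obtain ⟨-, xt, ⟨wt, bt, hbt, rfl⟩, htH⟩ := hK htL
  -- kill the translation part of the torus element
  have hlt : ∀ v, lact t v = v := fun v => by rw [lact, htv, tail2_jV]
  set u : Fin m → F := (c - 1)⁻¹ • wt with hu
  obtain ⟨b0, hb0⟩ := exists_trace_eq hF (t := -herm q u u)
    (by rw [neg_pow_q hF, herm_self_fixed hF])
  set y := Qg hF h u hb0 with hy
  have hyQ : y ∈ Qs hF h := ⟨_, _, _, rfl⟩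
  refine ⟨y, hyQ, ?_⟩
  have hlift : ∀ l ∈ Lev (q := q) e f, ∃ (w : Fin m → F) (b : F) (hb : b + b ^ q = -herm q w w),
      Qg hF h w hb * l ∈ conjH H y := by
    intro l hl
    obtain ⟨-, x, hx, hxl⟩ := hK hl
    obtain ⟨w, b, hb, hw⟩ : y * x * (l * y⁻¹ * l⁻¹) ∈ Qs hF h :=
      mul_mem (mul_mem hyQ hx) (Lev_normalises hF h hl (inv_mem hyQ))
    refine ⟨w, b, hb, ?_⟩
    rw [← hw, show y * x * (l * y⁻¹ * l⁻¹) * l = y * (x * l) * y⁻¹ by group]
    exact conj_mem_conjH H hxl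
  have hQ' := conjH_inf_Qs hF h H hyQ hQ
  -- the torus element lifts centrally
  obtain ⟨bz, hbz, htz⟩ : ∃ (b : F) (hb : b + b ^ q = 0), Qz hF h hb * t ∈ conjH H y := by
    have e1 : y * (Qg hF h wt hbt * t) * y⁻¹ =
        y * Qg hF h wt hbt * Qg hF h (c ^ q • lact t (-u)) (cond_conj hF h htL c (cond_inv hF hb0))
          * t := by
      rw [hy, Qg_inv, ← mul_assoc (Qg hF h u hb0), mul_assoc (_ * Qg hF h wt hbt),
        Qg_move hF h htL hte, ← mul_assoc]
    have hm := conj_mem_conjH H (y := y) htH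
    rw [e1, hy, Qg_mul, Qg_mul] at hm
    have hw0 : u + wt + c ^ q • lact t (-u) = 0 := by
      have hcc : c - 1 ≠ 0 := sub_ne_zero.2 hc1
      rw [hlt, hcf, hu]
      match_scalars <;> field_simp <;> ring
    exact exists_Qz_of hF h (conjH H y) hw0 hm
  intro l hl
  obtain ⟨w, b, hb, hlH⟩ := hlift l hl
  obtain ⟨a, -, hle', -, hlj⟩ := Lev_data hF h hl
  have hcomm : l * t = t * l := by
    obtain ⟨a1, -, he1, hf1, -⟩ := Lev_data hF h htL
    obtain rfl : a1 = c := smul_left_injective F (h.e_ne hF) (he1.symm.trans hte)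
    obtain ⟨a2, -, he2, hf2, -⟩ := Lev_data hF h hl
    refine h.ext hF ?_ ?_ fun v => ?_
    · rw [mul_smul, mul_smul, he1, smul_comm l, he2, smul_comm t, he1, smul_comm]
    · rw [mul_smul, mul_smul, hf1, smul_comm l, hf2, smul_comm t, hf1, smul_comm]
    · rw [mul_smul, mul_smul, htv, hlj, htv]
  have hA := mul_mem hlH htz
  have hB := mul_mem htz hlH
  rw [Qz, mul_assoc, ← mul_assoc l, Qg_move hF h hl hle', mul_assoc _ l, ← mul_assoc, Qg_mul,
    hcomm] at hA
  rw [Qz, mul_assoc, ← mul_assoc t, Qg_move hF h htL hte, mul_assoc _ t, ← mul_assoc, Qg_mul] at hB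
  have hm := mul_mem hA (inv_mem hB)
  rw [_root_.mul_inv_rev, ← mul_assoc, mul_assoc (Qg hF h _ _), mul_inv_cancel, mul_one,
    Qg_inv, Qg_mul] at hm
  have hm2 : _ ∈ conjH H y ⊓ Qs hF h := ⟨hm, ⟨_, _, _, rfl⟩⟩
  rw [hQ', Subgroup.mem_bot, ← Qg_one hF h] at hm2
  have hw := (Qg_param hF h _ _ hm2).1
  have hl0 : lact l (0 : Fin m → F) = 0 := by
    simpa using lact_smul hF h (g := l) (0 : F) (0 : Fin m → F)
  rw [hl0, smul_zero, add_zero, zero_add, hlt, hcf] at hw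
  have hw0 : w = 0 := by
    have : (1 - c) • w = 0 := by rw [sub_smul, one_smul, ← hw]; module
    exact (smul_eq_zero.1 this).resolve_left (sub_ne_zero.2 (Ne.symm hc1))
  subst hw0
  exact ⟨b, by simpa using hb, hlH⟩

/-- A complement contains, up to conjugation, the whole Levi subgroup. -/
theorem exists_conj_Lev_le (hm : 3 ≤ m) (hq : 3 ≤ q) (hQ : H ⊓ Qs hF h = ⊥)
    (hK : Lev e f ≤ Kbar hF h H) :
    ∃ H' : Subgroup (SU (m + 2) F q),
      H'.index = H.index ∧ H' ⊓ Qs hF h = ⊥ ∧ Lev e f ≤ H' := by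
  obtain ⟨y, hy, hcen⟩ := exists_conj_central hF h H hq hQ hK
  set H1 := conjH H y with hH1
  have hQ1 : H1 ⊓ Qs hF h = ⊥ := conjH_inf_Qs hF h H hy hQ
  have h32 : ¬ (m = 3 ∧ q = 2) := fun hh => by omega
  choose β hβ hβH using fun g : SU m F q => hcen (jG m g) (jG_mem_Lev hF h g)
  -- the lift is trivial on `SU_m`, a perfect group
  have hje : ∀ g : SU m F q, jG m g • e = (1 : F) • e := fun g => by rw [one_smul, h.jG_e]
  have hadd : ∀ g g', β (g * g') = β g + β g' := by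
    intro g g'
    have := mul_mem (hβH g) (hβH g')
    rw [mul_assoc, ← mul_assoc (jG m g), Qz_move hF h (jG_mem_Lev hF h g) (hje g), mul_assoc,
      ← mul_assoc (Qz hF h (hβ g)), Qz_mul, ← map_mul] at this
    rw [Qz_eq_of_mem hF h H1 hQ1 (hβ _) _ (hβH _) this, one_pow, one_mul]
  let χ : SU m F q →* Multiplicative F :=
    { toFun := fun g => Multiplicative.ofAdd (β g)
      map_one' := by
        have := hadd 1 1
        rw [mul_one] at this
        rw [show β 1 = 0 by linear_combination -this]; rfl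
      map_mul' := fun g g' => by rw [hadd]; rfl }
  have hβ0 : ∀ g, β g = 0 := by
    intro g
    have hker : commutator (SU m F q) ≤ χ.ker := Abelianization.commutator_subset_ker χ
    rw [commutator_SU_eq_top hF hm h32] at hker
    exact congrArg Multiplicative.toAdd (hker (Subgroup.mem_top g))
  have hj : ∀ g : SU m F q, jG m g ∈ H1 := by
    intro g
    have := hβH g
    rwa [Qz_congr hF h (hβ g) (by simp [zero_pow_q hF]) (hβ0 g), Qz_zero, one_mul] at this
  -- normalise an element whose multiplier has norm different from one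
  obtain ⟨a1, ha1⟩ : ∃ a : F, a ≠ 0 ∧ a ^ (q + 1) ≠ 1 := by
    by_contra! hall
    have hle : Nat.card Fˣ ≤ Nat.card {x : F // x ^ (q + 1) = 1} :=
      Nat.card_le_card_of_injective (fun x => ⟨(x : F), hall _ x.ne_zero⟩)
        fun x x' e' => Units.ext (congrArg Subtype.val e')
    rw [Nat.card_units, Nat.card_eq_fintype_card (α := F), hF, card_norm_eq_one hF] at hle
    have : q + 2 < q ^ 2 := by nlinarith
    omega
  obtain ⟨l1, hl1, hl1e⟩ := exists_Lev_mult hF h (by omega) ha1.1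
  obtain ⟨b1, hb1, hl1H⟩ := hcen l1 hl1
  set N1 := a1 ^ (q + 1) with hN1
  have hN1q : N1 ^ q = N1 := norm_fixed hF a1
  set c0 := b1 / (N1 - 1) with hc0
  have hc0t : c0 + c0 ^ q = 0 := by
    rw [hc0, div_pow, sub_pow_q hF, one_pow, hN1q, ← add_div, hb1, zero_div]
  set z := Qz hF h hc0t with hz
  refine ⟨conjH H1 z, by rw [index_conjH hF, hH1, index_conjH hF],
    conjH_inf_Qs hF h H1 (Qz_mem hF h _) hQ1, ?_⟩
  set H2 := conjH H1 z with hH2
  have hQ2 : H2 ⊓ Qs hF h = ⊥ := conjH_inf_Qs hF h H1 (Qz_mem hF h _) hQ1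
  have hconj : ∀ {l : SU (m + 2) F q} {a : F}, l ∈ Lev e f → l • e = a • e →
      ∀ {b : F} (hb : b + b ^ q = 0), Qz hF h hb * l ∈ H1 →
        ∃ hb' : (b + (1 - a ^ (q + 1)) * c0) + (b + (1 - a ^ (q + 1)) * c0) ^ q = 0,
          Qz hF h hb' * l ∈ H2 := by
    intro l a hl hle b hb hbl
    have hm' := conj_mem_conjH H1 (y := z) hbl
    have hn : -c0 + (-c0) ^ q = 0 := by rw [neg_pow_q hF]; linear_combination -hc0t
    have hzi : z⁻¹ = Qz hF h hn :=
      inv_eq_of_mul_eq_one_right (by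
        rw [hz, Qz_mul, ← Qz_zero hF h]; exact Qz_congr hF h _ _ (add_neg_cancel c0))
    have ht : (b + (1 - a ^ (q + 1)) * c0) + (b + (1 - a ^ (q + 1)) * c0) ^ q = 0 := by
      rw [add_pow_q hF, mul_pow, sub_pow_q hF, one_pow, norm_fixed hF]
      linear_combination hb + (1 - a ^ (q + 1)) * hc0t
    refine ⟨ht, ?_⟩
    rw [hzi, hz, ← mul_assoc (Qz hF h hc0t), mul_assoc _ l, Qz_move hF h hl hle, ← mul_assoc,
      Qz_mul, Qz_mul] at hm'
    convert hm' using 2
    exact Qz_congr hF h _ _ (by ring)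
  have hjH : ∀ g : SU m F q, jG m g ∈ H2 := by
    intro g
    obtain ⟨hb', hm'⟩ := hconj (jG_mem_Lev hF h g) (hje g) (b := 0) (by simp [zero_pow_q hF])
      (by rw [Qz_zero, one_mul]; exact hj g)
    rwa [Qz_congr hF h hb' (b' := 0) (by simp [zero_pow_q hF]) (by simp), Qz_zero, one_mul] at hm'
  have hl1' : l1 ∈ H2 := by
    obtain ⟨hb', hm'⟩ := hconj hl1 hl1e hb1 hl1H
    rwa [Qz_congr hF h hb' (b' := 0) (by simp [zero_pow_q hF]) (by
      rw [← hN1, hc0]
      field_simp [sub_ne_zero.2 ha1.2]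
      ring), Qz_zero, one_mul] at hm'
  intro l hl
  obtain ⟨a, -, hle, -, -⟩ := Lev_data hF h hl
  obtain ⟨b, hb, hbl⟩ := hcen l hl
  obtain ⟨hb', hm'⟩ := hconj hl hle hb hbl
  set bb := b + (1 - a ^ (q + 1)) * c0
  obtain ⟨g0, hg0⟩ := comm_mem_jG hF h h32 hl1 hl
  have hm2 := mul_mem (mul_mem hl1' hm') (inv_mem hl1')
  rw [← mul_assoc l1, Qz_move hF h hl1 hl1e, mul_assoc _ l1, mul_assoc,
    show l1 * l * l1⁻¹ = jG m g0 * l by rw [← hg0]; group, ← mul_assoc] at hm2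
  have e1 : (1 : F) ^ (q + 1) * (a1 ^ (q + 1) * bb) = a1 ^ (q + 1) * bb := by rw [one_pow, one_mul]
  have hsw := Qz_move hF h (jG_mem_Lev hF h g0) (hje g0) (b := a1 ^ (q + 1) * bb)
    (by rw [mul_pow, norm_fixed hF]; linear_combination (a1 ^ (q + 1)) * hb')
  rw [Qz_congr hF h _ (by rw [mul_pow, norm_fixed hF]; linear_combination (a1 ^ (q + 1)) * hb') e1]
    at hsw
  rw [← hsw, mul_assoc] at hm2
  have hm3 := mul_mem (inv_mem (hjH g0)) hm2
  rw [inv_mul_cancel_left] at hm3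
  have hbb := Qz_eq_of_mem hF h H2 hQ2 hb' _ hm' hm3
  have hb0 : bb = 0 := by
    have : (a1 ^ (q + 1) - 1) * bb = 0 := by linear_combination -hbb
    exact (mul_eq_zero.1 this).resolve_left (sub_ne_zero.2 ha1.2)
  rwa [Qz_congr hF h hb' (b' := 0) (by simp [zero_pow_q hF]) hb0, Qz_zero, one_mul] at hm'

end Cfsg.Agent.MinIndexUN
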