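import Mathlib.GroupTheory.Index
import Mathlib.Data.Set.Card

/-!
An orbit is covered by the translates of a smaller orbit (helper10).
-/

set_option autoImplicit false

namespace Cfsg.Agent.MinIndexUN

/-- If `K` sends `v` into `S`, then the `X`-orbit of `v` has at most `[X : K] · |S|` elements. -/
theorem card_orbit_le {G α : Type*} [Group G] [Finite G] {X K : Subgroup G} (act : G → α → α)
    {v : α} (hact : ∀ g, g ∈ X → ∀ h, h ∈ X → act (g * h) v = act g (act h v))
    {O S : Set α} (hSf : S.Finite) (hO : ∀ w ∈ O, ∃ g ∈ X, act g v = w)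
    (hS : ∀ k ∈ K, k ∈ X → act k v ∈ S) :
    O.ncard ≤ K.relIndex X * S.ncard := by
  classical
  haveI := hSf.to_subtype
  let φ : (X ⧸ K.subgroupOf X) × S → α := fun p => act (Quotient.out p.1).1 p.2.1
  have hsub : O ⊆ Set.range φ := by
    intro w hw
    obtain ⟨g, hg, rfl⟩ := hO w hw
    set c : X ⧸ K.subgroupOf X := QuotientGroup.mk ⟨g, hg⟩ with hc
    have hk : ((Quotient.out c)⁻¹ * ⟨g, hg⟩ : X) ∈ K.subgroupOf X :=
      QuotientGroup.eq.1 (Quotient.out_eq c)
    rw [Subgroup.mem_subgroupOf] at hk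
    simp only [Subgroup.coe_mul, Subgroup.coe_inv] at hk
    have hkX : (Quotient.out c).1⁻¹ * g ∈ X := mul_mem (inv_mem (Quotient.out c).2) hg
    refine ⟨(c, ⟨_, hS _ hk hkX⟩), ?_⟩
    show act (Quotient.out c).1 (act _ v) = _
    rw [← hact _ (Quotient.out c).2 _ hkX, mul_inv_cancel_left]
  calc O.ncard ≤ (Set.range φ).ncard := Set.ncard_le_ncard hsub (Set.finite_range φ)
    _ ≤ Nat.card ((X ⧸ K.subgroupOf X) × S) := by
        rw [← Nat.card_coe_set_eq]; exact Finite.card_range_le φ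
    _ = K.relIndex X * S.ncard := by rw [Nat.card_prod, Nat.card_coe_set_eq]; rfl

end Cfsg.Agent.MinIndexUN
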