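import Cfsg.Agent.MinIndexUN.Elements
import Cfsg.Agent.MinIndexUN.Points
import Cfsg.Agent.MinIndexUN.Pseudo
import Cfsg.Agent.MinIndexU3.Global

/-!
Subgroups of `SU₃` stabilising a large totally real subgroup of vectors (helper10).
-/

set_option autoImplicit false

namespace Cfsg.Agent.MinIndexUN

open Matrix Cfsg.Agent.Unitary MulAction

variable {F : Type*} [Field F] [Fintype F] {q : ℕ} (hF : Fintype.card F = q ^ 2)

include hF

theorem eq_one_of_fix_pair {g : SU 3 F q} {v u : Fin 3 → F} (hv : herm q v v ≠ 0)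
    (hu : herm q u u ≠ 0) (huv : herm q u v = 0) (hgv : g • v = v) (hgu : g • u = u) : g = 1 := by
  obtain ⟨a, ha⟩ := exists_norm_eq hF (herm_self_fixed hF v)
  obtain ⟨b, hb⟩ := exists_norm_eq hF (herm_self_fixed hF u)
  have ha0 : a ≠ 0 := fun e => hv (by simp [← ha, e])
  have hb0 : b ≠ 0 := fun e => hu (by simp [← hb, e])
  have one : ∀ (x : Fin 3 → F) (c : F), c ≠ 0 → c ^ (q + 1) = herm q x x →
      herm q (c⁻¹ • x) (c⁻¹ • x) = 1 := fun x c hc hh => by
    rw [herm_smul_left, herm_smul_right hF, ← hh, pow_succ, inv_pow]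
    field_simp
  have h01 : herm q (eI (0 : Fin 3)) (eI 0 : Fin 3 → F) = 1 := by rw [herm_eI_eI hF, if_pos rfl]
  have h11 : herm q (eI (1 : Fin 3)) (eI 1 : Fin 3 → F) = 1 := by rw [herm_eI_eI hF, if_pos rfl]
  obtain ⟨G1, -, hG1⟩ := exists_fixGU_smul_eq hF (S := (∅ : Finset (Fin 3))) (x := a⁻¹ • v)
    (x' := eI 0) (by simp [supp_empty]) (by simp [supp_empty]) (by rw [one v a ha0 ha, h01])
    (by rw [one v a ha0 ha]; exact one_ne_zero)
  have hu1 : herm q (b⁻¹ • u) (b⁻¹ • u) = 1 := one u b hb0 hb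
  obtain ⟨G2, hG2, hG2u⟩ := exists_fixGU_smul_eq hF (S := ({0} : Finset (Fin 3)))
    (x := G1 • (b⁻¹ • u)) (x' := eI 1) (by
      intro i hi
      rw [Finset.mem_singleton] at hi
      subst hi
      rw [← herm_eI_right hF (0 : Fin 3) (G1 • (b⁻¹ • u)), ← hG1, herm_smul_GU, herm_smul_left,
        herm_smul_right hF, huv, mul_zero, mul_zero])
    (eI_mem_supp (by decide)) (by rw [herm_smul_GU, hu1, h11])
    (by rw [herm_smul_GU, hu1]; exact one_ne_zero)
  obtain ⟨s, hs⟩ := exists_SU_of_GU_conj hF (G2 * G1) g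
  have hs1 : s = 1 := by
    refine eq_one_of_card_le_one hF (S := ({0, 1} : Finset (Fin 3))) (by decide)
      (mem_fixS.2 fun i hi => ?_)
    have key : ∀ x : Fin 3 → F, g • x = x →
        s • ((G2 * G1) • x) = (G2 * G1) • x := fun x hx => by
      rw [hs, inv_smul_smul, hx]
    simp only [Finset.mem_insert, Finset.mem_singleton] at hi
    rcases hi with rfl | rfl
    · have h1 := key (a⁻¹ • v) (by rw [smul_comm g, hgv])
      rwa [mul_smul, hG1, mem_fixGU.1 hG2 0 (by simp)] at h1
    · have h1 := key (b⁻¹ • u) (by rw [smul_comm g, hgu])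
      rwa [mul_smul, hG2u] at h1
  refine eq_of_smul_eq_SU fun x => ?_
  have h1 := hs ((G2 * G1) • x)
  rw [hs1, one_smul, inv_smul_smul] at h1
  rw [one_smul]
  exact (smul_left_cancel _ h1).symm

theorem exists_gen : ∃ a : F, a ≠ 0 ∧ ∀ n, a ^ n = 1 → q ^ 2 - 1 ∣ n := by
  obtain ⟨g, hg⟩ := IsCyclic.exists_ofOrder_eq_natCard (α := Fˣ)
  refine ⟨(g : F), g.ne_zero, fun n hn => ?_⟩
  rw [← hF, ← Nat.card_eq_fintype_card, ← Nat.card_units, ← hg]
  exact orderOf_dvd_of_pow_eq_one (Units.ext (by simpa using hn))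

theorem index_Est_three {z : Fin 3 → F} (hz0 : z ≠ 0) (hzz : herm q z z = 0) :
    (Est (m := 1) (q := q) z).index = q ^ 3 + 1 := by
  obtain ⟨p, c, hc, hp⟩ := exists_pt hF hz0 hzz
  rw [← Est_smul (q := q) (m := 1) hc, ← hp, index_Est hF p]
  exact MinIndexU3.card_points hF

/-- A subgroup stabilising a real span of a norm vector and an isotropic line. -/
theorem degenerate_index {K : Subgroup (SU 3 F q)} {A : AddSubgroup (Fin 3 → F)}
    (hA : ∀ k ∈ K, ∀ x ∈ A, k • x ∈ A) (hreal : ∀ x ∈ A, ∀ y ∈ A, herm q x y ^ q = herm q x y)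
    (hq : 3 ≤ q) {v z : Fin 3 → F} (hvA : v ∈ A) (hv : herm q v v ≠ 0) (hz : z ≠ 0)
    (hzz : herm q z z = 0) (hvz : herm q v z = 0) (hline : ∀ γ : F, γ • z ∈ A)
    (hstab : ∀ k ∈ K, k ∈ Est (m := 1) (q := q) z) : 2 * (q ^ 3 + 1) ≤ K.index := by
  obtain ⟨e0, f0, hstd⟩ := exists_std hF (m := 1)
  obtain ⟨f', -, hf', hzf⟩ :=
    exists_partner hF (S := (∅ : Finset (Fin 3))) (u := z) (by simp [supp_empty]) hzz hz
  obtain ⟨G, -, hGe, hGf⟩ := exists_fixGU_pair hF (S := (∅ : Finset (Fin 3))) (u := e0) (v := f0)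
    (u' := z) (v' := f') (by simp [supp_empty]) (by simp [supp_empty]) (by simp [supp_empty])
    (by simp [supp_empty]) hstd.ee hstd.ff hstd.ef hzz hf' hzf
  obtain ⟨a, ha0, hgen⟩ := exists_gen hF
  have hk : (a ^ q / a) ^ (q + 1) = 1 := by
    rw [div_pow, show (a ^ q) ^ (q + 1) = a ^ (q + 1) by
      rw [pow_succ, pow_q_pow_q hF, pow_succ, mul_comm], div_self (pow_ne_zero _ ha0)]
  obtain ⟨G1, hG1⟩ := exists_det_eq hF (n := 1) le_rfl hk
  have hsc : ∀ y : Fin 1 → F, G1 • y = (a ^ q / a) • y := by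
    intro y
    rw [← hG1]
    funext i
    fin_cases i
    show ((((G1 : GL (Fin 1) F) : Matrix (Fin 1) (Fin 1) F)) *ᵥ y) 0 =
      (((G1 : GL (Fin 1) F) : Matrix (Fin 1) (Fin 1) F)).det * y 0
    rw [Matrix.det_fin_one]
    simp [Matrix.mulVec, dotProduct]
  obtain ⟨τ, hτL, hτe, hτv⟩ := exists_Lev_el hF hstd ha0 G1 (by rw [hG1, div_mul_cancel₀ _ ha0])
  obtain ⟨s, hs⟩ := exists_SU_of_GU_conj hF G τ
  have hsz : s • z = a • z := by
    rw [hs, ← hGe, inv_smul_smul, hτe, smul_comm G]
  have hsK : s ∉ K := by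
    intro hsK
    set v' := v - herm q v f' • z with hv'
    have hv'A : v' ∈ A := sub_mem hvA (hline _)
    have hz1 : herm q v' z = 0 := by rw [hv', herm_sub_left, herm_smul_left, hvz, hzz]; ring
    have hf1 : herm q v' f' = 0 := by rw [hv', herm_sub_left, herm_smul_left, hzf]; ring
    have ht : herm q v' v' = herm q v v := by
      rw [hv', herm_sub_left, herm_sub_right hF, herm_sub_right hF, herm_smul_left,
        herm_smul_left, herm_smul_right hF, herm_smul_right hF, hzz, hvz,
        (herm_eq_zero_comm hF).1 hvz]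
      ring
    have hsv : s • v' = (a ^ q / a) • v' := by
      have hd := hstd.decomp hF (G⁻¹ • v')
      have h1 : herm q (G⁻¹ • v') e0 = 0 := by
        rw [← herm_smul_GU G, smul_inv_smul, hGe, hz1]
      have h2 : herm q (G⁻¹ • v') f0 = 0 := by
        rw [← herm_smul_GU G, smul_inv_smul, hGf, hf1]
      rw [h1, h2, zero_smul, zero_smul, zero_add, zero_add] at hd
      rw [hs, hd, hτv, hsc, map_smul, ← hd, smul_comm G, smul_inv_smul]
    have h3 := hreal _ (hA s hsK _ hv'A) _ hv'A
    rw [hsv, herm_smul_left, ht, mul_pow, herm_self_fixed hF] at h3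
    have h4 := mul_right_cancel₀ hv h3
    have h5 : (a ^ q / a) ^ 2 = 1 := by
      calc (a ^ q / a) ^ 2 = (a ^ q / a) ^ q * (a ^ q / a) := by rw [h4]; ring
        _ = 1 := by rw [← pow_succ, hk]
    have h6 : a ^ (2 * q - 2) = 1 := by
      rw [div_pow, div_eq_one_iff_eq (pow_ne_zero _ ha0), ← pow_mul, mul_comm] at h5
      refine mul_right_cancel₀ (pow_ne_zero 2 ha0) ?_
      rw [← pow_add, one_mul, show 2 * q - 2 + 2 = 2 * q by omega, h5]
    have h7 := Nat.le_of_dvd (by omega) (hgen _ h6)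
    have h8 : 3 * q ≤ q ^ 2 := by rw [sq]; exact Nat.mul_le_mul_right _ hq
    omega
  have hle : K ≤ Est (m := 1) (q := q) z := hstab
  have hlt : K.relIndex (Est (m := 1) (q := q) z) ≠ 1 := fun e =>
    hsK (Subgroup.relIndex_eq_one.1 e ⟨a, ha0, hsz⟩)
  have h2 : 2 ≤ K.relIndex (Est (m := 1) (q := q) z) := by
    have : 0 < K.relIndex (Est (m := 1) (q := q) z) :=
      Nat.pos_of_ne_zero Subgroup.index_ne_zero_of_finite
    omega
  rw [← Subgroup.relIndex_mul_index hle, index_Est_three hF hz hzz]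
  exact Nat.mul_le_mul_right _ h2

theorem eq_zero_of_orth_pair {z f' x : Fin 3 → F} (hzz : herm q z z = 0) (hf' : herm q f' f' = 0)
    (hzf : herm q z f' = 1) (hxz : herm q x z = 0) (hxf : herm q x f' = 0)
    (hxx : herm q x x = 0) : x = 0 := by
  obtain ⟨e0, f0, hstd⟩ := exists_std hF (m := 1)
  obtain ⟨G, -, hGe, hGf⟩ := exists_fixGU_pair hF (S := (∅ : Finset (Fin 3))) (u := e0) (v := f0)
    (u' := z) (v' := f') (by simp [supp_empty]) (by simp [supp_empty]) (by simp [supp_empty])
    (by simp [supp_empty]) hstd.ee hstd.ff hstd.ef hzz hf' hzf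
  have hd := hstd.decomp hF (G⁻¹ • x)
  have h1 : herm q (G⁻¹ • x) e0 = 0 := by rw [← herm_smul_GU G, smul_inv_smul, hGe, hxz]
  have h2 : herm q (G⁻¹ • x) f0 = 0 := by rw [← herm_smul_GU G, smul_inv_smul, hGf, hxf]
  rw [h1, h2, zero_smul, zero_smul, zero_add, zero_add] at hd
  set d := tail2 (G⁻¹ • x) with hd'
  have h3 : herm q d d = 0 := by rw [← herm_jV_jV, ← hd, herm_smul_GU, hxx]
  simp only [herm, hermForm, Fin.sum_univ_one, ← pow_succ'] at h3
  have hd0 : d = 0 := by
    funext i
    fin_cases i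
    exact eq_zero_of_pow_eq_zero h3
  rw [hd0, map_zero, inv_smul_eq_iff, smul_zero] at hd
  exact hd

/-- Orthogonal isotropic vectors of a three-dimensional space are proportional. -/
theorem eq_smul_of_orth {z y : Fin 3 → F} (hz : z ≠ 0)
    (hzz : herm q z z = 0) (hyy : herm q y y = 0) (hyz : herm q y z = 0) :
    ∃ γ : F, y = γ • z := by
  obtain ⟨f', -, hf', hzf⟩ :=
    exists_partner hF (S := (∅ : Finset (Fin 3))) (u := z) (by simp [supp_empty]) hzz hz
  refine ⟨herm q y f', sub_eq_zero.1 (eq_zero_of_orth_pair hF hzz hf' hzf ?_ ?_ ?_)⟩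
  · rw [herm_sub_left, herm_smul_left, hyz, hzz, mul_zero, sub_zero]
  · rw [herm_sub_left, herm_smul_left, hzf, mul_one, sub_self]
  · rw [herm_sub_left, herm_sub_right hF, herm_sub_right hF, herm_smul_left, herm_smul_left,
      herm_smul_right hF, herm_smul_right hF, hyy, hzz, hyz, (herm_eq_zero_comm hF).1 hyz]
    ring

/-- The index of a proper subgroup stabilising a real subgroup of order `q³`. -/
theorem real_index_three (hq : 3 ≤ q) (K : Subgroup (SU 3 F q)) (A : AddSubgroup (Fin 3 → F))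
    (hA : ∀ k ∈ K, ∀ x ∈ A, k • x ∈ A) (hreal : ∀ x ∈ A, ∀ y ∈ A, herm q x y ^ q = herm q x y)
    (hscal : ∀ t : F, t ^ q = t → ∀ x ∈ A, t • x ∈ A) (hcard : Nat.card A = q ^ 3) :
    q ^ 3 + q + 1 ≤ K.index := by
  classical
  -- the part of `A` orthogonal to a vector of non-zero norm has `q²` elements
  have hsplit : ∀ v ∈ A, herm q v v ≠ 0 →
      Nat.card {x : Fin 3 → F // x ∈ A ∧ herm q x v = 0} = q ^ 2 := by
    intro v hv hvv
    set t := herm q v v
    have ht : t ^ q = t := herm_self_fixed hF v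
    let φ : {x : Fin 3 → F // x ∈ A ∧ herm q x v = 0} × {s : F // s ^ q = s} → A := fun p =>
      ⟨p.1.1 + p.2.1 • v, add_mem p.1.2.1 (hscal _ p.2.2 v hv)⟩
    have hφ : Function.Bijective φ := by
      constructor
      · rintro ⟨x, s⟩ ⟨x', s'⟩ e
        have e1 : x.1 + s.1 • v = x'.1 + s'.1 • v := congrArg Subtype.val e
        have e2 := congrArg (fun y => herm q y v) e1
        simp only [herm_add_left, herm_smul_left, x.2.2, x'.2.2, zero_add] at e2
        obtain rfl : s = s' := Subtype.ext (mul_right_cancel₀ hvv e2)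
        exact Prod.ext (Subtype.ext (add_right_cancel e1)) rfl
      · rintro ⟨x, hx⟩
        have hs : (herm q x v / t) ^ q = herm q x v / t := by rw [div_pow, hreal x hx v hv, ht]
        refine ⟨(⟨x - (herm q x v / t) • v, sub_mem hx (hscal _ hs v hv), ?_⟩, ⟨_, hs⟩),
          Subtype.ext (sub_add_cancel x _)⟩
        rw [herm_sub_left, herm_smul_left, div_mul_cancel₀ _ hvv, sub_self]
    have h1 := Nat.card_eq_of_bijective φ hφ
    rw [Nat.card_prod, card_fixed hF, hcard] at h1
    exact Nat.eq_of_mul_eq_mul_right (q_pos hF) (by rw [h1]; ring)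
  -- some vector has non-zero norm
  obtain ⟨v0, hv0A, hv0⟩ : ∃ v ∈ A, herm q v v ≠ 0 := by
    by_contra! hall
    obtain ⟨x, hx, y, hy, hxy⟩ : ∃ x ∈ A, ∃ y ∈ A, herm q x y ≠ 0 := by
      by_contra! horth
      obtain ⟨z, hzA, hz0⟩ : ∃ z ∈ A, z ≠ 0 := by
        by_contra! h0
        have : A = ⊥ := eq_bot_iff.2 fun x hx => h0 x hx
        rw [this, Nat.card_unique] at hcard
        have : 27 ≤ q ^ 3 := Nat.pow_le_pow_left hq 3
        omega
      have hsub : (A : Set (Fin 3 → F)) ⊆ Set.range fun γ : F => γ • z := fun y hy =>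
        let ⟨γ, hγ⟩ := eq_smul_of_orth hF hz0 (hall z hzA) (hall y hy) (horth y hy z hzA)
        ⟨γ, hγ.symm⟩
      have h3 := Set.ncard_le_ncard hsub (Set.finite_range _)
      rw [← Nat.card_coe_set_eq] at h3
      have h4 : (Set.range fun γ : F => γ • z).ncard ≤ q ^ 2 := by
        rw [← Nat.card_coe_set_eq]
        exact (Finite.card_range_le _).trans (by rw [Nat.card_eq_fintype_card, hF])
      have h5 : Nat.card A ≤ q ^ 2 := h3.trans h4
      rw [hcard] at h5
      have : q ^ 2 < q ^ 3 := Nat.pow_lt_pow_right (by omega) (by omega)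
      omega
    set β := herm q x y with hβ
    -- a third vector orthogonal to both
    let ψ : A → {s : F // s ^ q = s} × {s : F // s ^ q = s} := fun a =>
      (⟨herm q a.1 x, hreal _ a.2 x hx⟩, ⟨herm q a.1 y, hreal _ a.2 y hy⟩)
    have hninj : ¬ Function.Injective ψ := fun hi => by
      have h5 := Nat.card_le_card_of_injective ψ hi
      rw [Nat.card_prod, card_fixed hF, hcard, ← sq] at h5
      have : q ^ 2 < q ^ 3 := Nat.pow_lt_pow_right (by omega) (by omega)
      omega
    obtain ⟨a, b, hab, hne⟩ := Function.not_injective_iff.1 hninj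
    have hzA : a.1 - b.1 ∈ A := sub_mem a.2 b.2
    refine sub_ne_zero.2 (fun e => hne (Subtype.ext e)) (eq_zero_of_orth_pair hF (z := x)
      (f' := ((β ^ q)⁻¹) • y) (hall x hx) ?_ ?_ ?_ ?_ (hall _ hzA))
    · rw [herm_smul_left, herm_smul_right hF, hall y hy, mul_zero, mul_zero]
    · rw [herm_smul_right hF, ← hβ, inv_pow, pow_q_pow_q hF, inv_mul_cancel₀ hxy]
    · rw [herm_sub_left, sub_eq_zero]; exact congrArg (fun p => (p.1 : F)) hab
    · rw [herm_smul_right hF, herm_sub_left,
        show herm q a.1 y = herm q b.1 y from congrArg (fun p => (p.2 : F)) hab, sub_self, mul_zero]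
  by_cases hgood : ∃ v u, v ∈ A ∧ u ∈ A ∧ herm q v v ≠ 0 ∧ herm q u u ≠ 0 ∧ herm q u v = 0
  · obtain ⟨v, u, hvA, huA, hvv, huu, huv⟩ := hgood
    set t := herm q v v with ht
    let St := {x : Fin 3 → F | x ∈ A ∧ herm q x x = t}
    have hSt : St.ncard + q ≤ q ^ 3 := by
      have hAcard : (A : Set (Fin 3 → F)).ncard = q ^ 3 := by
        rw [← Nat.card_coe_set_eq]; exact hcard
      by_cases h4 : 4 ≤ q
      · obtain ⟨α, hαf, hα0, hα1⟩ : ∃ α : F, α ^ q = α ∧ α ≠ 0 ∧ α ^ 2 ≠ 1 := by
          by_contra! hall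
          have hinj : Set.ncard {x : F | x ^ q = x} ≤ Set.ncard ({0, 1, -1} : Set F) := by
            refine Set.ncard_le_ncard (fun x hx => ?_) (Set.toFinite _)
            by_cases hx0 : x = 0
            · simp [hx0]
            · rcases sq_eq_one_iff.1 (hall x hx hx0) with e | e <;> simp [e]
          rw [← Nat.card_coe_set_eq] at hinj
          have h3 : ({0, 1, -1} : Set F).ncard ≤ 3 :=
            (Set.ncard_insert_le _ _).trans (by
              have := Set.ncard_insert_le (1 : F) {-1}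
              rw [Set.ncard_singleton] at this
              omega)
          have := card_fixed hF
          simp only [Set.coe_ofPred] at hinj
          omega
        have hsub : St ∪ (fun x => α • x) '' St ⊆ (A : Set (Fin 3 → F)) \ {0} := by
          rintro x (hx | ⟨x, hx, rfl⟩)
          · exact ⟨hx.1, fun e => hvv (ht.symm.trans (by rw [← hx.2, e, herm_zero_left]))⟩
          · exact ⟨hscal α hαf x hx.1, fun e => hvv (ht.symm.trans (by
              rw [← hx.2, (smul_eq_zero.1 e).resolve_left hα0, herm_zero_left]))⟩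
        have hdis : Disjoint St ((fun x => α • x) '' St) := by
          rw [Set.disjoint_left]
          rintro _ hx ⟨x, hx', rfl⟩
          have h1 := hx.2
          rw [herm_smul_left, herm_smul_right hF, hx'.2, hαf, ← mul_assoc] at h1
          exact hα1 (by rw [sq]; exact (mul_eq_right₀ hvv).1 h1)
        have h1 := Set.ncard_le_ncard hsub (Set.toFinite _)
        rw [Set.ncard_union_eq hdis (Set.toFinite _) (Set.toFinite _),
          Set.ncard_image_of_injective _ (smul_right_injective _ hα0),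
          Set.ncard_sdiff_singleton_of_mem (A.zero_mem), hAcard] at h1
        have h64 : 4 * (4 * q) ≤ q ^ 3 := by
          rw [pow_succ, sq, mul_assoc]; exact Nat.mul_le_mul h4 (Nat.mul_le_mul_right _ h4)
        omega
      · obtain rfl : q = 3 := by omega
        have h2 : (2 : F) ≠ 0 := by
          intro e2
          have h9 : ((3 ^ 2 : ℕ) : F) = 0 := by rw [← hF]; exact Nat.cast_card_eq_zero F
          apply one_ne_zero (α := F)
          push_cast at h9
          linear_combination h9 - 4 * e2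
        obtain ⟨w, hwA, hw0, hwt⟩ : ∃ w ∈ A, w ≠ 0 ∧ herm 3 w w ≠ t := by
          by_contra! hall
          have hu0 : u ≠ 0 := fun e => huu (by rw [e, herm_zero_left])
          obtain ⟨w, hwA, hwu⟩ : ∃ w, (w ∈ A ∧ herm 3 w v = 0) ∧ ∀ s : F, s ^ 3 = s → w ≠ s • u := by
            by_contra! h0
            choose s hs hws using fun x : {x : Fin 3 → F // x ∈ A ∧ herm 3 x v = 0} => h0 x.1 x.2
            have h5 := Nat.card_le_card_of_injective
              (fun x => (⟨s x, hs x⟩ : {s : F // s ^ 3 = s})) fun x x' e =>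
                Subtype.ext (by
                  rw [hws x, hws x', show s x = s x' from congrArg Subtype.val e])
            rw [hsplit v hvA hvv, card_fixed hF] at h5
            omega
          have hw0 : w ≠ 0 := by simpa using hwu 0 (zero_pow_q hF)
          have hp0 : u + w ≠ 0 := fun e => hwu (-1) (by norm_num) (by
            rw [neg_one_smul]; exact eq_neg_of_add_eq_zero_right e)
          have hm0 : u - w ≠ 0 := fun e => hwu 1 (one_pow _) (by
            rw [one_smul]; exact (sub_eq_zero.1 e).symm)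
          have e1 := hall (u + w) (add_mem huA hwA.1) hp0
          have e2 := hall (u - w) (sub_mem huA hwA.1) hm0
          rw [herm_add_left, herm_add_right hF, herm_add_right hF, hall u huA hu0,
            hall w hwA.1 hw0] at e1
          rw [herm_sub_left, herm_sub_right hF, herm_sub_right hF, hall u huA hu0,
            hall w hwA.1 hw0] at e2
          have h4 : (2 : F) * t = 0 := by linear_combination e1 + e2
          exact hvv ((mul_eq_zero.1 h4).resolve_left h2)
        have hsub : St ⊆ (A : Set (Fin 3 → F)) \ {0, w, -w} := by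
          intro x hx
          refine ⟨hx.1, ?_⟩
          rintro (rfl | rfl | rfl)
          · exact hvv (ht.symm.trans (by rw [← hx.2, herm_zero_left]))
          · exact hwt hx.2
          · exact hwt (by rw [← hx.2, herm_neg_left, herm_neg_right hF, neg_neg])
        have h3 : ({0, w, -w} : Set (Fin 3 → F)).ncard = 3 :=
          Set.ncard_eq_three.2 ⟨0, w, -w, hw0.symm, (neg_ne_zero.2 hw0).symm, fun e => hw0 (by
            have h5 : (2 : F) • w = 0 := by rw [two_smul]; nth_rewrite 2 [e]; abel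
            exact (smul_eq_zero.1 h5).resolve_left h2), rfl⟩
        have h1 := Set.ncard_le_ncard hsub (Set.toFinite _)
        have hsub3 : ({0, w, -w} : Set (Fin 3 → F)) ⊆ A := by
          rintro x (rfl | rfl | rfl)
          exacts [A.zero_mem, hwA, neg_mem hwA]
        rw [Set.ncard_sdiff hsub3 (Set.toFinite _), h3, hAcard] at h1
        omega
    have hfib : ∀ x : St, Nat.card {y : Fin 3 → F // (y ∈ A ∧ herm q y x.1 = 0) ∧ y ≠ 0} + 1 =
        q ^ 2 := by
      intro x
      rw [← hsplit x.1 x.2.1 (by rw [x.2.2]; exact hvv),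
        ← Nat.card_congr (Equiv.optionSubtypeNe (⟨0, A.zero_mem, herm_zero_left _⟩ :
          {y : Fin 3 → F // y ∈ A ∧ herm q y x.1 = 0})), Finite.card_option]
      congr 1
      exact Nat.card_congr
        { toFun := fun y => ⟨⟨y.1, y.2.1⟩, fun e => y.2.2 (congrArg Subtype.val e)⟩
          invFun := fun y => ⟨y.1.1, y.1.2, fun e => y.2 (Subtype.ext e)⟩
          left_inv := fun _ => rfl
          right_inv := fun _ => rfl }
    let ψ : K → Σ x : St, {y : Fin 3 → F // (y ∈ A ∧ herm q y x.1 = 0) ∧ y ≠ 0} := fun k =>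
      ⟨⟨k.1 • v, hA _ k.2 v hvA, herm_smul_SU k.1 v v⟩, ⟨k.1 • u, ⟨hA _ k.2 u huA,
        by rw [herm_smul_SU, huv]⟩, (smul_ne_zero_iff_ne _).2 fun e => huu (by
          rw [e, herm_zero_left])⟩⟩
    have hψ : Function.Injective ψ := by
      intro k k' e
      have e1 : k.1 • v = k'.1 • v := congrArg (fun p => p.1.1) e
      have e2 : k.1 • u = k'.1 • u := congrArg (fun p => p.2.1) e
      have := eq_one_of_fix_pair hF hvv huu huv (g := k'.1⁻¹ * k.1)
        (by rw [mul_smul, e1, inv_smul_smul]) (by rw [mul_smul, e2, inv_smul_smul])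
      exact Subtype.ext (inv_mul_eq_one.1 this).symm
    have h1 := Nat.card_le_card_of_injective ψ hψ
    haveI : Fintype St := Fintype.ofFinite _
    rw [Nat.card_sigma, Finset.sum_congr rfl fun x _ =>
      (show Nat.card {y : Fin 3 → F // (y ∈ A ∧ herm q y x.1 = 0) ∧ y ≠ 0} = q ^ 2 - 1 by
        have := hfib x; omega), Finset.sum_const, Finset.card_univ, ← Nat.card_eq_fintype_card,
      Nat.card_coe_set_eq, smul_eq_mul] at h1
    have h2 := K.card_mul_index
    rw [MinIndexU3.card_SU_three hF] at h2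
    have h3 : q ^ 3 * (q ^ 3 + 1) ≤ St.ncard * K.index := by
      refine Nat.le_of_mul_le_mul_right ?_ (show 0 < q ^ 2 - 1 by
        have : 9 ≤ q ^ 2 := by nlinarith
        omega)
      rw [← h2]
      calc Nat.card K * K.index ≤ St.ncard * (q ^ 2 - 1) * K.index := Nat.mul_le_mul_right _ h1
        _ = _ := by ring
    by_contra hlt
    push Not at hlt
    have h5 : (St.ncard + q) * K.index ≤ q ^ 3 * (q ^ 3 + q) := Nat.mul_le_mul hSt (by omega)
    have h6 : q ^ 3 * (q ^ 3 + 1) + q * K.index ≤ q ^ 3 * (q ^ 3 + q) := by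
      rw [add_mul] at h5; omega
    have h7 : q ^ 3 + 1 ≤ K.index * 2 := by
      have : St.ncard ≤ q ^ 3 := by omega
      by_contra h8
      push Not at h8
      have := Nat.mul_le_mul_right K.index this
      nlinarith
    nlinarith
  · push Not at hgood
    obtain ⟨z, hzA, hzv, hz0⟩ : ∃ z, z ∈ A ∧ herm q z v0 = 0 ∧ z ≠ 0 := by
      by_contra! h0
      haveI : Subsingleton {x : Fin 3 → F // x ∈ A ∧ herm q x v0 = 0} :=
        ⟨fun x y => Subtype.ext ((h0 _ x.2.1 x.2.2).trans (h0 _ y.2.1 y.2.2).symm)⟩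
      have h1 := hsplit v0 hv0A hv0
      have : Nonempty {x : Fin 3 → F // x ∈ A ∧ herm q x v0 = 0} :=
        ⟨⟨0, A.zero_mem, herm_zero_left _⟩⟩
      rw [Nat.card_unique] at h1
      nlinarith
    have hiso : ∀ y ∈ A, herm q y v0 = 0 → herm q y y = 0 := fun y hy hyv => by
      by_contra hyy
      exact hgood v0 y hv0A hy hv0 hyy hyv
    have hzz := hiso z hzA hzv
    have hvz : herm q v0 z = 0 := (herm_eq_zero_comm hF).1 hzv
    have hpair : ∀ y ∈ A, herm q y v0 = 0 → herm q y z = 0 := by
      intro y hy hyv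
      by_contra hne
      have hyy := hiso y hy hyv
      set t := herm q v0 v0 with ht
      have htq : t ^ q = t := herm_self_fixed hF v0
      have hzy : herm q z y = herm q y z := by rw [herm_swap hF y z, hreal y hy z hzA]
      have h2 : herm q y z + herm q y z = 0 := by
        have h1 := hiso (y + z) (add_mem hy hzA) (by rw [herm_add_left, hyv, hzv, add_zero])
        rwa [herm_add_left, herm_add_right hF, herm_add_right hF, hyy, hzz, hzy, zero_add,
          add_zero] at h1
      set s := t / herm q y z with hs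
      have hsq : s ^ q = s := by rw [hs, div_pow, htq, hreal y hy z hzA]
      have hvy : herm q v0 y = 0 := (herm_eq_zero_comm hF).1 hyv
      refine hgood (v0 + z) (v0 - s • y) (add_mem hv0A hzA) (sub_mem hv0A (hscal _ hsq y hy))
        ?_ ?_ ?_
      · simp [herm_add_left, herm_add_right hF, hvz, hzv, hzz, hv0, ← ht]
      · simp [herm_sub_left, herm_sub_right hF, herm_smul_left, herm_smul_right hF, hvy, hyv, hyy,
          hv0, ← ht]
      · simp only [herm_sub_left, herm_add_right hF, herm_smul_left, hvz, hyv, ← ht, hs]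
        field_simp
        ring
    have hline : ∀ γ : F, γ • z ∈ A := by
      have hsub : {y : Fin 3 → F | y ∈ A ∧ herm q y v0 = 0} ⊆ Set.range fun γ : F => γ • z := by
        rintro y ⟨hy, hyv⟩
        obtain ⟨γ, hγ⟩ := eq_smul_of_orth hF hz0 hzz (hiso y hy hyv) (hpair y hy hyv)
        exact ⟨γ, hγ.symm⟩
      have heq := Set.eq_of_subset_of_ncard_le hsub (by
        rw [← Nat.card_coe_set_eq, ← Nat.card_coe_set_eq]
        refine (Finite.card_range_le _).trans ?_
        rw [Nat.card_eq_fintype_card, hF, ← hsplit v0 hv0A hv0]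
        rfl) (Set.finite_range _)
      intro γ
      have hm : γ • z ∈ {y : Fin 3 → F | y ∈ A ∧ herm q y v0 = 0} := heq ▸ ⟨γ, rfl⟩
      exact hm.1
    have hstab : ∀ k ∈ K, k ∈ Est (m := 1) (q := q) z := by
      intro k hk
      set x := k • z with hx
      have hxA : x ∈ A := hA k hk z hzA
      set t := herm q v0 v0 with ht
      set s := herm q x v0 / t with hs
      have hsq : s ^ q = s := by
        rw [hs, div_pow, hreal x hxA v0 hv0A, ht, herm_self_fixed hF]
      set y := x - s • v0 with hy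
      have hyA : y ∈ A := sub_mem hxA (hscal _ hsq v0 hv0A)
      have hyv : herm q y v0 = 0 := by
        rw [hy, herm_sub_left, herm_smul_left, hs, div_mul_cancel₀ _ hv0, sub_self]
      have hyy := hiso y hyA hyv
      have hxx : herm q x x = 0 := by rw [hx, herm_smul_SU, hzz]
      have hxd : x = y + s • v0 := (sub_add_cancel x _).symm
      rw [hxd] at hxx
      simp [herm_add_left, herm_add_right hF, herm_smul_left, herm_smul_right hF, hyy, hyv,
        (herm_eq_zero_comm hF).1 hyv, hsq, ← ht, hv0] at hxx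
      obtain ⟨γ, hγ⟩ := eq_smul_of_orth hF hz0 hzz hyy (hpair y hyA hyv)
      refine ⟨γ, ?_, by rw [← hx, hxd, hxx, zero_smul, add_zero, hγ]⟩
      rintro rfl
      rw [zero_smul] at hγ
      exact (smul_ne_zero_iff_ne k).2 hz0 (show x = 0 by rw [hxd, hxx, hγ, zero_smul, add_zero])
    have := degenerate_index hF hA hreal hq hv0A hv0 hz0 hzz hvz hline hstab
    have h1 : q ≤ q ^ 3 := Nat.le_self_pow (by omega) q
    omega

end Cfsg.Agent.MinIndexUN
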