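import Cfsg.Agent.MinIndexUN.Radical
import Mathlib.LinearAlgebra.Matrix.SchurComplement

/-!
Elements of the Levi subgroup (helper10).
-/

set_option autoImplicit false

namespace Cfsg.Agent.MinIndexUN

open Matrix Cfsg.Agent.Unitary

variable {F : Type*} [Field F] [Fintype F] {q m : ℕ} (hF : Fintype.card F = q ^ 2)
variable {e f : Fin (m + 2) → F} (h : Std q e f)

include hF h

/-- The Levi element with prescribed action on `e` and on the orthogonal space. -/
theorem exists_Lev_el {a : F} (ha : a ≠ 0) (G : GU m F q)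
    (hdet : (detGU G : F) * a = a ^ q) :
    ∃ g : SU (m + 2) F q, g ∈ Lev (q := q) e f ∧ g • e = a • e ∧ ∀ v : Fin m → F, g • jV m v = jV m (G • v) := by
  classical
  set c : F := (a ^ q)⁻¹ with hc
  have haq : a ^ q ≠ 0 := pow_ne_zero _ ha
  set M : Matrix (Fin m) (Fin m) F := ((G : GL (Fin m) F) : Matrix (Fin m) (Fin m) F) with hM
  set U : Matrix (Fin (m + 2)) (Fin 2) F := Matrix.of fun k => ![(a - 1) * e k, (c - 1) * f k]
    with hU
  set V : Matrix (Fin 2) (Fin (m + 2)) F := Matrix.of ![fun k => f k ^ q, fun k => e k ^ q]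
    with hV
  set E : Matrix (Fin (m + 2)) (Fin (m + 2)) F := embMat (embMat M) with hE
  have hUV : ∀ x : Fin (m + 2) → F, (1 + U * V) *ᵥ x =
      x + (((a - 1) * herm q x f) • e + ((c - 1) * herm q x e) • f) := by
    intro x
    rw [Matrix.add_mulVec, Matrix.one_mulVec, ← Matrix.mulVec_mulVec]
    congr 1
    funext k
    have e1 : ∀ z : Fin (m + 2) → F, ∑ l, z l ^ q * x l = herm q x z := fun z =>
      Finset.sum_congr rfl fun l _ => mul_comm _ _
    simp only [hU, hV, Matrix.mulVec, dotProduct, Fin.sum_univ_two, Matrix.of_apply,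
      Matrix.cons_val_zero, Matrix.cons_val_one, e1, Pi.add_apply, Pi.smul_apply, smul_eq_mul]
    ring
  have hEv : ∀ x : Fin (m + 2) → F, E *ᵥ x = Fin.cons (x 0) (Fin.cons (x 1) (M *ᵥ tail2 x)) := by
    intro x
    rw [hE, embMat_mulVec, embMat_mulVec]
    rfl
  have hEe : E *ᵥ e = e := by
    rw [hEv, h.es, Matrix.mulVec_zero]
    conv_rhs => rw [← cons_eta e, h.es]
  have hEf : E *ᵥ f = f := by
    rw [hEv, h.fs, Matrix.mulVec_zero]
    conv_rhs => rw [← cons_eta f, h.fs]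
  have hEj : ∀ v, E *ᵥ jV m v = jV m (G • v) := by
    intro v
    rw [hEv, tail2_jV]
    rfl
  have he' : ((1 + U * V) * E) *ᵥ e = a • e := by
    rw [← Matrix.mulVec_mulVec, hEe, hUV, h.ef, h.ee]
    module
  have hf' : ((1 + U * V) * E) *ᵥ f = c • f := by
    rw [← Matrix.mulVec_mulVec, hEf, hUV, h.ff, h.fe hF]
    module
  have hj' : ∀ v, ((1 + U * V) * E) *ᵥ jV m v = jV m (G • v) := by
    intro v
    rw [← Matrix.mulVec_mulVec, hEj, hUV, h.jV_e hF, h.jV_f hF]
    module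
  have hx : ∀ x : Fin (m + 2) → F, ((1 + U * V) * E) *ᵥ x =
      (herm q x f * a) • e + (herm q x e * c) • f + jV m (G • tail2 x) := by
    intro x
    conv_lhs => rw [h.decomp hF x]
    rw [Matrix.mulVec_add, Matrix.mulVec_add, Matrix.mulVec_smul, Matrix.mulVec_smul, he', hf',
      hj', smul_smul, smul_smul]
  have hdet' : ((1 + U * V) * E).det = 1 := by
    rw [Matrix.det_mul, Matrix.det_one_add_mul_comm, hE, det_embMat, det_embMat, Matrix.det_fin_two]
    have e1 : ∀ z y : Fin (m + 2) → F, ∀ s : F, ∑ k, y k ^ q * (s * z k) = s * herm q z y :=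
      fun z y s => by
        rw [herm, hermForm, Finset.mul_sum]
        exact Finset.sum_congr rfl fun k _ => by ring
    simp only [Matrix.add_apply, Matrix.one_apply, Matrix.mul_apply, hU, hV, Matrix.of_apply,
      Matrix.cons_val_zero, Matrix.cons_val_one, if_true, zero_ne_one, one_ne_zero, if_false, e1,
      h.ee, h.ff, h.ef, h.fe hF]
    have hd : M.det = (detGU G : F) := rfl
    rw [hd, hc]
    field_simp
    linear_combination hdet
  have hform : ∀ x y, herm q (((1 + U * V) * E) *ᵥ x) (((1 + U * V) * E) *ᵥ y) = herm q x y := by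
    intro x y
    rw [hx, hx]
    conv_rhs => rw [h.decomp hF x, h.decomp hF y]
    simp only [herm_add_left, herm_add_right hF, herm_smul_left, herm_smul_right hF, h.ee, h.ff,
      h.ef, h.fe hF, h.jV_e hF, h.jV_f hF, h.e_jV hF, h.f_jV hF, herm_jV_jV, herm_smul_GU]
    simp only [mul_pow, hc, inv_pow, pow_q_pow_q hF]
    field_simp
    ring
  refine ⟨⟨⟨(1 + U * V) * E, hdet'⟩, hform⟩, ⟨⟨a, ha, he'⟩, ⟨c, inv_ne_zero haq, hf'⟩⟩, he', hj'⟩

/-- Fixed scalars act on the pair. -/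
theorem exists_Lev_torus {c : F} (hc0 : c ≠ 0) (hc : c ^ q = c) :
    ∃ g : SU (m + 2) F q, g ∈ Lev (q := q) e f ∧ g • e = c • e ∧ ∀ v : Fin m → F, g • jV m v = jV m v := by
  obtain ⟨g, hg, hge, hgv⟩ := exists_Lev_el hF h hc0 (1 : GU m F q) (by simp [hc])
  exact ⟨g, hg, hge, fun v => by rw [hgv, one_smul]⟩

/-- Every multiplier occurs. -/
theorem exists_Lev_mult (hm : 1 ≤ m) {a : F} (ha : a ≠ 0) :
    ∃ g : SU (m + 2) F q, g ∈ Lev (q := q) e f ∧ g • e = a • e := by
  obtain ⟨G, hG⟩ := exists_det_eq hF hm (a := a ^ q / a) (by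
    rw [div_pow]
    have e1 : (a ^ q) ^ (q + 1) = a ^ (q + 1) := by
      rw [pow_succ, pow_q_pow_q hF, pow_succ, mul_comm]
    rw [e1, div_self (pow_ne_zero _ ha)])
  obtain ⟨g, hg, hge, -⟩ := exists_Lev_el hF h ha G (by rw [hG, div_mul_cancel₀ _ ha])
  exact ⟨g, hg, hge⟩

/-- An element fixing `e` and `f` is in the image of `SU_m`. -/
theorem exists_jG_eq (h32 : ¬ (m = 3 ∧ q = 2)) {g : SU (m + 2) F q} (he : g • e = e)
    (hf : g • f = f) : ∃ g₀ : SU m F q, g = jG m g₀ := by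
  classical
  set S : Finset (Fin (m + 2)) := {0, 1} with hS
  have hfix : ∀ x : Fin (m + 2) → F, tail2 x = 0 → g • x = x := by
    intro x hx
    rw [h.decomp hF x, hx, map_zero, add_zero, smul_add, smul_comm g, smul_comm g, he, hf]
  have hgS : g ∈ fixS S := by
    refine mem_fixS.2 fun i hi => hfix _ ?_
    funext k
    simp only [hS, Finset.mem_insert, Finset.mem_singleton] at hi
    rcases hi with rfl | rfl <;> simp [tail2, Fin.tail, eI, Fin.ext_iff]
  have hc : Sᶜ.card = m := by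
    rw [Finset.card_compl, hS, Finset.card_pair Fin.zero_ne_one, Fintype.card_fin]; omega
  have hle : tvGroup hF S ≤ (jG m : SU m F q →* SU (m + 2) F q).range := by
    rw [tvGroup, Subgroup.closure_le]
    rintro _ ⟨u, c, hu, hcc, huS, rfl⟩
    have hu' : u = jV m (tail2 u) := by
      conv_lhs => rw [← cons_eta u]
      rw [huS 0 (by simp [hS]), huS 1 (by simp [hS])]
      rfl
    have hu0 : herm q (tail2 u) (tail2 u) = 0 := by rw [← herm_jV_jV, ← hu', hu]
    refine ⟨tv hF hu0 hcc, h.ext hF ?_ ?_ ?_⟩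
    · rw [h.jG_e, tv_smul, hu', h.e_jV hF]; simp
    · rw [h.jG_f, tv_smul, hu', h.f_jV hF]; simp
    · intro v
      have e1 : herm q (jV m v) u = herm q v (tail2 u) := by
        conv_lhs => rw [hu']
        rw [herm_jV_jV]
      rw [jG_smul_jV, tv_smul, tv_smul, map_add, map_smul, ← hu', e1]
  obtain ⟨g₀, hg₀⟩ := hle (fixS_le_tvGroup hF (by rw [hc]; exact h32) hgS)
  exact ⟨g₀, hg₀.symm⟩

/-- Commutators in the Levi subgroup lie in `SU_m`. -/
theorem comm_mem_jG (h32 : ¬ (m = 3 ∧ q = 2)) {g g' : SU (m + 2) F q} (hg : g ∈ Lev e f)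
    (hg' : g' ∈ Lev e f) : ∃ g₀ : SU m F q, g * g' * g⁻¹ * g'⁻¹ = jG m g₀ := by
  obtain ⟨a, ha, h1, h2, -⟩ := Lev_data hF h hg
  obtain ⟨a', ha', h1', h2', -⟩ := Lev_data hF h hg'
  have key : ∀ {x y : SU (m + 2) F q} {z : Fin (m + 2) → F} {s t : F}, s ≠ 0 → t ≠ 0 →
      x • z = s • z → y • z = t • z → (x * y * x⁻¹ * y⁻¹) • z = z := by
    intro x y z s t hs ht hx hy
    have hxi : x⁻¹ • z = s⁻¹ • z := by
      rw [inv_smul_eq_iff, smul_comm x, hx, inv_smul_smul₀ hs]
    have hyi : y⁻¹ • z = t⁻¹ • z := by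
      rw [inv_smul_eq_iff, smul_comm y, hy, inv_smul_smul₀ ht]
    rw [mul_smul, hyi, smul_comm (x * y * x⁻¹), mul_smul, hxi, smul_comm (x * y), mul_smul, hy,
      smul_comm x, hx, smul_smul, smul_smul, smul_smul]
    convert one_smul F z using 2
    field_simp
  refine exists_jG_eq hF h h32 (key ha ha' h1 h1') ?_
  exact key (inv_ne_zero (pow_ne_zero _ ha)) (inv_ne_zero (pow_ne_zero _ ha')) h2 h2'

end Cfsg.Agent.MinIndexUN
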