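import Cfsg.Agent.MinIndexUN.Twist
import Cfsg.Agent.MinIndexUN.Complement

/-!
The point stabiliser in dimension four (helper10).
-/

set_option autoImplicit false

namespace Cfsg.Agent.MinIndexUN

open Matrix Cfsg.Agent.Unitary MulAction

variable {F : Type*} [Field F] [Fintype F] {q : ℕ} (hF : Fintype.card F = q ^ 2)
variable {e f : Fin (2 + 2) → F} (h : Std q e f) (H : Subgroup (SU (2 + 2) F q))

/-- The elements of the Levi subgroup preserving a set of translation parts. -/
def stabA (hF : Fintype.card F = q ^ 2) (h : Std q e f) (A : Set (Fin 2 → F)) :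
    Subgroup (SU (2 + 2) F q) where
  carrier := {g | g ∈ Lev e f ∧ ∀ v ∈ A, tact q e f g v ∈ A}
  one_mem' := ⟨one_mem _, fun v hv => by
    rw [← map_one (jG (F := F) (q := q) 2), tact_jG hF h, one_smul]; exact hv⟩
  mul_mem' := by
    rintro g g' ⟨hg, hgA⟩ ⟨hg', hgA'⟩
    exact ⟨mul_mem hg hg', fun v hv => by
      rw [tact_mul hF h hg hg']; exact hgA _ (hgA' v hv)⟩
  inv_mem' := by
    rintro g ⟨hg, hgA⟩
    refine ⟨inv_mem hg, fun v hv => ?_⟩
    have hinj : Function.Injective (fun w : A => (⟨tact q e f g w.1, hgA _ w.2⟩ : A)) := by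
      intro w w' e0
      have h1 := congrArg (fun z : A => tact q e f g⁻¹ z.1) e0
      simp only [← tact_mul hF h (inv_mem hg) hg, inv_mul_cancel,
        ← map_one (jG (F := F) (q := q) 2), tact_jG hF h, one_smul] at h1
      exact Subtype.ext h1
    obtain ⟨⟨w, hw⟩, he⟩ := (Finite.injective_iff_surjective.1 hinj) ⟨v, hv⟩
    rw [← show tact q e f g w = v from congrArg Subtype.val he, ← tact_mul hF h (inv_mem hg) hg,
      inv_mul_cancel, ← map_one (jG (F := F) (q := q) 2), tact_jG hF h, one_smul]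
    exact hw

include hF h

theorem stabA_le (A : Set (Fin 2 → F)) : stabA hF h A ≤ Lev e f := fun _ hg => hg.1

theorem stabA_pres (A : Set (Fin 2 → F)) : Pres q e f (stabA hF h A) A :=
  fun _ hg _ v hv => hg.2 v hv

theorem Kbar_le_stabA : Kbar hF h H ≤ stabA hF h (Aset hF h H) := fun g hg =>
  ⟨hg.1, fun v hv => Kbar_pres hF h H g hg hg.1 v hv⟩

theorem Qg_eq_Qz {w : Fin 2 → F} {b : F} {hb : b + b ^ q = -herm q w w} (hw : w = 0) :
    ∃ hb' : b + b ^ q = 0, Qg hF h w hb = Qz hF h hb' := by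
  subst hw
  exact ⟨by simpa using hb, rfl⟩

theorem Qg_retarget {S : Subgroup (SU (2 + 2) F q)} {w w' : Fin 2 → F} {b : F}
    {hb : b + b ^ q = -herm q w w} (hw : w = w') (hm : Qg hF h w hb ∈ S) :
    ∃ (b' : F) (hb' : b' + b' ^ q = -herm q w' w'), Qg hF h w' hb' ∈ S := by
  subst hw
  exact ⟨b, hb, hm⟩

omit h in
theorem exists_fixed_ne (hq : 3 ≤ q) :
    ∃ c : F, c ^ q = c ∧ c ≠ 0 ∧ c ≠ 1 ∧ (c ^ 2 = 1 → (2 : F) ≠ 0) := by
  classical
  by_contra! hall
  have hle : Nat.card {x : F // x ^ q = x} ≤ Nat.card Bool :=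
    Nat.card_le_card_of_injective (fun x => decide (x.1 = 0)) (by
      intro x x' e'
      replace e' : x.1 = 0 ↔ x'.1 = 0 := decide_eq_decide.1 e'
      by_cases hx : x.1 = 0
      · exact Subtype.ext (hx.trans (e'.1 hx).symm)
      · have key : ∀ y : F, y ^ q = y → y ≠ 0 → y = 1 := by
          intro y hy hy0
          by_contra hy1
          obtain ⟨hy2, h2⟩ := hall y hy hy0 hy1
          have : (y - 1) * (y + 1) = 0 := by linear_combination hy2
          rcases mul_eq_zero.1 this with e1 | e1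
          · exact hy1 (sub_eq_zero.1 e1)
          · exact hy1 (by linear_combination e1 - h2)
        exact Subtype.ext ((key _ x.2 hx).trans (key _ x'.2 (mt e'.2 hx)).symm))
  rw [card_fixed hF, Nat.card_eq_fintype_card, Fintype.card_bool] at hle
  omega

omit h in
theorem card_fun_one : Nat.card (Fin 1 → F) = q ^ 2 := by
  rw [Nat.card_eq_fintype_card, Fintype.card_fun, hF, Fintype.card_fin, pow_one]

/-- Facts about a totally isotropic `A` containing two independent vectors. -/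
theorem real_coords (hA : ∀ v ∈ Aset hF h H, herm q v v = 0) {u y : Fin 2 → F}
    (huA : u ∈ Aset hF h H) (hyA : y ∈ Aset hF h H) (huy : herm q u y ≠ 0) :
    herm q u y + herm q u y ^ q = 0 ∧ ∀ z ∈ Aset hF h H, ∃ c d : F,
      c ^ q = c ∧ d ^ q = d ∧ z = c • u + d • y := by
  set β := herm q u y with hβ
  have tz : ∀ {x w : Fin 2 → F}, x ∈ Aset hF h H → w ∈ Aset hF h H →
      herm q x w + herm q x w ^ q = 0 := fun {x w} hx hw => by
    have h1 := hA _ (add_mem hx hw)
    rw [herm_add_left, herm_add_right hF, herm_add_right hF, hA x hx, hA w hw, zero_add,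
      add_zero] at h1
    rw [← herm_swap hF x w]
    exact h1
  have hβt : β + β ^ q = 0 := tz huA hyA
  have hβq : β ^ q = -β := eq_neg_of_add_eq_zero_right hβt
  refine ⟨hβt, fun z hz => ⟨herm q z y / β, herm q z u / β ^ q, ?_, ?_, ?_⟩⟩
  · rw [div_pow, hβq, eq_neg_of_add_eq_zero_right (tz hz hyA), neg_div_neg_eq]
  · rw [div_pow, pow_q_pow_q hF, eq_neg_of_add_eq_zero_right (tz hz huA), hβq, neg_div, div_neg]
  · refine sub_eq_zero.1 (eq_zero_of_herm hF fun w => ?_)
    obtain ⟨i, j, hw⟩ : ∃ i j : F, w = i • u + j • y := by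
      have hli : LinearIndependent F ![u, y] := by
        rw [LinearIndependent.pair_iff]
        intro s t hst
        have h1 := congrArg (fun x => herm q x y) hst
        have h2 := congrArg (fun x => herm q x u) hst
        simp only [herm_add_left, herm_smul_left, hA y hyA, hA u huA, mul_zero, add_zero,
          zero_add, herm_zero_left] at h1 h2
        refine ⟨(mul_eq_zero.1 h1).resolve_right huy, (mul_eq_zero.1 h2).resolve_right ?_⟩
        rw [herm_swap hF u y]
        exact pow_ne_zero _ huy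
      have hsp := hli.span_eq_top_of_card_eq_finrank (by simp)
      have hm : w ∈ Submodule.span F (Set.range ![u, y]) := hsp ▸ Submodule.mem_top
      rw [Submodule.mem_span_range_iff_exists_fun] at hm
      obtain ⟨c, hc⟩ := hm
      exact ⟨c 0, c 1, by rw [← hc, Fin.sum_univ_two]; simp⟩
    rw [hw]
    have hyu : herm q y u = β ^ q := herm_swap hF u y
    simp only [herm_sub_left, herm_add_left, herm_add_right hF, herm_smul_left,
      herm_smul_right hF, hA u huA, hA y hyA, hyu, ← hβ]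
    field_simp
    ring

/-- In odd characteristic a totally isotropic `A` off a line is small. -/
theorem real_small (hB : Nat.card (Bset hF h H) ≠ q) (hA : ∀ v ∈ Aset hF h H, herm q v v = 0)
    {u y : Fin 2 → F} (huA : u ∈ Aset hF h H) (hyA : y ∈ Aset hF h H) (huy : herm q u y ≠ 0)
    (h2 : (2 : F) ≠ 0) : Nat.card (Aset hF h H) ≤ q := by
  obtain ⟨hβt, hco⟩ := real_coords hF h H hA huA hyA huy
  set β := herm q u y with hβ
  have hβq : β ^ q = -β := eq_neg_of_add_eq_zero_right hβt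
  let A' : AddSubgroup (Fin 1 → F) :=
    { carrier := {x | ∃ c d : F, c ^ q = c ∧ d ^ q = d ∧ c • u + d • y ∈ Aset hF h H ∧
        x = fun _ => c + d * (-β)}
      zero_mem' := ⟨0, 0, zero_pow_q hF, zero_pow_q hF,
        by rw [zero_smul, zero_smul, add_zero]; exact zero_mem _, by funext i; simp⟩
      add_mem' := by
        rintro _ _ ⟨c, d, hc, hd, hm, rfl⟩ ⟨c', d', hc', hd', hm', rfl⟩
        refine ⟨c + c', d + d', by rw [add_pow_q hF, hc, hc'], by rw [add_pow_q hF, hd, hd'],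
          ?_, by funext i; simp; ring⟩
        convert add_mem hm hm' using 1
        module
      neg_mem' := by
        rintro _ ⟨c, d, hc, hd, hm, rfl⟩
        refine ⟨-c, -d, by rw [neg_pow_q hF, hc], by rw [neg_pow_q hF, hd], ?_,
          by funext i; simp; ring⟩
        convert neg_mem hm using 1
        module }
  have hcomm : ∀ x ∈ A', ∀ x' ∈ A', herm q x x' - herm q x' x ∈ Bset hF h H := by
    rintro _ ⟨c, d, hc, hd, hm, rfl⟩ _ ⟨c', d', hc', hd', hm', rfl⟩
    have h1 := alt_mem hF h H hm hm'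
    have hyu : herm q y u = -β := by rw [herm_swap hF u y, ← hβ, hβq]
    convert h1 using 1
    simp only [herm_add_left, herm_add_right hF, herm_smul_left, herm_smul_right hF, hA u huA,
      hA y hyA, hyu, ← hβ, hc, hd, hc', hd']
    simp only [herm, hermForm, Fin.sum_univ_one, add_pow_q hF, mul_pow, neg_pow_q hF, hβq, hc, hd,
      hc', hd']
    ring
  have hle := (card_isotropic_le hF (Bset hF h H) (fun b hb => Bset_trace hF h H hb) hB A' hcomm).1
  rw [pow_one] at hle
  refine le_trans ?_ hle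
  choose c d hc hd hcd using fun z : Aset hF h H => hco z.1 z.2
  refine Nat.card_le_card_of_injective (fun z : Aset hF h H =>
    (⟨fun _ => c z + d z * (-β), c z, d z, hc z, hd z, hcd z ▸ z.2, rfl⟩ : A')) ?_
  intro z z' e0
  have e1 : c z + d z * (-β) = c z' + d z' * (-β) :=
    congrFun (congrArg Subtype.val e0) 0
  have e2 := congrArg (fun x => x ^ q) e1
  simp only [add_pow_q hF, mul_pow, neg_pow_q hF, hc, hd, hβq, neg_neg] at e2
  have hd' : d z = d z' := by
    have : (d z - d z') * ((2 : F) * β) = 0 := by linear_combination e2 - e1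
    exact sub_eq_zero.1 ((mul_eq_zero.1 this).resolve_right (mul_ne_zero h2 huy))
  have hc' : c z = c z' := by rw [hd'] at e1; exact add_right_cancel e1
  exact Subtype.ext (by rw [hcd z, hcd z', hc', hd'])

/-- A nontrivial transvection of `H` at some point. -/
theorem exists_tv_of_lifts (hq : 3 ≤ q) (hB : Nat.card (Bset hF h H) = 1)
    (hsc : ∀ t : F, t ^ q = t → ∀ x ∈ Aset hF h H, t • x ∈ Aset hF h H)
    {u : Fin 2 → F} (hu : herm q u u = 0) (hu0 : u ≠ 0)
    (hline : (2 : F) ≠ 0 → ∀ γ : F, γ • u ∈ Aset hF h H)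
    (hK : stabA hF h (Aset hF h H) ≤ Kbar hF h H)
    (hτA : ∀ (c : F) (hc : c + c ^ q = 0), ∀ v ∈ Aset hF h H,
      tv hF hu hc • v ∈ Aset hF h H) :
    ∃ (w : Fin (2 + 2) → F) (c : F) (hw : herm q w w = 0) (hc : c + c ^ q = 0),
      w ≠ 0 ∧ c ≠ 0 ∧ tv hF hw hc ∈ H := by
  obtain ⟨c, hcf, hc0, hc1, hc2⟩ := exists_fixed_ne hF hq
  obtain ⟨lam, hlam0, hlam⟩ := exists_trace_zero_ne_zero hF
  obtain ⟨t, htL, hte, htv⟩ := exists_Lev_torus hF h hc0 hcf
  have hlt : ∀ v, lact t v = v := fun v => by rw [lact, htv, tail2_jV]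
  have htK : t ∈ Kbar hF h H := hK ⟨htL, fun v hv => by
    rw [tact_eq hF h hte, hlt, hcf]; exact hsc c hcf v hv⟩
  set τ := jG 2 (tv hF hu hlam) with hτ
  have hτL : τ ∈ Lev (q := q) e f := jG_mem_Lev hF h _
  have hτe : τ • e = (1 : F) • e := by rw [one_smul, hτ, h.jG_e]
  have hlτ : ∀ v, lact τ v = tv hF hu hlam • v := fun v => lact_jG hF h _ v
  have hτK : τ ∈ Kbar hF h H := hK ⟨hτL, fun v hv => by
    rw [hτ, tact_jG hF h]; exact hτA lam hlam v hv⟩
  obtain ⟨-, xt, ⟨wt, bt, hbt, rfl⟩, htH⟩ := htK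
  obtain ⟨-, xτ, ⟨w, b, hb, rfl⟩, hτH⟩ := hτK
  have hcomm : t * τ = τ * t := by
    obtain ⟨a1, -, he1, hf1, -⟩ := Lev_data hF h htL
    refine h.ext hF ?_ ?_ fun v => ?_
    · rw [mul_smul, mul_smul, hte, hτ, h.jG_e, hte, smul_comm, h.jG_e]
    · rw [mul_smul, mul_smul, hf1, hτ, h.jG_f, hf1, smul_comm, h.jG_f]
    · rw [mul_smul, mul_smul, htv, hτ, jG_smul_jV, htv]
  have hcc : c - 1 ≠ 0 := sub_ne_zero.2 hc1
  set u0 := (c - 1)⁻¹ • wt with hu0'
  set D := u0 - tv hF hu hlam • u0 with hD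
  -- the translation part of the lift of the transvection, modulo `A`
  have hwA : w + D ∈ Aset hF h H := by
    have hA1 := mul_mem htH hτH
    have hA2 := mul_mem hτH htH
    rw [mul_assoc, ← mul_assoc t, Qg_move hF h htL hte, mul_assoc _ t, ← mul_assoc, Qg_mul,
      hcomm] at hA1
    rw [mul_assoc, ← mul_assoc τ, Qg_move hF h hτL hτe, mul_assoc _ τ, ← mul_assoc, Qg_mul] at hA2
    have hm := mul_mem hA1 (inv_mem hA2)
    rw [_root_.mul_inv_rev, ← mul_assoc, mul_assoc (Qg hF h _ _), mul_inv_cancel, mul_one,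
      Qg_inv, Qg_mul] at hm
    have h1 : wt + c ^ q • lact t w + -(w + (1 : F) ^ q • lact τ wt) ∈ Aset hF h H := ⟨_, _, hm⟩
    rw [hlt, hcf, hlτ, one_pow, one_smul] at h1
    have h2 := hsc ((c - 1)⁻¹) (by rw [inv_pow, sub_pow_q hF, one_pow, hcf]) _ h1
    convert h2 using 1
    rw [hD, hu0', smul_comm (tv hF hu hlam)]
    generalize tv hF hu hlam • wt = z
    match_scalars <;> field_simp <;> ring
  obtain ⟨b2, hb2, hH2⟩ := neg_mem hwA
  obtain ⟨b0, hb0⟩ := exists_trace_eq hF (t := -herm q u0 u0)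
    (by rw [neg_pow_q hF, herm_self_fixed hF])
  set y := Qg hF h u0 hb0 with hy
  -- conjugate the corrected lift
  set s := Qg hF h (-(w + D)) hb2 * (Qg hF h w hb * τ) with hs
  have hsH : s ∈ H := mul_mem hH2 hτH
  obtain ⟨β, hβ, hsβ⟩ : ∃ (β : F) (hβ : β + β ^ q = 0), y * s * y⁻¹ = Qz hF h hβ * τ := by
    have e1 : y * s * y⁻¹ = y * (Qg hF h (-(w + D)) hb2 * Qg hF h w hb) *
        Qg hF h ((1 : F) ^ q • lact τ (-u0)) (cond_conj hF h hτL 1 (cond_inv hF hb0)) * τ := by
      rw [hy, Qg_inv, hs, ← mul_assoc (Qg hF h _ hb2), ← mul_assoc (Qg hF h u0 hb0),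
        mul_assoc _ τ, Qg_move hF h hτL hτe, ← mul_assoc]
    rw [hy, Qg_mul, Qg_mul, Qg_mul] at e1
    obtain ⟨hβ, e2⟩ := Qg_eq_Qz hF h
      (hb := cond_add hF (cond_add hF hb0 (cond_add hF hb2 hb))
        (cond_conj hF h hτL 1 (cond_inv hF hb0)))
      (by rw [one_pow, one_smul, hlτ, smul_neg, hD]; abel)
    exact ⟨_, hβ, e1.trans (congrArg (· * τ) e2)⟩
  -- the torus element conjugated
  obtain ⟨βt, hβt, hsβt⟩ : ∃ (β : F) (hβ : β + β ^ q = 0),
      y * (Qg hF h wt hbt * t) * y⁻¹ = Qz hF h hβ * t := by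
    have e1 : y * (Qg hF h wt hbt * t) * y⁻¹ = y * Qg hF h wt hbt *
        Qg hF h (c ^ q • lact t (-u0)) (cond_conj hF h htL c (cond_inv hF hb0)) * t := by
      rw [hy, Qg_inv, ← mul_assoc (Qg hF h u0 hb0), mul_assoc _ t, Qg_move hF h htL hte,
        ← mul_assoc]
    rw [hy, Qg_mul, Qg_mul] at e1
    have hw0 : u0 + wt + c ^ q • lact t (-u0) = 0 := by
      rw [hlt, hcf, hu0']
      match_scalars <;> field_simp <;> ring
    obtain ⟨hβ', e2⟩ := Qg_eq_Qz hF h
      (hb := cond_add hF (cond_add hF hb0 hbt) (cond_conj hF h htL c (cond_inv hF hb0))) hw0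
    exact ⟨_, hβ', e1.trans (congrArg (· * t) e2)⟩
  have hH' : ∀ {g : SU (2 + 2) F q}, y * g * y⁻¹ ∈ conjH H y ↔ g ∈ H := fun {g} =>
    ⟨fun ⟨x, hx, e0⟩ => by
      have e1 : y * x * y⁻¹ = y * g * y⁻¹ := e0
      rwa [← mul_left_cancel (mul_right_cancel e1)], fun hg => conj_mem_conjH H hg⟩
  have hτ' : Qz hF h hβ * τ ∈ conjH H y := hsβ ▸ conj_mem_conjH H hsH
  have ht' : Qz hF h hβt * t ∈ conjH H y := hsβt ▸ conj_mem_conjH H (mul_mem (one_mem _) htH |>
    fun hh => by rwa [one_mul] at hh)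
  have hzero : ∀ {r : F} (hr : r + r ^ q = 0), Qz hF h hr ∈ conjH H y → r = 0 := by
    intro r hr hm
    have e1 : y * Qz hF h hr * y⁻¹ = Qz hF h hr := by
      rw [mul_inv_eq_iff_eq_mul, hy, Qz, Qg_mul, Qg_mul]
      exact Qg_congr hF h _ _ (by rw [add_zero, zero_add])
        (by rw [herm_zero_left, herm_zero_right hF]; ring)
    have hm' : Qz hF h hr ∈ H := by rw [← e1] at hm; exact hH'.1 hm
    have hrB : r ∈ Bset hF h H := ⟨by simpa using hr, hm'⟩
    rwa [AddSubgroup.card_eq_one.1 hB, AddSubgroup.mem_bot] at hrB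
  have hb2' : (c ^ (q + 1) - 1) * β = 0 := by
    have h1 := mul_mem (mul_mem ht' hτ') (inv_mem ht')
    have e1 : Qz hF h hβt * t * (Qz hF h hβ * τ) * (Qz hF h hβt * t)⁻¹ =
        Qz hF h hβt * (t * Qz hF h hβ * τ * t⁻¹) * (Qz hF h hβt)⁻¹ := by group
    have hmove : ∀ k : SU (2 + 2) F q, t * k * τ * t⁻¹ = t * k * t⁻¹ * τ := fun k => by
      have : t⁻¹ * τ = τ * t⁻¹ := by
        rw [inv_mul_eq_iff_eq_mul, ← mul_assoc, hcomm, mul_inv_cancel_right]
      rw [mul_assoc (t * k) t⁻¹, this, ← mul_assoc]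
    rw [e1, hmove, Qz_move hF h htL hte, mul_inv_cancel_right, ← mul_assoc, Qz_mul] at h1
    have hn : -βt + (-βt) ^ q = 0 := by rw [neg_pow_q hF]; linear_combination -hβt
    have hinv : (Qz hF h hβt)⁻¹ = Qz hF h hn := inv_eq_of_mul_eq_one_right (by
      rw [Qz_mul, ← Qz_zero hF h]; exact Qz_congr hF h _ _ (add_neg_cancel βt))
    rw [hinv, mul_assoc, Qz_move hF h hτL hτe, ← mul_assoc, Qz_mul] at h1
    have h2 := mul_mem h1 (inv_mem hτ')
    rw [_root_.mul_inv_rev, ← mul_assoc, mul_assoc (Qz hF h _) τ, mul_inv_cancel, mul_one] at h2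
    have hn2 : -β + (-β) ^ q = 0 := by rw [neg_pow_q hF]; linear_combination -hβ
    have hinv2 : (Qz hF h hβ)⁻¹ = Qz hF h hn2 := inv_eq_of_mul_eq_one_right (by
      rw [Qz_mul, ← Qz_zero hF h]; exact Qz_congr hF h _ _ (add_neg_cancel β))
    rw [hinv2, Qz_mul] at h2
    have h3 := hzero _ h2
    linear_combination h3
  -- the correcting element of the radical
  obtain ⟨α, hα, P, hP, hPe⟩ : ∃ α : F, β = lam * α ^ (q + 1) ∧
      ∃ P ∈ conjH H y, ∃ hb' : (0 : F) + 0 ^ q =
        -herm q ((lam * α ^ q) • u) ((lam * α ^ q) • u),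
          P = Qg hF h ((lam * α ^ q) • u) hb' := by
    have hb' : ∀ γ : F, (0 : F) + 0 ^ q = -herm q (γ • u) (γ • u) := fun γ => by
      rw [herm_smul_left, herm_smul_right hF, hu]; simp [zero_pow_q hF]
    by_cases hβ0 : β = 0
    · refine ⟨0, by simp [hβ0], 1, one_mem _, hb' _, ?_⟩
      rw [← Qg_one hF h]
      exact Qg_congr hF h _ _ (by simp [zero_pow_q hF]) rfl
    obtain ⟨α, hα⟩ := exists_norm_eq hF (t := β / lam) (by
      rw [div_pow, eq_neg_of_add_eq_zero_right hβ, eq_neg_of_add_eq_zero_right hlam,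
        neg_div_neg_eq])
    refine ⟨α, by rw [hα]; field_simp, ?_⟩
    have hc21 : c ^ 2 = 1 := by
      have h4 := (mul_eq_zero.1 hb2').resolve_right hβ0
      rw [pow_succ, hcf] at h4
      linear_combination h4
    have h2 : (2 : F) ≠ 0 := hc2 hc21
    have hcm : c = -1 := by
      have h4 : (c - 1) * (c + 1) = 0 := by linear_combination hc21
      linear_combination (mul_eq_zero.1 h4).resolve_left hcc
    set γ := lam * α ^ q
    obtain ⟨bA, hbA, hH3⟩ := hline h2 γ
    obtain ⟨bA', hbA', hP'⟩ : ∃ (bA' : F) (hh : bA' + bA' ^ q = -herm q (γ • u) (γ • u)),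
        Qg hF h (γ • u) hh ∈ conjH H y := by
      have hm := conj_mem_conjH H (y := y) hH3
      rw [hy, Qg_inv, Qg_mul, Qg_mul] at hm
      exact Qg_retarget hF h (by abel) hm
    have hbA0 : bA' = 0 := by
      have h1 := mul_mem (mul_mem ht' hP') (inv_mem ht')
      have e1 : Qz hF h hβt * t * Qg hF h (γ • u) hbA' * (Qz hF h hβt * t)⁻¹ =
          Qz hF h hβt * (t * Qg hF h (γ • u) hbA' * t⁻¹) * (Qz hF h hβt)⁻¹ := by group
      rw [e1, Lev_conj hF h htL hte, Qz, Qg_inv, Qg_mul, Qg_mul] at h1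
      have h2' := mul_mem h1 hP'
      rw [Qg_mul] at h2'
      have hw2 : 0 + c ^ q • lact t (γ • u) + -0 + γ • u = 0 := by
        rw [hlt, hcf, hcm]; module
      obtain ⟨hr, e2⟩ := Qg_eq_Qz hF h
        (hb := cond_add hF (cond_add hF (cond_add hF
          (show βt + βt ^ q = -herm q (0 : Fin 2 → F) 0 by simpa using hβt)
          (cond_conj hF h htL c hbA'))
          (cond_inv hF (show βt + βt ^ q = -herm q (0 : Fin 2 → F) 0 by simpa using hβt))) hbA') hw2
      rw [e2] at h2'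
      have e3 := hzero hr h2'
      rw [hlt, pow_succ, hcf, hcm] at e3
      simp [herm_zero_left, herm_zero_right hF, herm_smul_left, herm_smul_right hF,
        herm_neg_left, herm_neg_right hF, hu] at e3
      have : (2 : F) * bA' = 0 := by linear_combination e3
      exact (mul_eq_zero.1 this).resolve_left h2
    subst hbA0
    exact ⟨_, hP', hbA', rfl⟩
  obtain ⟨hb', rfl⟩ := hPe
  -- the product is a transvection
  set w' := α • e + jV 2 u with hw'
  have hw'0 : herm q w' w' = 0 := by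
    rw [hw', herm_add_left, herm_add_right hF, herm_add_right hF, herm_smul_left, herm_smul_left,
      herm_smul_right hF, herm_smul_right hF, h.ee, h.e_jV hF, h.jV_e hF, herm_jV_jV, hu]
    ring
  have hT : Qg hF h ((lam * α ^ q) • u) hb' * (Qz hF h hβ * τ) = tv hF hw'0 hlam := by
    rw [Qz, ← mul_assoc, Qg_mul]
    refine h.ext hF ?_ ?_ fun v => ?_
    · rw [mul_smul, hτ, h.jG_e, Qg_e, tv_smul, hw', herm_add_right hF, herm_smul_right hF, h.ee,
        h.e_jV hF]
      simp
    · rw [mul_smul, hτ, h.jG_f, Qg_f, tv_smul, hw']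
      simp only [herm_add_right hF, herm_smul_right hF, h.fe hF, h.f_jV hF, map_add, map_smul,
        map_zero, herm_zero_left, hα, pow_succ]
      module
    · rw [mul_smul, hτ, jG_smul_jV, Qg_jV, tv_smul, tv_smul, hw', herm_add_right hF,
        herm_add_right hF, herm_zero_right hF, herm_smul_right hF, herm_smul_right hF,
        h.jV_e hF, herm_jV_jV, herm_add_left, herm_smul_left, hu, map_add, map_smul, mul_pow,
        pow_q_pow_q hF, eq_neg_of_add_eq_zero_right hlam]
      module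
  have hTH : tv hF hw'0 hlam ∈ conjH H y := hT ▸ mul_mem hP hτ'
  have hwy : herm q (y⁻¹ • w') (y⁻¹ • w') = 0 := by rw [herm_smul_SU, hw'0]
  refine ⟨y⁻¹ • w', lam, hwy, hlam, ?_, hlam0, ?_⟩
  · intro e0
    have e1 := congrArg (fun x => y • x) e0
    simp only [smul_inv_smul, smul_zero] at e1
    have e2 := congrArg tail2 (e1 : w' = 0)
    rw [hw'] at e2
    have e3 : tail2 (α • e + jV 2 u) = u := by
      funext k
      have he' := congrFun h.es k
      have hu' := congrFun (tail2_jV (m := 2) u) k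
      simp only [tail2, Fin.tail, Pi.zero_apply] at he' hu'
      simp [tail2, Fin.tail, he', hu']
    rw [e3] at e2
    exact hu0 e2
  · refine hH'.1 ?_
    rw [conj_tv hF y hwy hlam]
    convert hTH using 1
    exact eq_of_smul_eq_SU fun x => by rw [tv_smul, tv_smul, smul_inv_smul]

end Cfsg.Agent.MinIndexUN
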