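import Cfsg.Agent.MinIndexUN.Four

/-!
The case distinction at a point in dimension four (helper10).
-/

set_option autoImplicit false

namespace Cfsg.Agent.MinIndexUN

open Matrix Cfsg.Agent.Unitary MulAction

variable {F : Type*} [Field F] [Fintype F] {q : ℕ} (hF : Fintype.card F = q ^ 2)
variable {e f : Fin (2 + 2) → F} (h : Std q e f) (H : Subgroup (SU (2 + 2) F q))

include hF

theorem card_A_small {A : AddSubgroup (Fin 2 → F)} (h : Nat.card A < q ^ 2) :
    Nat.card A * 2 ≤ q ^ 2 := by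
  obtain ⟨p, e, hp, he, -, hq⟩ := exists_prime_pow hF
  have hd := A.card_addSubgroup_dvd_card
  rw [Nat.card_eq_fintype_card (α := Fin 2 → F), Fintype.card_fun, hF, hq, ← pow_mul, ← pow_mul,
    Nat.dvd_prime_pow hp] at hd
  obtain ⟨i, -, hi⟩ := hd
  rw [hi, hq, ← pow_mul] at h ⊢
  calc p ^ i * 2 ≤ p ^ i * p := Nat.mul_le_mul_left _ hp.two_le
    _ = p ^ (i + 1) := (pow_succ p i).symm
    _ ≤ p ^ (e * 2) := Nat.pow_le_pow_right hp.pos ((Nat.pow_lt_pow_iff_right hp.one_lt).1 h)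

theorem L_le_of {x : ℕ} (hq : 3 ≤ q) (h : q ^ 4 * 2 ≤ x ∨ (q + 2) * q ^ 3 ≤ x) :
    (q + 1) * (q ^ 3 + 1) ≤ x := by
  have h3 : q * 2 ≤ q ^ 3 := by
    calc q * 2 ≤ q * (q * q) := Nat.mul_le_mul_left _ (by nlinarith)
      _ = _ := by ring
  have e : (q + 1) * (q ^ 3 + 1) = q ^ 4 + q ^ 3 + q + 1 := by ring
  have h4 : q ^ 3 * 3 ≤ q ^ 4 := by
    calc q ^ 3 * 3 ≤ q ^ 3 * q := Nat.mul_le_mul_left _ hq
      _ = _ := by ring
  rcases h with h | h
  · omega
  · rw [show (q + 2) * q ^ 3 = q ^ 4 + q ^ 3 * 2 by ring] at h; omega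

include h

/-- A vector of non-zero norm among the translations. -/
theorem case_norm (hq : 3 ≤ q) (hB : Nat.card (Bset hF h H) ≠ q) {v : Fin 2 → F}
    (hvA : v ∈ Aset hF h H) (hv : herm q v v ≠ 0) :
    (q + 1) * (q ^ 3 + 1) ≤ H.relIndex (Est e) := by
  set a := Nat.card (Aset hF h H)
  have ha : a ≤ q ^ 2 := (card_isotropic_le hF (Bset hF h H) (fun b hb => Bset_trace hF h H hb) hB
    (Aset hF h H) fun x hx y hy => alt_mem hF h H hx hy).1
  have hA0 : ((Aset hF h H : Set (Fin 2 → F)) \ {0}).ncard ≤ q ^ 2 - 1 := by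
    rw [Set.ncard_sdiff_singleton_of_mem (zero_mem _), ← Nat.card_coe_set_eq]
    exact Nat.sub_le_sub_right ha 1
  have h9 : 9 ≤ q ^ 2 := Nat.pow_le_pow_left hq 2
  have hpres := Kbar_pres hF h H
  by_cases hb : Nat.card (Bset hF h H) = 1
  · have h1 := x_ge_Lev hF h H
    rw [hb, mul_one] at h1
    have h2 := (cover_norm_Lev hF h hpres hvA hv).trans (Nat.mul_le_mul_left _ hA0)
    rw [← mul_assoc] at h2
    have h3 := Nat.le_of_mul_le_mul_right h2 (by omega)
    refine L_le_of hF hq (Or.inl (Nat.le_of_mul_le_mul_right ?_ (show 0 < q ^ 2 by omega)))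
    calc q ^ 4 * 2 * q ^ 2 ≤ q ^ 4 * (q - 1) * q ^ 2 :=
          Nat.mul_le_mul_right _ (Nat.mul_le_mul_left _ (by omega))
      _ = q ^ (2 * 2 + 1) * ((q - 1) * q) := by ring
      _ ≤ q ^ (2 * 2 + 1) * (Kbar hF h H).relIndex (Lev e f) := Nat.mul_le_mul_left _ h3
      _ ≤ H.relIndex (Est e) * a := h1
      _ ≤ _ := Nat.mul_le_mul_left _ ha
  · have h1 := x_ge_of_B_mid hF h H hb hB (by norm_num)
    have h2 := (cover_norm_Lev1 hF h hpres hvA hv).trans (Nat.mul_le_mul_left _ hA0)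
    have h3 := Nat.le_of_mul_le_mul_right h2 (by omega)
    refine L_le_of hF hq (Or.inr (Nat.le_of_mul_le_mul_right ?_ (show 0 < q ^ 2 by omega)))
    calc (q + 2) * q ^ 3 * q ^ 2 = (q + 2) * q ^ (2 * 2) * q := by ring
      _ ≤ (q + 2) * q ^ (2 * 2) * (Kbar hF h H).relIndex (Lev1 e f) := Nat.mul_le_mul_left _ h3
      _ ≤ H.relIndex (Est e) * a := h1
      _ ≤ _ := Nat.mul_le_mul_left _ ha

/-- Off a line in odd characteristic. -/
theorem case_odd (hq : 3 ≤ q) (hB : Nat.card (Bset hF h H) ≠ q)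
    (hA : ∀ v ∈ Aset hF h H, herm q v v = 0) {u y : Fin 2 → F} (huA : u ∈ Aset hF h H)
    (hyA : y ∈ Aset hF h H) (huy : herm q u y ≠ 0) (h2 : (2 : F) ≠ 0) :
    (q + 1) * (q ^ 3 + 1) ≤ H.relIndex (Est e) := by
  have ha := real_small hF h H hB hA huA hyA huy h2
  set a := Nat.card (Aset hF h H) with ha'
  have hj : 2 ≤ (Kbar hF h H).relIndex (Lev1 e f) := by
    have hpos : 0 < (Kbar hF h H).relIndex (Lev1 e f) :=
      Nat.pos_of_ne_zero Subgroup.index_ne_zero_of_finite
    by_contra hlt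
    have h1 : Lev1 e f ≤ Kbar hF h H := Subgroup.relIndex_eq_one.1 (by omega)
    have hu := hA u huA
    have hyu : herm q y u ≠ 0 := fun e0 => huy ((herm_eq_zero_comm hF).1 e0)
    have hu0 : u ≠ 0 := fun e0 => huy (by rw [e0, herm_zero_left])
    let φ : Option {c : F // c + c ^ q = 0} → Aset hF h H := fun o => o.elim ⟨y, hyA⟩ fun c =>
      ⟨(c.1 * herm q y u) • u, by
        have hk := Kbar_pres hF h H (jG 2 (tv hF hu c.2))
          (h1 (jG_range_le hF h ⟨_, rfl⟩)) (jG_mem_Lev hF h _) y hyA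
        rw [tact_jG hF h, tv_smul] at hk
        simpa using sub_mem hk hyA⟩
    have hφ : Function.Injective φ := by
      have hne : ∀ c : F, (c * herm q y u) • u ≠ y := fun c e0 => huy (by
        rw [← e0, herm_smul_right hF, hu, mul_zero])
      rintro (_ | c) (_ | c') e0
      · rfl
      · exact absurd (congrArg Subtype.val e0).symm (hne c'.1)
      · exact absurd (congrArg Subtype.val e0) (hne c.1)
      · exact congrArg some (Subtype.ext (mul_right_cancel₀ hyu
          (smul_left_injective F hu0 (congrArg Subtype.val e0))))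
    have h2' := Nat.card_le_card_of_injective φ hφ
    rw [Finite.card_option, card_trace_ker hF] at h2'
    omega
  by_cases hb : Nat.card (Bset hF h H) = 1
  · have h1 := x_ge_of_B_one hF h H hb (by norm_num)
    refine L_le_of hF hq (Or.inl (Nat.le_of_mul_le_mul_right ?_ (show 0 < q by omega)))
    calc q ^ 4 * 2 * q = q ^ (2 * 2 + 1) * 2 := by ring
      _ ≤ q ^ (2 * 2 + 1) * (Kbar hF h H).relIndex (Lev1 e f) := Nat.mul_le_mul_left _ hj
      _ ≤ H.relIndex (Est e) * a := h1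
      _ ≤ _ := Nat.mul_le_mul_left _ ha
  · have h1 := x_ge_of_B_mid hF h H hb hB (by norm_num)
    refine L_le_of hF hq (Or.inr (Nat.le_of_mul_le_mul_right ?_ (show 0 < q by omega)))
    calc (q + 2) * q ^ 3 * q = (q + 2) * q ^ (2 * 2) * 1 := by ring
      _ ≤ (q + 2) * q ^ (2 * 2) * (Kbar hF h H).relIndex (Lev1 e f) :=
          Nat.mul_le_mul_left _ (by omega)
      _ ≤ H.relIndex (Est e) * a := h1
      _ ≤ _ := Nat.mul_le_mul_left _ ha

/-- The possibilities at a point. -/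
theorem four_cases (hq : 3 ≤ q) (hB : Nat.card (Bset hF h H) ≠ q) :
    (q + 1) * (q ^ 3 + 1) ≤ H.relIndex (Est e) ∨
      (Nat.card (Bset hF h H) = 1 ∧ q ^ 3 * (q + 1) ≤ H.relIndex (Est e) ∧
        ∃ (w : Fin (2 + 2) → F) (c : F) (hw : herm q w w = 0) (hc : c + c ^ q = 0),
          w ≠ 0 ∧ c ≠ 0 ∧ tv hF hw hc ∈ H) := by
  classical
  set a := Nat.card (Aset hF h H) with ha'
  obtain ⟨ha, hat⟩ := card_isotropic_le hF (Bset hF h H) (fun b hb => Bset_trace hF h H hb) hB
    (Aset hF h H) fun x hx y hy => alt_mem hF h H hx hy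
  by_cases hn : ∃ v ∈ Aset hF h H, herm q v v ≠ 0
  · obtain ⟨v, hvA, hv⟩ := hn
    exact Or.inl (case_norm hF h H hq hB hvA hv)
  push Not at hn
  by_cases hA0 : ∀ v ∈ Aset hF h H, v = 0
  · left
    have ha1 : a = 1 := AddSubgroup.card_eq_one.2 (eq_bot_iff.2 fun v hv => hA0 v hv)
    have hpos : 0 < (Kbar hF h H).relIndex (Lev1 e f) :=
      Nat.pos_of_ne_zero Subgroup.index_ne_zero_of_finite
    by_cases hb : Nat.card (Bset hF h H) = 1
    · have h1 := x_ge_of_B_one hF h H hb (by norm_num)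
      rw [← ha', ha1, mul_one] at h1
      refine L_le_of hF hq (Or.inl (le_trans ?_ ((Nat.le_mul_of_pos_right _ hpos).trans h1)))
      rw [pow_succ q (2 * 2)]
      exact Nat.mul_le_mul_left _ (by omega)
    · have h1 := x_ge_of_B_mid hF h H hb hB (by norm_num)
      rw [← ha', ha1, mul_one] at h1
      refine L_le_of hF hq (Or.inr (le_trans ?_ ((Nat.le_mul_of_pos_right _ hpos).trans h1)))
      exact Nat.mul_le_mul_left _ (Nat.pow_le_pow_right (by omega) (by norm_num))
  push Not at hA0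
  obtain ⟨u, huA, hu0⟩ := hA0
  have hu := hn u huA
  by_cases hodd : (2 : F) ≠ 0 ∧ ∃ y ∈ Aset hF h H, herm q u y ≠ 0
  · obtain ⟨h2, y, hyA, huy⟩ := hodd
    exact Or.inl (case_odd hF h H hq hB hn huA hyA huy h2)
  have hline : (2 : F) ≠ 0 ∨ (∀ y ∈ Aset hF h H, herm q u y = 0) →
      ∀ v ∈ Aset hF h H, ∃ c : F, v = c • u := by
    intro hh v hv
    have huv : herm q u v = 0 := by
      rcases hh with h2 | h0
      · by_contra hne; exact hodd ⟨h2, v, hv, hne⟩
      · exact h0 v hv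
    obtain ⟨y, -, hy, huy⟩ :=
      exists_partner hF (S := (∅ : Finset (Fin 2))) (u := u) (by simp [supp_empty]) hu hu0
    refine ⟨herm q v y, sub_eq_zero.1 (eq_zero_of_herm hF fun z => ?_)⟩
    have hli : LinearIndependent F ![u, y] := by
      rw [LinearIndependent.pair_iff]
      intro s t hst
      have h1 := congrArg (fun x => herm q x y) hst
      have h2 := congrArg (fun x => herm q x u) hst
      simp [herm_add_left, herm_smul_left, hu, hy, huy, herm_one_swap hF huy] at h1 h2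
      exact ⟨h1, h2⟩
    have hm : z ∈ Submodule.span F (Set.range ![u, y]) :=
      hli.span_eq_top_of_card_eq_finrank (by simp) ▸ Submodule.mem_top
    rw [Submodule.mem_span_range_iff_exists_fun] at hm
    obtain ⟨c, rfl⟩ := hm
    simp [Fin.sum_univ_two, herm_add_right hF, herm_sub_left, herm_smul_left, herm_smul_right hF,
      hu, huy, (herm_eq_zero_comm hF).1 huv]
  -- every subgroup preserving `A` has index at least `q + 1`
  have hidx : ∀ K : Subgroup (SU (2 + 2) F q), Pres q e f K (Aset hF h H) →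
      q + 1 ≤ K.relIndex (Lev1 e f) := by
    intro K hK
    by_cases hsplit : (2 : F) ≠ 0 ∨ ∀ y ∈ Aset hF h H, herm q u y = 0
    · exact index_line hF h hK hu hu0 huA (hline hsplit)
    · push Not at hsplit
      have h1 := cover_iso_even hF h hsplit.1 hK huA hu hu0
      rw [Set.ncard_sdiff_singleton_of_mem (zero_mem _), ← Nat.card_coe_set_eq] at h1
      have h3 : Nat.card ((Aset hF h H : Set (Fin 2 → F))) - 1 ≤ q ^ 2 - 1 :=
        Nat.sub_le_sub_right ha 1
      have h4 := h1.trans (Nat.mul_le_mul_left _ h3)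
      rw [mul_comm (q ^ 2 - 1)] at h4
      have h9 : 9 ≤ q ^ 2 := Nat.pow_le_pow_left hq 2
      exact Nat.le_of_mul_le_mul_right h4 (by omega)
  have hj := hidx _ (Kbar_pres hF h H)
  by_cases hb : Nat.card (Bset hF h H) = 1
  swap
  · left
    have h1 := x_ge_of_B_mid hF h H hb hB (by norm_num)
    have h2 : (q + 2) * q ^ 2 * (q + 1) ≤ H.relIndex (Est e) := by
      refine Nat.le_of_mul_le_mul_right ?_ (show 0 < q ^ 2 by positivity)
      calc (q + 2) * q ^ 2 * (q + 1) * q ^ 2 = (q + 2) * q ^ (2 * 2) * (q + 1) := by ring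
        _ ≤ (q + 2) * q ^ (2 * 2) * (Kbar hF h H).relIndex (Lev1 e f) := Nat.mul_le_mul_left _ hj
        _ ≤ H.relIndex (Est e) * a := h1
        _ ≤ _ := Nat.mul_le_mul_left _ ha
    nlinarith
  have h1 := x_ge_of_B_one hF h H hb (by norm_num)
  by_cases hlt : a < q ^ 2
  · left
    refine L_le_of hF hq (Or.inl ?_)
    refine Nat.le_of_mul_le_mul_right ?_ (show 0 < q ^ 2 by positivity)
    calc q ^ 4 * 2 * q ^ 2 ≤ 2 * (q ^ (2 * 2 + 1) * (q + 1)) := by
          have e1 : q ^ 4 * 2 * q ^ 2 = 2 * (q ^ (2 * 2 + 1) * q) := by ring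
          rw [e1]
          exact Nat.mul_le_mul_left _ (Nat.mul_le_mul_left _ (by omega))
      _ ≤ 2 * (H.relIndex (Est e) * a) :=
          Nat.mul_le_mul_left _ ((Nat.mul_le_mul_left _ hj).trans h1)
      _ = H.relIndex (Est e) * (a * 2) := by ring
      _ ≤ _ := Nat.mul_le_mul_left _ (card_A_small hF hlt)
  have haq : a = q ^ 2 := le_antisymm ha (not_lt.1 hlt)
  have hx : q ^ 3 * (q + 1) ≤ H.relIndex (Est e) := by
    refine Nat.le_of_mul_le_mul_right ?_ (show 0 < q ^ 2 by positivity)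
    calc q ^ 3 * (q + 1) * q ^ 2 = q ^ (2 * 2 + 1) * (q + 1) := by ring
      _ ≤ q ^ (2 * 2 + 1) * (Kbar hF h H).relIndex (Lev1 e f) := Nat.mul_le_mul_left _ hj
      _ ≤ H.relIndex (Est e) * a := h1
      _ = _ := by rw [haq]
  by_cases hbig : q + 2 ≤ (Kbar hF h H).relIndex (Lev e f)
  · left
    have h2 := x_ge_Lev hF h H
    rw [hb, mul_one, ← ha', haq] at h2
    have h3 : q ^ 3 * (q + 2) ≤ H.relIndex (Est e) := by
      refine Nat.le_of_mul_le_mul_right ?_ (show 0 < q ^ 2 by positivity)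
      calc q ^ 3 * (q + 2) * q ^ 2 = q ^ (2 * 2 + 1) * (q + 2) := by ring
        _ ≤ _ := (Nat.mul_le_mul_left _ hbig).trans h2
    refine L_le_of hF hq (Or.inr ?_)
    rwa [mul_comm]
  right
  refine ⟨hb, hx, ?_⟩
  have hsc : ∀ t : F, t ^ q = t → ∀ x ∈ Aset hF h H, t • x ∈ Aset hF h H := fun t ht =>
    hat haq t (mem_scal_of_bot hF _ (fun b hb => Bset_trace hF h H hb) hb ht)
  have hS : stabA hF h (Aset hF h H) ≤ Kbar hF h H := by
    have hle := stabA_le hF h (Aset hF h H : Set (Fin 2 → F))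
    have h2 : q + 1 ≤ (stabA hF h (Aset hF h H : Set (Fin 2 → F))).relIndex (Lev e f) :=
      (hidx _ (stabA_pres hF h _)).trans
        (Subgroup.relIndex_le_of_le_right Lev1_le Subgroup.index_ne_zero_of_finite)
    have h3 := Subgroup.relIndex_mul_relIndex _ _ _ (Kbar_le_stabA hF h H) hle
    refine Subgroup.relIndex_eq_one.1 ?_
    have hpos : 0 < (Kbar hF h H).relIndex (stabA hF h (Aset hF h H : Set (Fin 2 → F))) :=
      Nat.pos_of_ne_zero Subgroup.index_ne_zero_of_finite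
    by_contra hne
    have h4 : 2 * (q + 1) ≤ (Kbar hF h H).relIndex (Lev e f) :=
      h3 ▸ Nat.mul_le_mul (by omega) h2
    omega
  refine exists_tv_of_lifts hF h H hq hb hsc hu hu0 ?_ hS ?_
  · -- in odd characteristic `A` is the line of `u`
    intro h2 γ
    have hsub : (Aset hF h H : Set (Fin 2 → F)) ⊆ Set.range fun c : F => c • u := fun v hv =>
      let ⟨c, hc⟩ := hline (Or.inl h2) v hv
      ⟨c, hc.symm⟩
    have heq := Set.eq_of_subset_of_ncard_le hsub (by
      rw [← Nat.card_coe_set_eq, ← Nat.card_coe_set_eq]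
      refine (Finite.card_range_le _).trans ?_
      rw [Nat.card_eq_fintype_card, hF, ← haq]
      rfl) (Set.finite_range _)
    have hm : γ • u ∈ (Aset hF h H : Set (Fin 2 → F)) := heq ▸ ⟨γ, rfl⟩
    exact hm
  · intro c hc v hv
    rw [tv_smul]
    by_cases hvu : herm q v u = 0
    · simpa [hvu] using hv
    refine add_mem hv (hsc _ ?_ u huA)
    have h2 : (2 : F) = 0 := by
      by_contra h2
      exact hodd ⟨h2, v, hv, fun e0 => hvu ((herm_eq_zero_comm hF).1 e0)⟩
    have hneg : ∀ x : F, -x = x := fun x => by linear_combination (-x) * h2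
    have e1 := hn _ (add_mem hv huA)
    rw [herm_add_left, herm_add_right hF, herm_add_right hF, hn v hv, hu, zero_add, add_zero,
      herm_swap hF v u] at e1
    rw [mul_pow, eq_neg_of_add_eq_zero_right hc, eq_neg_of_add_eq_zero_right e1]
    ring

end Cfsg.Agent.MinIndexUN
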