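import Cfsg.Agent.MinIndexUN.Lines
import Cfsg.Agent.Lib.Unitary.Center

/-!
The stabiliser of a totally isotropic line in `PSU₄(q)` (helper10).
-/

set_option autoImplicit false

namespace Cfsg.Agent.MinIndexUN

open Matrix Cfsg.Agent.Unitary MulAction
open scoped Pointwise

variable {F : Type*} [Field F] [Fintype F] {q : ℕ} (hF : Fintype.card F = q ^ 2)

include hF

theorem psu_exists_lines :
    ∃ H : Subgroup (Cfsg.PSU 4 F q), H.index = (q + 1) * (q ^ 3 + 1) := by
  obtain ⟨e, f, h⟩ := exists_std hF (m := 2)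
  obtain ⟨z, hz0, hz⟩ := exists_pt_two hF
  let π := QuotientGroup.mk' (Subgroup.center (SU (2 + 2) F q))
  have hπ : Function.Surjective π := QuotientGroup.mk'_surjective _
  set S := MulAction.stabilizer (SU (2 + 2) F q) (pl e (jV 2 z))
  have hker : π.ker ≤ S := by
    rw [QuotientGroup.ker_mk']
    intro g hg
    obtain ⟨r, hr⟩ := (mem_center_iff hF (by norm_num)).1 hg
    have hr0 : r ≠ 0 := fun e0 => (smul_ne_zero_iff_ne g).2 (h.e_ne hF) (by rw [hr, e0, zero_smul])
    refine MulAction.mem_stabilizer_iff.2 ?_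
    rw [smul_pl, hr, hr]
    calc pl (r • e) (r • jV 2 z) = pl (r • e) ((0 : F) • e + r • jV 2 z) := by
          rw [zero_smul, zero_add]
      _ = pl e (jV 2 z) := pl_comb hr0 hr0
  refine ⟨S.map π, ?_⟩
  rw [Subgroup.index_map_eq _ hπ hker, MulAction.index_stabilizer, ← Nat.card_coe_set_eq]
  exact card_lines hF h hz hz0

end Cfsg.Agent.MinIndexUN
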