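import Cfsg.Agent.MinIndexUN.Twist
import Cfsg.Agent.MinIndexUN.Elements

/-!
Totally isotropic lines in dimension four (helper10).
-/

set_option autoImplicit false

namespace Cfsg.Agent.MinIndexUN

open Matrix Cfsg.Agent.Unitary MulAction
open scoped Pointwise LinearAlgebra.Projectivization

variable {F : Type*} [Field F] [Fintype F] {q : ℕ} (hF : Fintype.card F = q ^ 2)

/-- The span of two vectors. -/
def pl (x y : Fin (2 + 2) → F) : Set (Fin (2 + 2) → F) := {z | ∃ c d : F, z = c • x + d • y}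

omit [Fintype F] in
theorem smul_pl (g : SU (2 + 2) F q) (x y : Fin (2 + 2) → F) : g • pl x y = pl (g • x) (g • y) := by
  ext z
  rw [Set.mem_smul_set_iff_inv_smul_mem]
  constructor
  · rintro ⟨c, d, e⟩
    exact ⟨c, d, by
      rw [← smul_inv_smul g z, e, smul_add, smul_comm g c, smul_comm g d]⟩
  · rintro ⟨c, d, rfl⟩
    exact ⟨c, d, by rw [smul_add, smul_comm g⁻¹ c, smul_comm g⁻¹ d, inv_smul_smul, inv_smul_smul]⟩

omit [Fintype F] in
theorem pl_comb {x y : Fin (2 + 2) → F} {a b c : F} (ha : a ≠ 0) (hc : c ≠ 0) :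
    pl (a • x) (b • x + c • y) = pl x y := by
  ext z
  constructor
  · rintro ⟨s, t, rfl⟩
    exact ⟨s * a + t * b, t * c, by module⟩
  · rintro ⟨s, t, rfl⟩
    exact ⟨(s - t * c⁻¹ * b) * a⁻¹, t * c⁻¹, by match_scalars <;> field_simp <;> ring⟩

omit [Fintype F] in
theorem pl_symm (x y : Fin (2 + 2) → F) : pl x y = pl y x := by
  ext z
  constructor <;> rintro ⟨c, d, rfl⟩ <;> exact ⟨d, c, add_comm _ _⟩

variable {e f : Fin (2 + 2) → F} (h : Std q e f)
include hF h

theorem exists_pl_through {v : Fin (2 + 2) → F} (hv : herm q v v = 0) (hve : herm q v e = 0)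
    (hnv : ∀ c : F, v ≠ c • e) :
    ∃ z : Fin 2 → F, z ≠ 0 ∧ herm q z z = 0 ∧ pl e v = pl e (jV 2 z) := by
  have hd := h.decomp hF v
  rw [hve, zero_smul, add_zero] at hd
  refine ⟨tail2 v, fun h0 => hnv (herm q v f) (by
      conv_lhs => rw [hd, h0, map_zero, add_zero]), ?_, ?_⟩
  · rw [hd] at hv
    simpa [herm_add_left, herm_add_right hF, herm_smul_left, herm_smul_right hF, h.ee, h.e_jV hF,
      h.jV_e hF, herm_jV_jV] using hv
  · conv_lhs => rw [hd]
    rw [← pl_comb (x := e) (y := jV 2 (tail2 v)) (a := 1) (b := herm q v f) (c := 1) one_ne_zero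
      one_ne_zero, one_smul, one_smul]

theorem exists_jG_pl {z z' : Fin 2 → F} (hz : herm q z z = 0) (hz' : herm q z' z' = 0)
    (h0 : z ≠ 0) (h0' : z' ≠ 0) :
    ∃ g : SU (2 + 2) F q, g • pl e (jV 2 z) = pl e (jV 2 z') := by
  obtain ⟨t, -, a, ha, ht⟩ := exists_move_point hF (S := (∅ : Finset (Fin 2))) (u := z) (u' := z')
    (by simp [supp_empty]) (by simp [supp_empty]) hz hz' h0 h0'
  refine ⟨jG 2 t, ?_⟩
  rw [smul_pl, h.jG_e, jG_smul_jV, ht, map_smul]
  conv_rhs => rw [← pl_comb (x := e) (y := jV 2 z') (a := 1) (b := 0) (c := a) one_ne_zero ha,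
    one_smul, zero_smul, zero_add]

/-- Every totally isotropic line is equivalent to the standard one. -/
theorem pl_mem_orbit {z₀ : Fin 2 → F} (hz₀ : herm q z₀ z₀ = 0) (h0 : z₀ ≠ 0)
    {x y : Fin (2 + 2) → F} (hx : herm q x x = 0) (hy : herm q y y = 0) (hxy : herm q x y = 0)
    (hx0 : x ≠ 0) (hli : ∀ c : F, y ≠ c • x) :
    pl x y ∈ MulAction.orbit (SU (2 + 2) F q) (pl e (jV 2 z₀)) := by
  obtain ⟨g, -, a, ha, hg⟩ := exists_move_point hF (S := (∅ : Finset (Fin (2 + 2)))) (u := x)
    (u' := e) (by simp [supp_empty]) (by simp [supp_empty]) hx h.ee hx0 (h.e_ne hF)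
  have hv : herm q (g • y) e = 0 := by
    have h1 := herm_smul_SU g y x
    rw [hg, herm_smul_right hF, (herm_eq_zero_comm hF).1 hxy] at h1
    exact (mul_eq_zero.1 h1).resolve_left (pow_ne_zero _ ha)
  obtain ⟨z, hz0, hz, hpl⟩ := exists_pl_through hF h (v := g • y) (by rw [herm_smul_SU, hy]) hv
    (fun c e0 => hli (c / a) (smul_left_cancel g (by
      rw [e0, smul_comm g, hg, smul_smul, div_mul_cancel₀ _ ha])))
  obtain ⟨k, hk⟩ := exists_jG_pl hF h hz₀ hz h0 hz0
  refine ⟨g⁻¹ * k, ?_⟩
  show (g⁻¹ * k) • pl e (jV 2 z₀) = pl x y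
  rw [mul_smul, hk, ← hpl, inv_smul_eq_iff, smul_pl, hg]
  conv_rhs => rw [← zero_add (g • y), ← one_smul F (g • y), ← zero_smul F e, pl_comb ha one_ne_zero]

omit h in
theorem exists_pt_two : ∃ z : Fin 2 → F, z ≠ 0 ∧ herm q z z = 0 := exists_iso_vec hF le_rfl

/-- The number of totally isotropic lines. -/
theorem card_lines {z₀ : Fin 2 → F} (hz₀ : herm q z₀ z₀ = 0) (h0 : z₀ ≠ 0) :
    Nat.card (MulAction.orbit (SU (2 + 2) F q) (pl e (jV 2 z₀))) = (q + 1) * (q ^ 3 + 1) := by
  classical
  haveI := finite_pts hF (2 + 2)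
  set O := MulAction.orbit (SU (2 + 2) F q) (pl e (jV 2 z₀)) with hO
  let T : IsoPt hF (2 + 2) → O → Prop := fun p W => p.1.rep ∈ W.1
  haveI : Fintype (IsoPt hF (2 + 2)) := Fintype.ofFinite _
  haveI : Fintype O := Fintype.ofFinite _
  have hmem : ∀ (g : SU (2 + 2) F q) (p : IsoPt hF (2 + 2)) (W : Set (Fin (2 + 2) → F)),
      W ∈ O → ((g • p).1.rep ∈ g • W ↔ p.1.rep ∈ W) := by
    intro g p W hW
    obtain ⟨a, ha, hg⟩ := rep_smul_of_eq hF (g := g) (p := p) (p' := g • p) rfl
    obtain ⟨k, rfl⟩ := hW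
    simp only [smul_pl]
    constructor
    · rintro ⟨c, d, e1⟩
      refine ⟨a * c, a * d, smul_left_cancel g ?_⟩
      rw [hg, e1, smul_add g, smul_comm g (a * c), smul_comm g (a * d)]
      generalize g • k • e = u1
      generalize g • k • (jV 2) z₀ = u2
      module
    · rintro ⟨c, d, e1⟩
      refine ⟨a⁻¹ * c, a⁻¹ * d, ?_⟩
      rw [← inv_smul_smul₀ ha (g • p).1.rep, ← hg, e1, smul_add g, smul_comm g c, smul_comm g d]
      generalize g • k • e = u1
      generalize g • k • (jV 2) z₀ = u2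
      module
  -- lines through a point
  have hP : ∀ p : IsoPt hF (2 + 2), Nat.card {W : O // T p W} = q + 1 := by
    intro p
    obtain ⟨p0, a, ha, hp0⟩ := exists_pt hF (h.e_ne hF) h.ee
    haveI := isPretransitive_points hF (n := 2 + 2)
    obtain ⟨g, rfl⟩ := MulAction.exists_smul_eq (SU (2 + 2) F q) p0 p
    have e1 : Nat.card {W : O // T (g • p0) W} = Nat.card {W : O // T p0 W} := by
      refine (Nat.card_congr ((MulAction.toPerm g).subtypeEquiv fun W => ?_)).symm
      exact (hmem g p0 W.1 W.2).symm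
    rw [e1, ← card_pts_two hF]
    refine (Nat.card_eq_of_bijective (fun z : IsoPt hF 2 =>
      (⟨⟨pl e (jV 2 z.1.rep), pl_mem_orbit hF h hz₀ h0 h.ee (by rw [herm_jV_jV]; exact z.2)
        (h.e_jV hF _) (h.e_ne hF) (fun c e0 => z.1.rep_nonzero (by
          have := congrArg tail2 e0
          rw [tail2_jV] at this
          rw [this]
          funext k
          have he' := congrFun h.es k
          simp only [tail2, Fin.tail, Pi.zero_apply] at he'
          simp [tail2, Fin.tail, he']))⟩,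
        ⟨a, 0, by rw [hp0, zero_smul, add_zero]⟩⟩ : {W : O // T p0 W})) ⟨?_, ?_⟩).symm
    · intro z z' e0
      have e1 : pl e (jV 2 z.1.rep) = pl e (jV 2 z'.1.rep) :=
        congrArg (fun W : {W : O // T p0 W} => (W.1 : Set (Fin (2 + 2) → F))) e0
      obtain ⟨c, d, e2⟩ : jV 2 z.1.rep ∈ pl e (jV 2 z'.1.rep) :=
        e1 ▸ ⟨0, 1, by rw [zero_smul, zero_add, one_smul]⟩
      have e3 := congrArg tail2 e2
      rw [tail2_jV] at e3
      have e4 : tail2 (c • e + d • jV 2 z'.1.rep) = d • z'.1.rep := by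
        funext k
        have he' := congrFun h.es k
        have hu := congrFun (tail2_jV (m := 2) z'.1.rep) k
        simp only [tail2, Fin.tail, Pi.zero_apply] at he' hu
        simp [tail2, Fin.tail, he', hu]
      rw [e4] at e3
      by_contra hne
      exact ne_smul_of_ne hF hne d e3
    · rintro ⟨⟨W, g', rfl⟩, hpW⟩
      have hW : g' • pl e (jV 2 z₀) = pl (g' • e) (g' • jV 2 z₀) := smul_pl g' _ _
      obtain ⟨c, d, hcd⟩ : p0.1.rep ∈ pl (g' • e) (g' • jV 2 z₀) := hW ▸ hpW
      set u := g' • e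
      set w := g' • jV 2 z₀
      have huu : herm q u u = 0 := by rw [herm_smul_SU, h.ee]
      have hww : herm q w w = 0 := by rw [herm_smul_SU, herm_jV_jV, hz₀]
      have huw : herm q u w = 0 := by rw [herm_smul_SU, h.e_jV hF]
      have hwu : herm q w u = 0 := (herm_eq_zero_comm hF).1 huw
      have hpu : herm q p0.1.rep u = 0 ∧ herm q p0.1.rep w = 0 := by
        rw [hcd]; simp [herm_add_left, herm_smul_left, huu, hww, huw, hwu]
      rw [hp0] at hpu hcd
      simp only [herm_smul_left, mul_eq_zero, ha, false_or] at hpu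
      have hli : ∀ k : F, w ≠ k • u := by
        intro k e0
        have e5 : jV 2 z₀ = k • e := smul_left_cancel g' (by rw [smul_comm g']; exact e0)
        have e6 := congrArg tail2 e5
        rw [tail2_jV] at e6
        apply h0
        rw [e6]
        funext j
        have he' := congrFun h.es j
        simp only [tail2, Fin.tail, Pi.zero_apply] at he'
        simp [tail2, Fin.tail, he']
      have hu0 : u ≠ 0 := (smul_ne_zero_iff_ne g').2 (h.e_ne hF)
      -- pick the generator off the point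
      obtain ⟨v, hvv, hve, hnv, hpl⟩ : ∃ v, herm q v v = 0 ∧ herm q v e = 0 ∧
          (∀ k : F, v ≠ k • e) ∧ pl u w = pl e v := by
        have hee : e = (a⁻¹ * c) • u + (a⁻¹ * d) • w := by
          rw [← smul_smul, ← smul_smul, ← smul_add, ← hcd, inv_smul_smul₀ ha]
        by_cases hd : d = 0
        · refine ⟨w, hww, (herm_eq_zero_comm hF).1 hpu.2, ?_, ?_⟩
          · intro k e0
            refine hli (k * (a⁻¹ * c)) ?_
            rw [e0, hee, hd]; simp [smul_smul]
          · have hc : a⁻¹ * c ≠ 0 := fun e0 => h.e_ne hF (by rw [hee, e0, hd]; simp)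
            rw [hee, hd, mul_zero, zero_smul, add_zero]
            conv_lhs => rw [← pl_comb (x := u) (y := w) (b := 0) hc one_ne_zero, zero_smul,
              zero_add, one_smul]
        · refine ⟨u, huu, (herm_eq_zero_comm hF).1 hpu.1, ?_, ?_⟩
          · intro k e0
            by_cases hk : k = 0
            · exact hu0 (by rw [e0, hk, zero_smul])
            refine hli ((k⁻¹ - a⁻¹ * c) / (a⁻¹ * d)) ?_
            have e7 : k⁻¹ • u = e := by rw [e0, inv_smul_smul₀ hk]
            have e8 : (a⁻¹ * d) • w = (k⁻¹ - a⁻¹ * c) • u := by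
              rw [sub_smul, e7]; conv_rhs => rw [hee]; 
              abel
            rw [div_eq_inv_mul, ← smul_smul, ← e8, inv_smul_smul₀ (mul_ne_zero (inv_ne_zero ha) hd)]
          · rw [pl_symm e u, hee]
            conv_lhs => rw [← pl_comb (x := u) (y := w) (b := a⁻¹ * c) one_ne_zero
              (mul_ne_zero (inv_ne_zero ha) hd), one_smul]
      obtain ⟨z, hz0, hz, hz'⟩ := exists_pl_through hF h hvv hve hnv
      obtain ⟨P, b, hb, hP⟩ := exists_pt hF hz0 hz
      refine ⟨P, Subtype.ext (Subtype.ext ?_)⟩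
      show pl e (jV 2 P.1.rep) = g' • pl e (jV 2 z₀)
      rw [hW, hpl, hz', hP, map_smul]
      conv_rhs => rw [← pl_comb (x := e) (y := jV 2 z) (a := 1) (b := 0) (c := b) one_ne_zero hb,
        one_smul, zero_smul, zero_add]
  -- points on a line
  have hW : ∀ W : O, Nat.card {p : IsoPt hF (2 + 2) // T p W} = q ^ 2 + 1 := by
    rintro ⟨W, g, rfl⟩
    have e1 : Nat.card {p : IsoPt hF (2 + 2) // T p ⟨g • pl e (jV 2 z₀), g, rfl⟩} =
        Nat.card {p : IsoPt hF (2 + 2) // p.1.rep ∈ pl e (jV 2 z₀)} := by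
      refine (Nat.card_congr ((MulAction.toPerm g).subtypeEquiv fun p => ?_)).symm
      exact (hmem g p _ ⟨1, one_smul _ _⟩).symm
    rw [e1]
    let L : (Fin 2 → F) →ₗ[F] (Fin (2 + 2) → F) :=
      { toFun := fun s => s 0 • e + s 1 • jV 2 z₀
        map_add' := fun s t => by simp only [Pi.add_apply, add_smul]; abel
        map_smul' := fun c s => by simp [smul_add, smul_smul] }
    have hL : Function.Injective L := by
      refine (injective_iff_map_eq_zero L).2 fun s hs => ?_
      have hs' : s 0 • e + s 1 • jV 2 z₀ = 0 := hs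
      have e2 := congrArg (fun x => herm q x f) hs'
      simp [herm_add_left, herm_smul_left, h.ef, h.jV_f hF] at e2
      rw [e2, zero_smul, zero_add, ← map_smul] at hs'
      have e3 := (smul_eq_zero.1 (jV_injective (hs'.trans (map_zero _).symm))).resolve_right h0
      funext i; fin_cases i <;> assumption
    have hiso : ∀ s, herm q (L s) (L s) = 0 := fun s => by
      show herm q (s 0 • e + s 1 • jV 2 z₀) (s 0 • e + s 1 • jV 2 z₀) = 0
      simp [herm_add_left, herm_add_right hF, herm_smul_left, herm_smul_right hF, h.ee, h.e_jV hF,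
        h.jV_e hF, herm_jV_jV, hz₀]
    choose P c hc hP' using fun s : ℙ F (Fin 2 → F) =>
      exists_pt hF (n := 2 + 2) (w := L s.rep)
        (fun e0 => s.rep_nonzero (hL (e0.trans (map_zero L).symm))) (hiso s.rep)
    have hbij : Function.Bijective (fun s : ℙ F (Fin 2 → F) =>
        (⟨P s, c s * s.rep 0, c s * s.rep 1, by
          rw [hP' s, ← smul_smul, ← smul_smul, ← smul_add]; rfl⟩ :
          {p : IsoPt hF (2 + 2) // p.1.rep ∈ pl e (jV 2 z₀)})) := by
      constructor
      · intro s s' e0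
        have e2 : (P s).1.rep = (P s').1.rep := congrArg (fun p => (p.1 : IsoPt hF (2 + 2)).1.rep) e0
        rw [hP', hP', ← map_smul, ← map_smul] at e2
        have e3 := hL e2
        rw [← s.mk_rep, ← s'.mk_rep]
        exact (Projectivization.mk_eq_mk_iff' F _ _ _ _).2 ⟨(c s)⁻¹ * c s',
          by rw [← smul_smul, ← e3, inv_smul_smul₀ (hc s)]⟩
      · rintro ⟨p, c', d', hp⟩
        set s0 : Fin 2 → F := ![c', d']
        have hp' : p.1.rep = L s0 := hp.trans (by simp [L, s0])
        have hs0 : s0 ≠ 0 := fun e0 => p.1.rep_nonzero (by rw [hp', e0, map_zero])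
        refine ⟨Projectivization.mk F s0 hs0, Subtype.ext (Subtype.ext ?_)⟩
        set s := Projectivization.mk F s0 hs0
        show (P s).1 = p.1
        rw [← (P s).1.mk_rep, ← p.1.mk_rep]
        obtain ⟨r, hr⟩ := (Projectivization.mk_eq_mk_iff' F _ _ s.rep_nonzero hs0).1 s.mk_rep
        refine (Projectivization.mk_eq_mk_iff' F _ _ _ _).2 ⟨c s * r, ?_⟩
        rw [hP', hp', ← hr, map_smul, smul_smul]
    rw [← Nat.card_eq_of_bijective _ hbij, Projectivization.card'',
      Nat.card_eq_fintype_card (α := Fin 2 → F), Fintype.card_fun, hF, Fintype.card_fin,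
      Nat.card_eq_fintype_card (α := F), hF]
    have h4 : 4 ≤ q ^ 2 := Nat.pow_le_pow_left (two_le_q hF) 2
    refine Nat.div_eq_of_eq_mul_left (by omega) ?_
    obtain ⟨r, hr⟩ : ∃ r, q ^ 2 = r + 1 := ⟨q ^ 2 - 1, by omega⟩
    rw [hr, Nat.add_sub_cancel]
    refine Nat.sub_eq_of_eq_add ?_
    ring
  -- count incidences in two ways
  have h1 : Nat.card (Σ p : IsoPt hF (2 + 2), {W : O // T p W}) =
      Nat.card (Σ W : O, {p : IsoPt hF (2 + 2) // T p W}) :=
    Nat.card_congr
      { toFun := fun x => ⟨x.2.1, x.1, x.2.2⟩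
        invFun := fun x => ⟨x.2.1, x.1, x.2.2⟩
        left_inv := fun _ => rfl
        right_inv := fun _ => rfl }
  rw [Nat.card_sigma, Nat.card_sigma, Finset.sum_congr rfl fun p _ => hP p,
    Finset.sum_congr rfl fun W _ => hW W, Finset.sum_const, Finset.sum_const, Finset.card_univ,
    Finset.card_univ, ← Nat.card_eq_fintype_card, ← Nat.card_eq_fintype_card, smul_eq_mul,
    smul_eq_mul] at h1
  have h2 : Nat.card (IsoPt hF (2 + 2)) = (q ^ 2 + 1) * (q ^ 3 + 1) := by
    rw [card_pts_step hF 2 (by norm_num), card_pts_two hF]; ring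
  rw [h2] at h1
  refine Nat.eq_of_mul_eq_mul_right (show 0 < q ^ 2 + 1 by omega) ?_
  rw [← h1]; ring

end Cfsg.Agent.MinIndexUN
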