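import Cfsg.Agent.MinIndexUN.FourCases
import Cfsg.Agent.MinIndexUN.Lines
import Cfsg.Agent.MinIndexUN.CaseA

/-!
The minimal index in dimension four (helper10).
-/

set_option autoImplicit false

namespace Cfsg.Agent.MinIndexUN

open Matrix Cfsg.Agent.Unitary MulAction
open scoped Pointwise

variable {F : Type*} [Field F] [Fintype F] {q : ℕ} (hF : Fintype.card F = q ^ 2)
variable {e f : Fin (2 + 2) → F} (h : Std q e f)

include hF h

/-- A small orbit of points forces a stabilised point or line. -/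
theorem index_ge_of_small_orbit (hq : 2 ≤ q) (H : Subgroup (SU (2 + 2) F q))
    {s : IsoPt hF (2 + 2)} {a : F} (ha : a ≠ 0) (hs : s.1.rep = a • e)
    (hB : Nat.card (Bset hF h H) = q) (hbig : q ^ 3 ≤ Nat.card (Aset hF h H))
    (horb : Nat.card (MulAction.orbit H s) ≤ q ^ 2) :
    (q + 1) * (q ^ 3 + 1) ≤ H.index := by
  classical
  haveI := finite_pts hF (2 + 2)
  have hi : 0 < H.index := Nat.pos_of_ne_zero Subgroup.index_ne_zero_of_finite
  have h24 : q ^ 2 < q ^ 4 := Nat.pow_lt_pow_right (by omega) (by norm_num)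
  -- no point of the orbit is off the orthogonal space of `s`
  have hnon : ∀ r ∈ MulAction.orbit H s, herm q r.1.rep e = 0 := by
    intro r hr
    by_contra hne
    let φ : (H ⊓ Qs hF h : Subgroup _) → MulAction.orbit H s := fun g =>
      ⟨(⟨g.1, g.2.1⟩ : H) • r, MulAction.mem_orbit_of_mem_orbit _ hr⟩
    have hφ : Function.Injective φ := by
      intro g g' e0
      have e1 : g.1 • r = g'.1 • r := congrArg Subtype.val e0
      have e2 : (g'.1⁻¹ * g.1) • r = r := by rw [mul_smul, e1, inv_smul_smul]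
      obtain ⟨w, b, hb, hk⟩ : g'.1⁻¹ * g.1 ∈ Qs hF h := mul_mem (inv_mem g'.2.2) g.2.2
      obtain ⟨c, hc, e3⟩ := rep_smul_of_eq hF e2
      rw [hk] at e3
      have e4 := congrArg (fun x => herm q x e) e3
      rw [herm_smul_left] at e4
      have e7 := herm_smul_SU (Qg hF h w hb) r.1.rep e
      rw [Qg_e] at e7
      rw [e7] at e4
      obtain rfl : c = 1 := (mul_eq_right₀ hne).1 e4.symm
      rw [one_smul, Qg_smul hF h, add_eq_left] at e3
      have e5 := congrArg tail2 e3
      have e6 : tail2 (herm q r.1.rep e • jV 2 w - herm q r.1.rep (jV 2 w) • e +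
          (b * herm q r.1.rep e) • e) = herm q r.1.rep e • w := by
        funext k
        have he' := congrFun h.es k
        have hu := congrFun (tail2_jV (m := 2) w) k
        simp only [tail2, Fin.tail, Pi.zero_apply] at he' hu
        simp [tail2, Fin.tail, he', hu]
      rw [e6] at e5
      have hw : w = 0 := (smul_eq_zero.1 (e5.trans (by rfl))).resolve_left hne
      subst hw
      simp [hne, h.e_ne hF, herm_zero_right hF] at e3
      subst e3
      apply Subtype.ext
      rw [← inv_mul_eq_one.1 (show g'.1⁻¹ * g.1 = 1 by rw [hk]; exact Qg_one hF h)]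
    have h1 := Nat.card_le_card_of_injective φ hφ
    rw [card_inf_Qs hF h H, hB] at h1
    have h2 : q ^ 4 ≤ Nat.card (Aset hF h H) * q := by
      rw [pow_succ]; exact Nat.mul_le_mul_right _ hbig
    omega
  have horth : ∀ r ∈ MulAction.orbit H s, ∀ r' ∈ MulAction.orbit H s,
      herm q r.1.rep r'.1.rep = 0 := by
    intro r hr r' hr'
    obtain ⟨g, hg⟩ := hr'
    have h1 := hnon (g⁻¹ • r) (MulAction.mem_orbit_of_mem_orbit _ hr)
    have h2 : herm q (g⁻¹ • r).1.rep s.1.rep = 0 := by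
      rw [hs, herm_smul_right hF, h1, mul_zero]
    obtain ⟨c1, hc1, e1⟩ := rep_smul_of_eq hF
      (show (g : SU (2 + 2) F q) • (g⁻¹ • r : IsoPt hF (2 + 2)) = r from smul_inv_smul g r)
    obtain ⟨c2, hc2, e2⟩ := rep_smul_of_eq hF (show (g : SU (2 + 2) F q) • s = r' from hg)
    rw [← herm_smul_SU (g : SU (2 + 2) F q), e1, e2, herm_smul_left, herm_smul_right hF] at h2
    exact ((mul_eq_zero.1 h2).resolve_left hc1 |> mul_eq_zero.1).resolve_left (pow_ne_zero _ hc2)
  by_cases hfix : ∀ g : H, g • s = s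
  · have hle : H ≤ Est e := by
      intro g hg
      have h1 : g ∈ MulAction.stabilizer (SU (2 + 2) F q) s := hfix ⟨g, hg⟩
      rwa [stab_eq hF, hs, Est_smul ha] at h1
    refine le_trans ?_ (Nat.le_of_dvd hi (Subgroup.index_dvd_of_le hle))
    rw [← Est_smul (q := q) ha, ← hs, index_Est hF s, card_pts_step hF 2 (by norm_num),
      card_pts_two hF]
    have h35 : q * (q ^ 2 * 2) ≤ q ^ 5 := by
      calc q * (q ^ 2 * 2) ≤ q * (q ^ 2 * q ^ 2) := Nat.mul_le_mul_left _
            (Nat.mul_le_mul_left _ (le_trans hq (Nat.le_self_pow (by omega) q)))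
        _ = q ^ 5 := by ring
    have h45 : q ^ 4 * 2 ≤ q ^ 5 := by
      rw [pow_succ q 4]; exact Nat.mul_le_mul_left _ hq
    have h12 : q ≤ q ^ 2 := Nat.le_self_pow (by omega) q
    have e1 : (q + 1) * (q ^ 3 + 1) = q ^ 4 + q ^ 3 + q + 1 := by ring
    have e2 : q ^ 2 * (q + 1) + 1 + q ^ (2 * 2 + 1) = q ^ 5 + q ^ 3 + q ^ 2 + 1 := by ring
    omega
  push Not at hfix
  obtain ⟨g, hg⟩ := hfix
  set r := g • s with hr
  have hrm : r ∈ MulAction.orbit H s := MulAction.mem_orbit s g
  have hre : herm q r.1.rep e = 0 := hnon r hrm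
  have hrne : ∀ c : F, r.1.rep ≠ c • e := fun c e0 =>
    ne_smul_of_ne hF hg (c / a) (by rw [e0, hs, smul_smul, div_mul_cancel₀ _ ha])
  obtain ⟨z, hz0, hz, hpl⟩ := exists_pl_through hF h r.2 hre hrne
  -- every point of the orbit is on the line
  have hon : ∀ k ∈ MulAction.orbit H s, k.1.rep ∈ pl e r.1.rep := by
    intro k hk
    rw [hpl]
    have hd := h.decomp hF k.1.rep
    rw [hnon k hk, zero_smul, add_zero] at hd
    have h1 : herm q (tail2 k.1.rep) z = 0 := by
      have h2 := horth k hk r hrm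
      obtain ⟨c1, d1, e1⟩ : r.1.rep ∈ pl e (jV 2 z) :=
        hpl ▸ ⟨0, 1, by rw [zero_smul, zero_add, one_smul]⟩
      have hd1 : d1 ≠ 0 := fun e0 => hrne c1 (by rw [e1, e0, zero_smul, add_zero])
      rw [hd, e1] at h2
      simpa [herm_add_left, herm_add_right hF, herm_smul_left, herm_smul_right hF, h.ee,
        h.e_jV hF, h.jV_e hF, herm_jV_jV, pow_q_eq_zero_iff hF, hd1] using h2
    have h3 : herm q (tail2 k.1.rep) (tail2 k.1.rep) = 0 := by
      have h4 := k.2
      rw [hd] at h4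
      simpa [herm_add_left, herm_add_right hF, herm_smul_left, herm_smul_right hF, h.ee,
        h.e_jV hF, h.jV_e hF, herm_jV_jV] using h4
    obtain ⟨y, -, hy, hzy⟩ :=
      exists_partner hF (S := (∅ : Finset (Fin 2))) (u := z) (by simp [supp_empty]) hz hz0
    have h5 : tail2 k.1.rep = herm q (tail2 k.1.rep) y • z := by
      refine sub_eq_zero.1 (eq_zero_of_herm hF fun x => ?_)
      have hli : LinearIndependent F ![z, y] := by
        rw [LinearIndependent.pair_iff]
        intro s t hst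
        have h1' := congrArg (fun x => herm q x y) hst
        have h2' := congrArg (fun x => herm q x z) hst
        simp [herm_add_left, herm_smul_left, hz, hy, hzy, herm_one_swap hF hzy] at h1' h2'
        exact ⟨h1', h2'⟩
      have hm : x ∈ Submodule.span F (Set.range ![z, y]) :=
        hli.span_eq_top_of_card_eq_finrank (by simp) ▸ Submodule.mem_top
      rw [Submodule.mem_span_range_iff_exists_fun] at hm
      obtain ⟨c, rfl⟩ := hm
      simp [Fin.sum_univ_two, herm_add_right hF, herm_sub_left, herm_smul_left,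
        herm_smul_right hF, hz, hzy, h1]
    refine ⟨herm q k.1.rep f, herm q (tail2 k.1.rep) y, ?_⟩
    conv_lhs => rw [hd, h5, map_smul]
  have hstab : H ≤ MulAction.stabilizer (SU (2 + 2) F q) (pl e r.1.rep) := by
    intro k hk
    have key : ∀ p ∈ MulAction.orbit H s, k • p.1.rep ∈ pl e r.1.rep := by
      intro p hp
      obtain ⟨c, hc, e1⟩ := rep_smul_of_eq hF (g := k) (p := p) (p' := k • p) rfl
      obtain ⟨i, j, e2⟩ := hon (k • p)
        (MulAction.mem_orbit_of_mem_orbit (⟨k, hk⟩ : H) hp)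
      exact ⟨c * i, c * j, by rw [e1, e2, smul_add, smul_smul, smul_smul]⟩
    obtain ⟨i1, j1, e1⟩ := key s (MulAction.mem_orbit_self s)
    obtain ⟨i2, j2, e2⟩ := key r hrm
    rw [hs, smul_comm k] at e1
    have hsub : k • pl e r.1.rep ⊆ pl e r.1.rep := by
      rw [smul_pl]
      rintro _ ⟨c, d, rfl⟩
      refine ⟨c * a⁻¹ * i1 + d * i2, c * a⁻¹ * j1 + d * j2, ?_⟩
      rw [e2, ← inv_smul_smul₀ ha (k • e), e1]
      module
    exact MulAction.mem_stabilizer_iff.2
      (Set.eq_of_subset_of_ncard_le hsub (by rw [Set.ncard_smul_set]) (Set.toFinite _))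
  refine le_trans ?_ (Nat.le_of_dvd hi (Subgroup.index_dvd_of_le hstab))
  rw [hpl, MulAction.index_stabilizer, ← Nat.card_coe_set_eq, card_lines hF h hz hz0]

omit h in
/-- Every proper subgroup of `SU₄(q)`. -/
theorem su_four_index_ge (hq : 3 ≤ q) :
    ∀ H : Subgroup (SU 4 F q), H ≠ ⊤ → (q + 1) * (q ^ 3 + 1) ≤ H.index := by
  intro H0 hH0
  obtain ⟨e, f, h⟩ := exists_std hF (m := 2)
  obtain ⟨H, hidx, -, hB⟩ := exists_conj_not_full hF h (fun hh => by omega) hH0
  rw [← hidx]
  rcases four_cases hF h H hq hB with hL | ⟨hB1, hx, w, c, hw, hc, hw0, hc0, hT⟩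
  · exact hL.trans (relIndex_le_index hF H (Est e))
  by_contra hlt
  push Not at hlt
  classical
  haveI := finite_pts hF (2 + 2)
  obtain ⟨p, a, ha, hp⟩ := exists_pt hF (h.e_ne hF) h.ee
  obtain ⟨s, b, hb, hs⟩ := exists_pt hF hw0 hw
  have hN : Nat.card (IsoPt hF (2 + 2)) = (q ^ 2 + 1) * (q ^ 3 + 1) := by
    rw [card_pts_step hF 2 (by norm_num), card_pts_two hF]; ring
  set N := Nat.card (IsoPt hF (2 + 2))
  -- the orbit of `e` is large
  have hOp : q ^ 5 + q ^ 3 < Nat.card (MulAction.orbit H p) := by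
    have h1 := index_mul_card_orbit hF H p
    rw [hp, Est_smul ha] at h1
    by_contra hle
    push Not at hle
    have h2 : H.index * Nat.card (MulAction.orbit H p) <
        (q + 1) * (q ^ 3 + 1) * (q ^ 5 + q ^ 3) :=
      lt_of_le_of_lt (Nat.mul_le_mul_left _ hle)
        (Nat.mul_lt_mul_of_pos_right hlt (by positivity))
    have h3 : q ^ 3 * (q + 1) * N ≤ H.relIndex (Est e) * N := Nat.mul_le_mul_right _ hx
    rw [← h1, hN] at h3
    have h4 : (q + 1) * (q ^ 3 + 1) * (q ^ 5 + q ^ 3) =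
        q ^ 3 * (q + 1) * ((q ^ 2 + 1) * (q ^ 3 + 1)) := by ring
    omega
  -- the point with a transvection is outside it
  have hdiff : s ∉ MulAction.orbit H p := by
    rintro ⟨g, hg⟩
    obtain ⟨t, ht, e1⟩ := rep_smul_of_eq hF (show (g : SU (2 + 2) F q) • p = s from hg)
    rw [hp, hs, smul_comm (g : SU (2 + 2) F q)] at e1
    set k := t * b / a with hk
    have e2 : (g : SU (2 + 2) F q) • e = k • w := by
      rw [hk, div_eq_inv_mul, ← smul_smul, ← smul_smul, ← e1, inv_smul_smul₀ ha]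
    have hk0 : k ≠ 0 := div_ne_zero (mul_ne_zero ht hb) ha
    set c' := (k⁻¹ * k⁻¹ ^ q) * c with hc'
    have hc't : c' + c' ^ q = 0 := by
      rw [hc', mul_pow, mul_pow, pow_q_pow_q hF]; linear_combination (k⁻¹ * k⁻¹ ^ q) * hc
    have hm := mul_mem (mul_mem (inv_mem g.2) hT) g.2
    have e3 : (g : SU (2 + 2) F q)⁻¹ * tv hF hw hc * (g : SU (2 + 2) F q) = tv hF h.ee hc't := by
      refine eq_of_smul_eq_SU fun x => ?_
      rw [mul_smul, mul_smul, tv_smul, tv_smul, smul_add, inv_smul_smul,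
        smul_comm ((g : SU (2 + 2) F q)⁻¹)]
      have e4 : w = k⁻¹ • ((g : SU (2 + 2) F q) • e) := by rw [e2, inv_smul_smul₀ hk0]
      rw [e4, smul_comm ((g : SU (2 + 2) F q)⁻¹), inv_smul_smul, herm_smul_right hF,
        herm_smul_SU, smul_smul, hc']
      congr 2
      ring
    rw [e3] at hm
    have hcB : c' ∈ Bset hF h H := ⟨by simpa using hc't, by
      rw [Qg_zero_eq_tv hF h _ hc't]; exact hm⟩
    rw [AddSubgroup.card_eq_one.1 hB1, AddSubgroup.mem_bot] at hcB
    exact mul_ne_zero (mul_ne_zero (inv_ne_zero hk0) (pow_ne_zero _ (inv_ne_zero hk0))) hc0 hcB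
  have hOs : Nat.card (MulAction.orbit H s) ≤ q ^ 2 := by
    have hd : Disjoint (MulAction.orbit H p) (MulAction.orbit H s) := by
      rw [Set.disjoint_left]
      intro r hr1 hr2
      apply hdiff
      rw [← MulAction.orbit_eq_iff.2 hr1, MulAction.orbit_eq_iff.2 hr2]
      exact MulAction.mem_orbit_self s
    have h1 := Set.ncard_union_eq hd (Set.toFinite _) (Set.toFinite _)
    have h2 := Set.ncard_le_card (MulAction.orbit H p ∪ MulAction.orbit H s)
    rw [← Nat.card_coe_set_eq (MulAction.orbit H p), ← Nat.card_coe_set_eq (MulAction.orbit H s)]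
      at h1
    have e1 : (q ^ 2 + 1) * (q ^ 3 + 1) = q ^ 5 + q ^ 3 + (q ^ 2 + 1) := by ring
    omega
  have hxs : H.relIndex (Est w) ≤ q := by
    have h1 := index_mul_card_orbit hF H s
    rw [hs, Est_smul hb, show Nat.card (IsoPt hF (2 + 2)) = N from rfl, hN] at h1
    by_contra hgt
    push Not at hgt
    have h2 : (q + 1) * ((q ^ 2 + 1) * (q ^ 3 + 1)) ≤ H.index * q ^ 2 :=
      le_trans (Nat.mul_le_mul_right _ hgt) (h1 ▸ Nat.mul_le_mul_left _ hOs)
    have h3 : H.index * q ^ 2 ≤ (q + 1) * (q ^ 3 + 1) * q ^ 2 :=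
      Nat.mul_le_mul_right _ hlt.le
    have h4 : (q + 1) * ((q ^ 2 + 1) * (q ^ 3 + 1)) =
        (q + 1) * (q ^ 3 + 1) * q ^ 2 + (q + 1) * (q ^ 3 + 1) := by ring
    have : 0 < (q + 1) * (q ^ 3 + 1) := by positivity
    omega
  -- move that point to the standard position
  obtain ⟨g, -, k, hk, hg⟩ := exists_move_point hF (S := (∅ : Finset (Fin (2 + 2)))) (u := w)
    (u' := e) (by simp [supp_empty]) (by simp [supp_empty]) hw h.ee hw0 (h.e_ne hF)
  set H2 := H.map (MulAut.conj g).toMonoidHom with hH2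
  have hidx2 : H2.index = H.index := Subgroup.index_map_equiv H (MulAut.conj g)
  have hEst : (Est (q := q) w).map (MulAut.conj g).toMonoidHom = Est e := by
    ext x
    rw [Subgroup.mem_map_equiv, MulAut.conj_symm_apply]
    have hgi : g⁻¹ • e = k⁻¹ • w := by
      rw [inv_smul_eq_iff, smul_comm g, hg, inv_smul_smul₀ hk]
    constructor
    · rintro ⟨t, ht, e1⟩
      refine ⟨t, ht, ?_⟩
      rw [mul_smul, mul_smul, hg, smul_comm x, smul_comm g⁻¹] at e1
      have e5 := congrArg (fun y => g • y) e1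
      simp only [smul_comm g k, smul_inv_smul, smul_comm g t, hg] at e5
      rw [smul_comm t] at e5
      exact smul_right_injective _ hk e5
    · rintro ⟨t, ht, e1⟩
      refine ⟨t, ht, ?_⟩
      rw [mul_smul, mul_smul, hg, smul_comm x, e1, smul_comm g⁻¹, smul_comm g⁻¹, hgi,
        smul_comm t k⁻¹, smul_inv_smul₀ hk]
  have hx2 : H2.relIndex (Est e) ≤ q := by
    rw [← hEst, hH2, Subgroup.relIndex_map_map_of_injective _ _ (MulAut.conj g).injective]
    exact hxs
  obtain ⟨p', a', ha', hp'⟩ := exists_pt hF (h.e_ne hF) h.ee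
  have horb2 : Nat.card (MulAction.orbit H2 p') ≤ q ^ 2 := by
    refine le_trans ?_ hOs
    have hmove : (g : SU (2 + 2) F q) • s = p' := smul_eq_of_rep hF (a := b * k / a') (by
      rw [hs, smul_comm g, hg, hp', smul_smul, smul_smul, div_mul_cancel₀ _ ha'])
    let φ : MulAction.orbit H2 p' → MulAction.orbit H s := fun r => ⟨g⁻¹ • r.1, by
      obtain ⟨⟨x, y, hy, rfl⟩, hr⟩ := r.2
      refine ⟨⟨y, hy⟩, ?_⟩
      rw [← hr, ← hmove]
      show y • s = g⁻¹ • ((MulAut.conj g) y • (g • s))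
      rw [MulAut.conj_apply, mul_smul, mul_smul, inv_smul_smul, inv_smul_smul]⟩
    exact Nat.card_le_card_of_injective φ fun r r' e0 =>
      Subtype.ext (smul_left_cancel g⁻¹ (congrArg Subtype.val e0))
  have hrel := relIndex_Qs hF h H2
  have hQle : H2.relIndex (Qs hF h) ≤ q := (Subgroup.relIndex_le_of_le_right (Qs_le_Est hF h)
    Subgroup.index_ne_zero_of_finite).trans hx2
  have hAB : q ^ 4 ≤ Nat.card (Aset hF h H2) * Nat.card (Bset hF h H2) := by
    refine Nat.le_of_mul_le_mul_left ?_ (show 0 < q by omega)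
    calc q * q ^ 4 = q ^ (2 * 2 + 1) := by ring
      _ = _ := hrel.symm
      _ ≤ _ := Nat.mul_le_mul_right _ hQle
  have hB2 : Nat.card (Bset hF h H2) = q := by
    by_contra hB2
    have hA2 := (card_isotropic_le hF (Bset hF h H2) (fun b hb => Bset_trace hF h H2 hb) hB2
      (Aset hF h H2) fun x hx y hy => alt_mem hF h H2 hx hy).1
    have h5 : q ^ 4 ≤ q ^ 2 * q := hAB.trans (Nat.mul_le_mul hA2 (card_Bset_le hF h H2))
    rw [← pow_succ] at h5
    exact absurd h5 (not_le.2 (Nat.pow_lt_pow_right (by omega) (by norm_num)))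
  have hA3 : q ^ 3 ≤ Nat.card (Aset hF h H2) := by
    rw [hB2, pow_succ q 3] at hAB
    exact Nat.le_of_mul_le_mul_right hAB (by omega)
  have := index_ge_of_small_orbit hF h (by omega) H2 ha' hp' hB2 hA3 horb2
  omega

end Cfsg.Agent.MinIndexUN
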