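import Cfsg.Agent.MinIndexUN.FourCases
import Cfsg.Agent.Lib.Unitary.Center
import Mathlib.GroupTheory.Transfer
import Mathlib.GroupTheory.Perm.Cycle.Type

/-!
`SU₄(2)` has no proper subgroup of index less than `27` (helper10).
-/

set_option autoImplicit false

namespace Cfsg.Agent.MinIndexUN

open Matrix Cfsg.Agent.Unitary MulAction

variable {F : Type*} [Field F] [Fintype F]

theorem prime_dvd_of_perm {α : Type*} {p : ℕ} [Fact p.Prime] (π : Equiv.Perm α)
    (hπ : π ^ p = 1) {S : Set α} (hSf : S.Finite) (hS : ∀ x, x ∈ S ↔ π x ∈ S)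
    (hfix : ∀ x ∈ S, π x ≠ x) : p ∣ S.ncard := by
  classical
  haveI := hSf.fintype
  have hσ : (π.subtypePerm fun x => (hS x).symm : Equiv.Perm S) ^ p = 1 := by
    rw [Equiv.Perm.subtypePerm_pow]
    ext x
    simp [hπ]
  set σ : Equiv.Perm S := π.subtypePerm fun x => (hS x).symm
  have hpG : IsPGroup p (Subgroup.zpowers σ) := by
    intro g
    refine ⟨1, ?_⟩
    obtain ⟨g, hg⟩ := g
    obtain ⟨k, rfl⟩ := Subgroup.mem_zpowers_iff.1 hg
    refine Subtype.ext ?_
    rw [pow_one]
    show (σ ^ k) ^ p = 1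
    rw [← zpow_natCast, ← _root_.zpow_mul, mul_comm, _root_.zpow_mul, zpow_natCast, hσ, _root_.one_zpow]
  have h1 := hpG.card_modEq_card_fixedPoints S
  have h0 : Nat.card (fixedPoints (Subgroup.zpowers σ) S) = 0 := by
    haveI : IsEmpty (fixedPoints (Subgroup.zpowers σ) S) :=
      ⟨fun x => hfix x.1.1 x.1.2 (congrArg Subtype.val
        (x.2 ⟨σ, Subgroup.mem_zpowers σ⟩ : σ x.1 = x.1))⟩
    exact Nat.card_of_isEmpty
  rw [h0] at h1
  rw [← Nat.card_coe_set_eq]
  exact Nat.modEq_zero_iff_dvd.1 h1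

variable (hF : Fintype.card F = 2 ^ 2)
include hF

theorem two_eq_zero : (2 : F) = 0 := by
  have h : ((2 ^ 2 : ℕ) : F) = 0 := by rw [← hF]; exact Nat.cast_card_eq_zero F
  have h' : (2 : F) * 2 = 0 := by push_cast at h; linear_combination h
  exact (mul_eq_zero.1 h').elim id id

theorem add_self_two (x : F) : x + x = 0 := by linear_combination x * two_eq_zero hF

theorem cube_one {a : F} (ha : a ≠ 0) : a ^ 3 = 1 := by
  have h := FiniteField.pow_card_sub_one_eq_one a ha
  rwa [hF] at h

theorem norm_cases (x : Fin 4 → F) : herm 2 x x = 0 ∨ herm 2 x x = 1 := by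
  have h := herm_self_fixed hF x
  have h' : herm 2 x x * (herm 2 x x - 1) = 0 := by linear_combination h
  rcases mul_eq_zero.1 h' with e | e
  · exact Or.inl e
  · exact Or.inr (sub_eq_zero.1 e)

theorem trace_values {l : F} (hl : l ^ 3 = 1) (hl1 : l ≠ 1) : l ^ 2 + l + 1 = 0 := by
  have : (l - 1) * (l ^ 2 + l + 1) = 0 := by linear_combination hl
  exact (mul_eq_zero.1 this).resolve_left (sub_ne_zero.2 hl1)

theorem card_SU_four : Nat.card (SU 4 F 2) = 25920 := by
  have h1 := card_SU_mul hF (n := 4) (by norm_num)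
  rw [card_GU hF 4] at h1
  simp [Finset.prod_range_succ, Nat.even_iff] at h1 ⊢
  omega

theorem card_GU_three_fix : Nat.card (fixGU ({0} : Finset (Fin 4)) : Subgroup (GU 4 F 2)) = 648 := by
  rw [card_fixGU hF 3 {0} (by decide)]
  simp [Finset.prod_range_succ, Nat.even_iff]

variable {g : SU 4 F 2}

/-- An element of order five fixes no vector. -/
theorem no_fix (hg : orderOf g = 5) {v : Fin 4 → F} (hv : v ≠ 0) : g • v ≠ v := by
  intro hgv
  rcases norm_cases hF v with h0 | h1
  · obtain ⟨p, a, ha, hp⟩ := exists_pt hF hv h0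
    have hmem : g ∈ MulAction.stabilizer (SU 4 F 2) p :=
      smul_eq_of_rep hF (a := 1) (by rw [one_smul, hp, smul_comm g, hgv])
    have h2 := Subgroup.orderOf_dvd_natCard _ hmem
    haveI := isPretransitive_points hF (n := 4)
    have h3 := (MulAction.stabilizer (SU 4 F 2) p).card_mul_index
    rw [MulAction.index_stabilizer_of_transitive, card_SU_four hF] at h3
    have h45 : Nat.card (IsoPt hF 4) = 45 := by
      have := card_pts_step hF 2 (by norm_num)
      rw [card_pts_two hF] at this
      norm_num at this ⊢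
      exact this
    rw [h45] at h3
    rw [hg] at h2
    omega
  · obtain ⟨G, -, hG⟩ := exists_fixGU_smul_eq hF (S := (∅ : Finset (Fin 4))) (x := v)
      (x' := eI 0) (by simp [supp_empty]) (by simp [supp_empty])
      (by rw [h1, herm_eI_eI hF, if_pos rfl]) (by rw [h1]; exact one_ne_zero)
    have hmem : MulAut.conj G (toGU g) ∈ (fixGU ({0} : Finset (Fin 4)) : Subgroup (GU 4 F 2)) := by
      refine mem_fixGU.2 fun i hi => ?_
      rw [Finset.mem_singleton] at hi
      subst hi
      rw [MulAut.conj_apply, ← hG, mul_smul, mul_smul, inv_smul_smul, toGU_smul, hgv]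
    have h2 := Subgroup.orderOf_dvd_natCard _ hmem
    rw [MulEquiv.orderOf_eq, orderOf_injective toGU toGU_injective, hg, card_GU_three_fix hF] at h2
    omega

theorem pow_five (hg : orderOf g = 5) : g ^ 5 = 1 := hg ▸ pow_orderOf_eq_one g

theorem five_dvd (hg : orderOf g = 5) {S : Set (Fin 4 → F)} (h0 : (0 : Fin 4 → F) ∉ S)
    (hS : ∀ x ∈ S, g • x ∈ S) : 5 ∣ S.ncard := by
  haveI : Fact (Nat.Prime 5) := ⟨by norm_num⟩
  refine prime_dvd_of_perm (MulAction.toPerm g) ?_ (Set.toFinite _) (fun x => ⟨hS x, fun hx => ?_⟩)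
    fun x hx => no_fix hF hg fun e => h0 (e ▸ hx)
  · ext1 x
    rw [show (MulAction.toPerm g : Equiv.Perm (Fin 4 → F)) ^ 5 = MulAction.toPerm (g ^ 5) from
      (map_pow (MulAction.toPermHom (SU 4 F 2) (Fin 4 → F)) g 5).symm, pow_five hF hg]
    simp
  · have key : ∀ k : ℕ, g ^ k • (g • x) ∈ S := fun k => by
      induction k with
      | zero => simpa using hx
      | succ k ih => rw [pow_succ', mul_smul]; exact hS _ ih
    have h4 := key 4
    rwa [← mul_smul, ← pow_succ, pow_five hF hg, one_smul] at h4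

theorem three_dvd {S : Set (Fin 4 → F)} (h0 : (0 : Fin 4 → F) ∉ S)
    (hS : ∀ (a : F), a ≠ 0 → ∀ x ∈ S, a • x ∈ S) : 3 ∣ S.ncard := by
  haveI : Fact (Nat.Prime 3) := ⟨by norm_num⟩
  obtain ⟨l, hl0, hl1⟩ : ∃ l : F, l ≠ 0 ∧ l ≠ 1 := by
    classical
    by_contra! hall
    have h2 : Fintype.card Fˣ ≤ 1 :=
      Fintype.card_le_one_iff.2 fun u v => Units.ext ((hall _ u.ne_zero).trans (hall _ v.ne_zero).symm)
    rw [Fintype.card_units, hF] at h2
    norm_num at h2
  refine prime_dvd_of_perm (MulAction.toPerm (Units.mk0 l hl0)) ?_ (Set.toFinite _)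
    (fun x => ⟨hS l hl0 x, fun hx => ?_⟩) fun x hx e => ?_
  · rw [show (MulAction.toPerm (Units.mk0 l hl0) : Equiv.Perm (Fin 4 → F)) ^ 3 =
      MulAction.toPerm (Units.mk0 l hl0 ^ 3) from
      (map_pow (MulAction.toPermHom Fˣ (Fin 4 → F)) _ 3).symm]
    ext1 x
    show ((Units.mk0 l hl0 ^ 3 : Fˣ) : F) • x = x
    rw [Units.val_pow_eq_pow_val, Units.val_mk0, cube_one hF hl0, one_smul]
  · have := hS l⁻¹ (inv_ne_zero hl0) _ hx
    rwa [MulAction.toPerm_apply, Units.smul_def, Units.val_mk0, inv_smul_smul₀ hl0] at this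
  · have e' : (l - 1) • x = 0 := by
      rw [sub_smul, one_smul, sub_eq_zero]; exact e
    exact h0 ((smul_eq_zero.1 e').resolve_left (sub_ne_zero.2 hl1) ▸ hx)

/-- A form on the nonzero vectors of a two-dimensional invariant space is constant. -/
theorem form_const (hg : orderOf g = 5) {E : Submodule F (Fin 4 → F)}
    (hcard : Nat.card E = 16) (hgE : ∀ x ∈ E, g • x ∈ E) (P : (Fin 4 → F) → Prop)
    (hPg : ∀ x ∈ E, P x → P (g • x)) (hPs : ∀ a : F, a ≠ 0 → ∀ x ∈ E, P x → P (a • x)) :
    (∀ x ∈ E, x ≠ 0 → P x) ∨ (∀ x ∈ E, x ≠ 0 → ¬ P x) := by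
  set S : Set (Fin 4 → F) := {x | x ∈ E ∧ x ≠ 0 ∧ P x}
  have h0 : (0 : Fin 4 → F) ∉ S := fun hx => hx.2.1 rfl
  have h5 := five_dvd hF hg h0 fun x hx =>
    ⟨hgE x hx.1, (smul_ne_zero_iff_ne g).2 hx.2.1, hPg x hx.1 hx.2.2⟩
  have h3 := three_dvd hF h0 fun a ha x hx =>
    ⟨E.smul_mem a hx.1, smul_ne_zero ha hx.2.1, hPs a ha x hx.1 hx.2.2⟩
  have hsub : S ⊆ (E : Set (Fin 4 → F)) \ {0} := fun x hx => ⟨hx.1, hx.2.1⟩
  have hE : ((E : Set (Fin 4 → F)) \ {0}).ncard = 15 := by
    rw [Set.ncard_sdiff_singleton_of_mem E.zero_mem, ← Nat.card_coe_set_eq]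
    show Nat.card E - 1 = 15
    rw [hcard]
  have hle := Set.ncard_le_ncard hsub (Set.toFinite _)
  rw [hE] at hle
  have : S.ncard = 0 ∨ S.ncard = 15 := by omega
  rcases this with e | e
  · rw [Set.ncard_eq_zero (Set.toFinite _)] at e
    exact Or.inr fun x hx hx0 hP => (e ▸ (show x ∈ S from ⟨hx, hx0, hP⟩) : x ∈ (∅ : Set _)).elim
  · have heq := Set.eq_of_subset_of_ncard_le hsub (by rw [hE, e]) (Set.toFinite _)
    exact Or.inl fun x hx hx0 => (heq ▸ (⟨hx, hx0⟩ : x ∈ (E : Set _) \ {0}) : x ∈ S).2.2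

/-- An invariant subspace has dimension zero, two or four. -/
theorem card_invariant (hg : orderOf g = 5) {E : Submodule F (Fin 4 → F)} (hb : E ≠ ⊥)
    (ht : E ≠ ⊤) (hgE : ∀ x ∈ E, g • x ∈ E) : Nat.card E = 16 := by
  have h5 := five_dvd hF hg (S := (E : Set (Fin 4 → F)) \ {0}) (fun hx => hx.2 rfl)
    fun x hx => ⟨hgE x hx.1, (smul_ne_zero_iff_ne g).2 hx.2⟩
  rw [Set.ncard_sdiff_singleton_of_mem E.zero_mem, ← Nat.card_coe_set_eq] at h5
  change 5 ∣ Nat.card E - 1 at h5
  have hk : Nat.card E = (2 ^ 2) ^ Module.finrank F E := by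
    rw [Module.natCard_eq_pow_finrank (K := F), Nat.card_eq_fintype_card (α := F), hF]
  have h4 : Module.finrank F E < 4 := by
    have := Submodule.finrank_lt ht
    rwa [Module.finrank_fin_fun] at this
  have h1 : 1 ≤ Module.finrank F E := Submodule.one_le_finrank_iff.2 hb
  rw [hk] at h5 ⊢
  interval_cases Module.finrank F E <;> simp_all

/-- Three norms on a line. -/
theorem trace_sum {l : F} (hl : l ^ 3 = 1) (hl1 : l ≠ 1) (A B C D : F) :
    (A + B + C + D) + (A + l * B + l ^ 2 * C + D) + (A + l ^ 2 * B + l * C + D) = A + D := by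
  linear_combination (B + C) * trace_values hF hl hl1 + (A + D) * two_eq_zero hF

theorem exists_omega : ∃ l : F, l ^ 3 = 1 ∧ l ≠ 1 ∧ l ^ 2 = l ^ 2 := by
  by_contra! hall
  classical
  have h2 : Fintype.card Fˣ ≤ 1 := Fintype.card_le_one_iff.2 fun u v => Units.ext (by
    have key : ∀ w : Fˣ, (w : F) = 1 := fun w => by
      by_contra hw
      exact hall _ (cube_one hF w.ne_zero) hw rfl
    rw [key u, key v])
  rw [Fintype.card_units, hF] at h2
  norm_num at h2

/-- No element of order two commutes with an element of order five. -/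
theorem no_comm_two (hg : orderOf g = 5) {s : SU 4 F 2} (hs : s * s = 1) (hs1 : s ≠ 1)
    (hc : g * s = s * g) : False := by
  let D : (Fin 4 → F) →ₗ[F] (Fin 4 → F) :=
    { toFun := fun x => s • x + x
      map_add' := fun x y => by rw [smul_add]; abel
      map_smul' := fun a x => by rw [smul_comm s a, RingHom.id_apply, smul_add] }
  have hD : ∀ x, D x = s • x + x := fun _ => rfl
  have hself : ∀ x : Fin 4 → F, x + x = 0 := fun x => by funext i; exact add_self_two hF _
  have hss : ∀ x : Fin 4 → F, s • s • x = x := fun x => by rw [← mul_smul, hs, one_smul]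
  have hDD : ∀ x, D (D x) = 0 := fun x => by
    rw [hD, hD, smul_add, hss, add_comm x, hself]
  have hDg : ∀ x, D (g • x) = g • D x := fun x => by
    rw [hD, hD, smul_add, ← mul_smul, ← hc, mul_smul]
  set E := LinearMap.ker D with hE
  have hgE : ∀ x ∈ E, g • x ∈ E := fun x hx => by
    rw [LinearMap.mem_ker] at hx ⊢
    rw [hDg, hx, smul_zero]
  have hEt : E ≠ ⊤ := fun e => hs1 (eq_of_smul_eq_SU fun x => by
    have hx : x ∈ E := e ▸ Submodule.mem_top
    rw [LinearMap.mem_ker, hD] at hx
    rw [one_smul, ← add_zero (s • x), ← hself x, ← add_assoc, hx, zero_add])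
  have hEb : E ≠ ⊥ := by
    intro e
    obtain ⟨x, hx⟩ : ∃ x, D x ≠ 0 := by
      by_contra! h0
      exact hEt (eq_top_iff.2 fun x _ => LinearMap.mem_ker.2 (h0 x))
    exact hx ((Submodule.mem_bot F).1 (e ▸ LinearMap.mem_ker.2 (hDD x)))
  have hcard := card_invariant hF hg hEb hEt hgE
  -- the image of `D` is the kernel
  have hrange : LinearMap.range D = E := by
    refine Submodule.eq_of_le_of_finrank_le (fun _ ⟨x, hx⟩ => LinearMap.mem_ker.2 (hx ▸ hDD x)) ?_
    have h1 := LinearMap.finrank_range_add_finrank_ker D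
    rw [Module.finrank_fin_fun] at h1
    have h2 : Nat.card E = (2 ^ 2) ^ Module.finrank F E := by
      rw [Module.natCard_eq_pow_finrank (K := F), Nat.card_eq_fintype_card (α := F), hF]
    rw [hcard, show (16 : ℕ) = (2 ^ 2) ^ 2 by norm_num] at h2
    have h3 := Nat.pow_right_injective (by norm_num : 2 ≤ 2 ^ 2) h2
    rw [← hE] at h1
    omega
  have hEs : ∀ y ∈ E, s • y = y := fun y hy => by
    rw [LinearMap.mem_ker, hD] at hy
    rw [← add_zero (s • y), ← hself y, ← add_assoc, hy, zero_add]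
  have horth : ∀ y ∈ E, ∀ x, herm 2 y (D x) = 0 := fun y hy x => by
    rw [hD, herm_add_right hF]
    conv_lhs => arg 1; rw [← hEs y hy, herm_smul_SU]
    exact add_self_two hF _
  have hsym : ∀ x y, herm 2 (D x) y = herm 2 x (D y) := fun x y => by
    rw [hD, hD, herm_add_left, herm_add_right hF]
    congr 1
    rw [← herm_smul_SU s, hss]
  -- the form on the image
  have hwd : ∀ x x', D x = D x' → herm 2 x (D x) = herm 2 x' (D x') := fun x x' e => by
    have h1 : x - x' ∈ E := by rw [LinearMap.mem_ker, map_sub, e, sub_self]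
    rw [e, ← sub_eq_zero, ← herm_sub_left]
    exact horth _ h1 x'
  obtain ⟨l, hl, hl1, -⟩ := exists_omega hF
  have hl2 : (l ^ 2) ^ 2 = l := by linear_combination l * hl
  rcases form_const hF hg hcard hgE (fun p => ∃ x, D x = p ∧ herm 2 x (D x) = 0)
    (fun p _ ⟨x, hx, h0⟩ => ⟨g • x, by rw [hDg, hx], by rw [hDg, herm_smul_SU]; exact h0⟩)
    (fun a _ p _ ⟨x, hx, h0⟩ => ⟨a • x, by rw [map_smul, hx], by
      rw [map_smul, herm_smul_left, herm_smul_right hF, h0, mul_zero, mul_zero]⟩) with hall | hnone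
  · -- identically zero
    have hz : ∀ x, herm 2 x (D x) = 0 := fun x => by
      by_cases h0 : D x = 0
      · rw [h0, herm_zero_right hF]
      · obtain ⟨x', hx', h'⟩ := hall (D x) (hrange ▸ ⟨x, rfl⟩) h0
        rw [hwd x x' hx'.symm]
        exact h'
    have hxy : ∀ x y, herm 2 x (D y) = 0 := fun x y => by
      have e1 := hz (x + y)
      have e2 := hz (x + l • y)
      simp only [map_add, map_smul, herm_add_left, herm_add_right hF, herm_smul_left,
        herm_smul_right hF, hz x, hz y, mul_zero, add_zero, zero_add] at e1 e2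
      have hll : l ^ 2 - l ≠ 0 := fun e => hl1 (by
        have : l * (l - 1) = 0 := by linear_combination e
        exact sub_eq_zero.1 ((mul_eq_zero.1 this).resolve_left (by rintro rfl; simp at hl)))
      have : (l ^ 2 - l) * herm 2 x (D y) = 0 := by linear_combination e2 - l * e1
      exact (mul_eq_zero.1 this).resolve_left hll
    refine hEt (eq_top_iff.2 fun y _ => LinearMap.mem_ker.2 (eq_zero_of_herm hF fun x => ?_))
    exact (herm_eq_zero_comm hF).1 (hxy x y)
  · -- identically one
    have hone : ∀ x, D x ≠ 0 → herm 2 x (D x) = 1 := fun x h0 => by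
      have hfix : herm 2 x (D x) ^ 2 = herm 2 x (D x) := by rw [← herm_swap hF, hsym]
      have h' : herm 2 x (D x) * (herm 2 x (D x) - 1) = 0 := by linear_combination hfix
      rcases mul_eq_zero.1 h' with e | e
      · exact absurd ⟨x, rfl, e⟩ (hnone (D x) (hrange ▸ ⟨x, rfl⟩) h0)
      · exact sub_eq_zero.1 e
    obtain ⟨x, hx⟩ : ∃ x, D x ≠ 0 := by
      by_contra! h0
      exact hEt (eq_top_iff.2 fun x _ => LinearMap.mem_ker.2 (h0 x))
    obtain ⟨y, hy⟩ : ∃ y, ∀ c : F, D y ≠ c • D x := by
      by_contra! h0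
      have hsub : (E : Set (Fin 4 → F)) ⊆ Set.range fun c : F => c • D x := fun p hp => by
        obtain ⟨y, rfl⟩ := LinearMap.mem_range.1 (hrange.symm ▸ hp : p ∈ LinearMap.range D)
        obtain ⟨c, hc'⟩ := h0 y
        exact ⟨c, hc'.symm⟩
      have h1 := Set.ncard_le_ncard hsub (Set.finite_range _)
      rw [← Nat.card_coe_set_eq, ← Nat.card_coe_set_eq] at h1
      have h2 := h1.trans (Finite.card_range_le _)
      change Nat.card E ≤ _ at h2
      rw [hcard, Nat.card_eq_fintype_card, hF] at h2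
      norm_num at h2
    have hne : ∀ t : F, D (x + t • y) ≠ 0 := fun t e => by
      rw [map_add, map_smul] at e
      by_cases ht : t = 0
      · rw [ht, zero_smul, add_zero] at e; exact hx e
      · refine hy (-t⁻¹) ?_
        rw [eq_neg_of_add_eq_zero_left e, neg_smul, smul_neg, neg_neg, inv_smul_smul₀ ht]
    have e1 := hone _ (hne 1)
    have e2 := hone _ (hne l)
    have e3 := hone _ (hne (l ^ 2))
    have hy0 : D y ≠ 0 := fun e => hy 0 (by rw [e, zero_smul])
    simp only [map_add, map_smul, herm_add_left, herm_add_right hF, herm_smul_left,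
      herm_smul_right hF, hone x hx, hone y hy0, hl2, one_pow, one_mul, mul_one] at e1 e2 e3
    have h3 : (1 : F) + 1 + 1 = 1 + 1 := by
      linear_combination -(e1 + e2 + e3) +
        trace_sum hF hl hl1 1 (herm 2 y (D x)) (herm 2 x (D y)) 1 + 2 * hl
    exact one_ne_zero (show (1 : F) = 0 by linear_combination h3)

/-- No element of order three commutes with an element of order five. -/
theorem no_comm_three (hg : orderOf g = 5) {s : SU 4 F 2} (hs : s * (s * s) = 1) (hs1 : s ≠ 1)
    (hc : g * s = s * g) : False := by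
  obtain ⟨l, hl, hl1, -⟩ := exists_omega hF
  have hl2 : (l ^ 2) ^ 2 = l := by linear_combination l * hl
  have hl20 : l ^ 2 + l + 1 = 0 := trace_values hF hl hl1
  have hsss : ∀ x : Fin 4 → F, s • s • s • x = x := fun x => by
    rw [← mul_smul, ← mul_smul, mul_assoc, hs, one_smul]
  let P : F → (Fin 4 → F) → (Fin 4 → F) := fun ε x => x + (ε ^ 2 • (s • x) + ε • (s • s • x))
  have hP : ∀ ε : F, ε ^ 3 = 1 → ∀ x, s • P ε x = ε • P ε x := fun ε hε x => by
    simp only [P, smul_add, smul_comm s, hsss]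
    generalize s • s • x = z
    generalize s • x = y
    match_scalars <;> first | linear_combination hε | linear_combination -hε | ring
  have hsum : ∀ x, P 1 x + (P l x + P (l ^ 2) x) = x := fun x => by
    funext i
    simp only [P, Pi.add_apply, Pi.smul_apply, smul_eq_mul]
    linear_combination ((s • x) i + (s • s • x) i) * hl20 + (l * (s • x) i) * hl +
      (x i) * two_eq_zero hF
  let E : F → Submodule F (Fin 4 → F) := fun ε =>
    { carrier := {x | s • x = ε • x}
      add_mem' := fun {x y} (hx : s • x = ε • x) (hy : s • y = ε • y) =>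
        show s • (x + y) = ε • (x + y) by rw [smul_add, hx, hy, smul_add]
      zero_mem' := show s • (0 : Fin 4 → F) = ε • 0 by rw [smul_zero, smul_zero]
      smul_mem' := fun a x (hx : s • x = ε • x) =>
        show s • (a • x) = ε • (a • x) by rw [smul_comm s, hx, smul_comm] }
  have hEt : ∀ ε : F, ε ^ 3 = 1 → E ε ≠ ⊤ := fun ε _ e => by
    have hmem : s ∈ Subgroup.center (SU 4 F 2) :=
      (mem_center_iff hF (by norm_num)).2 ⟨ε, fun x => (e ▸ Submodule.mem_top : x ∈ E ε)⟩
    have h1 : Nat.card (Subgroup.center (SU 4 F 2)) = 1 := by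
      rw [card_center hF (by norm_num)]; decide
    rw [Subgroup.card_eq_one] at h1
    rw [h1, Subgroup.mem_bot] at hmem
    exact hs1 hmem
  have hgE : ∀ ε : F, ∀ x ∈ E ε, g • x ∈ E ε := fun ε x (hx : s • x = ε • x) =>
    show s • (g • x) = ε • (g • x) by rw [← mul_smul, ← hc, mul_smul, hx, smul_comm]
  obtain ⟨ε, hε, hEb⟩ : ∃ ε : F, ε ^ 3 = 1 ∧ E ε ≠ ⊥ := by
    by_contra! hall
    have hz : ∀ x : Fin 4 → F, x = 0 := fun x => by
      have h0 : ∀ ε : F, ε ^ 3 = 1 → P ε x = 0 := fun ε hε => by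
        have : P ε x ∈ E ε := hP ε hε x
        rwa [hall ε hε, Submodule.mem_bot] at this
      rw [← hsum x, h0 1 (one_pow 3), h0 l hl, h0 (l ^ 2) (by rw [← pow_mul, mul_comm, pow_mul, hl, one_pow])]
      simp
    exact hs1 (eq_of_smul_eq_SU fun x => by rw [hz x, smul_zero, smul_zero])
  have hcard := card_invariant hF hg hEb (hEt ε hε) (hgE ε)
  rcases form_const hF hg hcard (hgE ε) (fun x => herm 2 x x = 0)
    (fun x _ hx => by rw [herm_smul_SU]; exact hx)
    (fun a _ x _ hx => by rw [herm_smul_left, herm_smul_right hF, hx, mul_zero, mul_zero])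
    with hall | hnone
  · have hz : ∀ x ∈ E ε, herm 2 x x = 0 := fun x hx => by
      by_cases h0 : x = 0
      · rw [h0, herm_zero_left]
      · exact hall x hx h0
    obtain ⟨v, hv, hv0⟩ : ∃ v ∈ E ε, v ≠ 0 := Submodule.exists_mem_ne_zero_of_ne_bot hEb
    refine hv0 (eq_zero_of_herm hF fun x => ?_)
    have key : ∀ δ : F, δ ^ 3 = 1 → herm 2 v (P δ x) = 0 := by
      intro δ hδ
      set w := P δ x
      have hw : s • w = δ • w := hP δ hδ x
      by_cases hδε : δ = ε
      · subst hδε
        have hwE : w ∈ E δ := hw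
        have e1 := hz _ (add_mem hv hwE)
        have e2 := hz _ (add_mem hv ((E δ).smul_mem l hwE))
        simp only [herm_add_left, herm_add_right hF, herm_smul_left, herm_smul_right hF,
          hz v hv, hz w hwE, mul_zero, add_zero, zero_add] at e1 e2
        have hll : l ^ 2 - l ≠ 0 := fun e => hl1 (by
          have : l * (l - 1) = 0 := by linear_combination e
          exact sub_eq_zero.1 ((mul_eq_zero.1 this).resolve_left (by rintro rfl; simp at hl)))
        have : (l ^ 2 - l) * herm 2 v w = 0 := by linear_combination e2 - l * e1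
        exact (mul_eq_zero.1 this).resolve_left hll
      · have h1 := herm_smul_SU s v w
        rw [show s • v = ε • v from hv, hw, herm_smul_left, herm_smul_right hF, ← mul_assoc] at h1
        have hne : ε * δ ^ 2 - 1 ≠ 0 := fun e => hδε (by linear_combination (-δ) * e + ε * hδ)
        have : (ε * δ ^ 2 - 1) * herm 2 v w = 0 := by linear_combination h1
        exact (mul_eq_zero.1 this).resolve_left hne
    rw [← hsum x, herm_add_right hF v (P 1 x), herm_add_right hF v (P l x), key 1 (one_pow 3), key l hl,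
      key (l ^ 2) (by rw [← pow_mul, mul_comm, pow_mul, hl, one_pow])]
    simp
  · have hone : ∀ x ∈ E ε, x ≠ 0 → herm 2 x x = 1 := fun x hx h0 =>
      (norm_cases hF x).resolve_left (hnone x hx h0)
    obtain ⟨x, hx, hx0⟩ : ∃ v ∈ E ε, v ≠ 0 := Submodule.exists_mem_ne_zero_of_ne_bot hEb
    obtain ⟨y, hyE, hy⟩ : ∃ y ∈ E ε, ∀ c : F, y ≠ c • x := by
      by_contra! h0
      have hsub : (E ε : Set (Fin 4 → F)) ⊆ Set.range fun c : F => c • x := fun p hp =>
        let ⟨c, hc'⟩ := h0 p hp
        ⟨c, hc'.symm⟩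
      have h1 := Set.ncard_le_ncard hsub (Set.finite_range _)
      rw [← Nat.card_coe_set_eq, ← Nat.card_coe_set_eq] at h1
      have h2 := h1.trans (Finite.card_range_le _)
      change Nat.card (E ε) ≤ _ at h2
      rw [hcard, Nat.card_eq_fintype_card, hF] at h2
      norm_num at h2
    have hne : ∀ t : F, x + t • y ≠ 0 := fun t e => by
      by_cases ht : t = 0
      · rw [ht, zero_smul, add_zero] at e; exact hx0 e
      · refine hy (-t⁻¹) ?_
        rw [eq_neg_of_add_eq_zero_left e, neg_smul, smul_neg, neg_neg, inv_smul_smul₀ ht]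
    have e1 := hone _ (add_mem hx ((E ε).smul_mem 1 hyE)) (hne 1)
    have e2 := hone _ (add_mem hx ((E ε).smul_mem l hyE)) (hne l)
    have e3 := hone _ (add_mem hx ((E ε).smul_mem (l ^ 2) hyE)) (hne (l ^ 2))
    have hy0 : y ≠ 0 := fun e => hy 0 (by rw [e, zero_smul])
    simp only [herm_add_left, herm_add_right hF, herm_smul_left,
      herm_smul_right hF, hone x hx hx0, hone y hyE hy0, hl2, one_pow, one_mul, mul_one] at e1 e2 e3
    have h3 : (1 : F) + 1 + 1 = 1 + 1 := by
      linear_combination -(e1 + e2 + e3) +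
        trace_sum hF hl hl1 1 (herm 2 y x) (herm 2 x y) 1 + 2 * hl
    exact one_ne_zero (show (1 : F) = 0 by linear_combination h3)

theorem no_order_1080 {H : Subgroup (SU 4 F 2)} (hH : Nat.card H = 1080) : False := by
  classical
  haveI : Fact (Nat.Prime 5) := ⟨by norm_num⟩
  obtain ⟨P⟩ : Nonempty (Sylow 5 H) := inferInstance
  have hP : Nat.card (P : Subgroup H) = 5 := by
    rw [P.card_eq_multiplicity]
    have : (1080 : ℕ).factorization 5 = 1 := by
      rw [show (1080 : ℕ) = 5 * 216 by norm_num, Nat.factorization_mul (by norm_num) (by norm_num)]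
      simp [Nat.factorization_eq_zero_of_not_dvd (show ¬ 5 ∣ 216 by norm_num),
        Nat.Prime.factorization_self (show Nat.Prime 5 by norm_num)]
    rw [hH, this, pow_one]
  -- centralisers of elements of order five
  have hcomm : ∀ g : H, orderOf g = 5 → ∀ s : H, g * s = s * g → ∀ r : ℕ,
      (r = 2 ∨ r = 3) → orderOf s ≠ r := by
    intro g hg s hgs r hr hs
    have hg' : orderOf (g : SU 4 F 2) = 5 := by rw [Subgroup.orderOf_coe]; exact hg
    have hgs' : (g : SU 4 F 2) * s = s * g := congrArg Subtype.val hgs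
    have hpw : (s : SU 4 F 2) ^ r = 1 := by
      have := pow_orderOf_eq_one s
      rw [hs] at this
      exact congrArg Subtype.val this
    have hs1 : (s : SU 4 F 2) ≠ 1 := fun e => by
      have : s = 1 := Subtype.ext e
      rw [this, orderOf_one] at hs
      omega
    rcases hr with rfl | rfl
    · exact no_comm_two hF hg' (by rw [← pow_two, hpw]) hs1 hgs'
    · exact no_comm_three hF hg' (by rw [← pow_two, ← pow_succ', hpw]) hs1 hgs'
  obtain ⟨g0, hg0⟩ := exists_prime_orderOf_dvd_card' (G := (P : Subgroup H)) 5 (by rw [hP])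
  have hg0' : orderOf (g0 : H) = 5 := by rw [Subgroup.orderOf_coe]; exact hg0
  set C := Subgroup.centralizer ((P : Subgroup H) : Set H) with hC
  have hC' : ∀ r : ℕ, r.Prime → (r = 2 ∨ r = 3) → ¬ r ∣ Nat.card C := by
    intro r hr hr' hd
    haveI := Fact.mk hr
    obtain ⟨s, hs⟩ := exists_prime_orderOf_dvd_card' (G := C) r hd
    refine hcomm g0 hg0' s ?_ r hr' (by rw [Subgroup.orderOf_coe]; exact hs)
    exact (Subgroup.mem_centralizer_iff.1 s.2 g0 g0.2)
  set N := Subgroup.normalizer ((P : Subgroup H) : Set H) with hN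
  have hNC : Nat.card N ∣ Nat.card C * 4 := by
    haveI : IsCyclic (P : Subgroup H) := isCyclic_of_prime_card hP
    have h1 := ((P : Subgroup H).normalizerMonoidHom).ker.card_mul_index
    rw [Subgroup.index_ker, Subgroup.normalizerMonoidHom_ker,
      Nat.card_congr (Subgroup.subgroupOfEquivOfLe
        (Subgroup.centralizer_le_normalizer ((P : Subgroup H) : Set H))).toEquiv] at h1
    rw [← h1]
    refine Nat.mul_dvd_mul_left _ ((Subgroup.card_subgroup_dvd_card _).trans ?_)
    rw [IsCyclic.card_mulAut, hP, Nat.totient_prime (by norm_num)]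
  have hCd : Nat.card C ∣ 1080 := hH ▸ Subgroup.card_subgroup_dvd_card C
  have hC5 : Nat.card C ∣ 5 := by
    have h2 : Nat.Coprime (Nat.card C) 216 := by
      have e2 : Nat.Coprime (Nat.card C) 2 :=
        ((Nat.prime_two.coprime_iff_not_dvd).2 (hC' 2 Nat.prime_two (Or.inl rfl))).symm
      have e3 : Nat.Coprime (Nat.card C) 3 :=
        ((Nat.prime_three.coprime_iff_not_dvd).2 (hC' 3 Nat.prime_three (Or.inr rfl))).symm
      rw [show (216 : ℕ) = 2 ^ 3 * 3 ^ 3 by norm_num]
      exact (e2.pow_right 3).mul_right (e3.pow_right 3)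
    exact h2.dvd_of_dvd_mul_left (show Nat.card C ∣ 216 * 5 from hCd)
  have hNd : Nat.card N ∣ 20 := hNC.trans (Nat.mul_dvd_mul_right hC5 4)
  have hN5 : 5 ∣ Nat.card N := hP ▸ Subgroup.card_dvd_of_le
    (Subgroup.le_normalizer : (P : Subgroup H) ≤ N)
  have hmod : N.index % 5 = 1 := by
    have := card_sylow_modEq_one 5 H
    rw [P.card_eq_index_normalizer] at this
    exact this
  have hNi := N.card_mul_index
  rw [hH] at hNi
  have hNcard : Nat.card N = 5 := by
    obtain ⟨k, hk⟩ := hN5
    rw [hk] at hNd hNi ⊢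
    have hk4 : k ∣ 4 := (Nat.mul_dvd_mul_iff_left (by norm_num : 0 < 5)).1 hNd
    have hle := Nat.le_of_dvd (by norm_num) hk4
    interval_cases k <;> omega
  have hNP : N = (P : Subgroup H) :=
    (Subgroup.eq_of_le_of_card_ge Subgroup.le_normalizer (by rw [hNcard, hP])).symm
  have hle : N ≤ Subgroup.centralizer ((P : Subgroup H) : Set H) := by
    rw [hNP]
    haveI : IsCyclic (P : Subgroup H) := isCyclic_of_prime_card hP
    intro a ha b hb
    letI := IsCyclic.commGroup (α := (P : Subgroup H))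
    exact congrArg Subtype.val (mul_comm (⟨b, hb⟩ : (P : Subgroup H)) ⟨a, ha⟩)
  set K := (MonoidHom.transferSylow P hle).ker with hKdef
  have hK : Nat.card K * 5 = 1080 := by
    rw [← hH, ← hP]
    exact (MonoidHom.ker_transferSylow_isComplement' P hle).card_mul
  haveI : Fact (Nat.Prime 2) := ⟨Nat.prime_two⟩
  obtain ⟨S⟩ : Nonempty (Sylow 2 H) := inferInstance
  have hS : Nat.card (S : Subgroup H) = 8 := by
    rw [S.card_eq_multiplicity]
    have : (1080 : ℕ).factorization 2 = 3 := by
      rw [show (1080 : ℕ) = 2 ^ 3 * 135 by norm_num,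
        Nat.factorization_mul (by norm_num) (by norm_num), Nat.Prime.factorization_pow Nat.prime_two]
      simp [Nat.factorization_eq_zero_of_not_dvd (show ¬ 2 ∣ 135 by norm_num)]
    rw [hH, this]
    norm_num
  haveI : K.Normal := MonoidHom.normal_ker _
  have hKi : K.index = 5 := by
    have := K.card_mul_index
    rw [hH] at this
    exact Nat.eq_of_mul_eq_mul_left Nat.card_pos (this.trans hK.symm)
  have hSK : (S : Subgroup H) ≤ K := by
    intro x hx
    have h1 : orderOf x ∣ 8 := hS ▸ Subgroup.orderOf_dvd_natCard _ hx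
    have h2 : orderOf (x : H ⧸ K) ∣ 5 := by
      rw [← hKi, Subgroup.index]; exact orderOf_dvd_natCard _
    have h3 : orderOf (x : H ⧸ K) ∣ orderOf x := orderOf_map_dvd (QuotientGroup.mk' K) x
    have h4 := Nat.dvd_gcd (h3.trans h1) h2
    rw [show Nat.gcd 8 5 = 1 by norm_num, Nat.dvd_one, orderOf_eq_one_iff] at h4
    exact (QuotientGroup.eq_one_iff x).1 h4
  set NS := Subgroup.normalizer ((S : Subgroup H) : Set H) with hNS
  have hsup : NS ⊔ K = ⊤ := Sylow.normalizer_sup_eq_top' S hSK
  have hd : NS.index ∣ Nat.card K := by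
    have e1 := NS.card_mul_index
    have e2 : K.relIndex NS = 5 := by
      rw [← Subgroup.relIndex_sup_right, hsup, Subgroup.relIndex_top_right, hKi]
    have e3 := (K.subgroupOf NS).card_mul_index
    change Nat.card (K.subgroupOf NS) * K.relIndex NS = Nat.card NS at e3
    rw [e2] at e3
    rw [← e3, hH, ← hK] at e1
    exact ⟨Nat.card (K.subgroupOf NS), Nat.eq_of_mul_eq_mul_right (show 0 < 5 by norm_num)
      (by rw [← e1]; ring)⟩
  have h5N : 5 ∣ Nat.card NS := by
    have e1 := NS.card_mul_index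
    rw [hH] at e1
    have h216 : Nat.card K = 216 := by omega
    rw [h216] at hd
    have hnd : ¬ 5 ∣ NS.index := fun h5 => absurd (h5.trans hd) (by norm_num)
    exact (Nat.Prime.dvd_mul (by norm_num)).1 (e1.symm ▸ (by norm_num : 5 ∣ 1080)) |>.resolve_right hnd
  obtain ⟨t, ht⟩ := exists_prime_orderOf_dvd_card' (G := NS) 5 h5N
  have ht' : orderOf (t : H) = 5 := by rw [Subgroup.orderOf_coe]; exact ht
  -- conjugation on the Sylow two-subgroup
  set π : Equiv.Perm H := (MulAut.conj (t : H)).toEquiv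
  have h5 : 5 ∣ ((S : Set H) \ {1}).ncard := by
    refine prime_dvd_of_perm π ?_ (Set.toFinite _) (fun x => ?_) fun x hx hfix => ?_
    · ext1 x
      have e1 : π ^ 5 = (MulAut.conj ((t : H) ^ 5)).toEquiv := by
        rw [map_pow]
        exact (map_pow (MulAut.toPerm H) (MulAut.conj (t : H)) 5).symm
      rw [e1, ← ht', pow_orderOf_eq_one]
      simp
    · have hn := Subgroup.mem_normalizer_iff.1 t.2 x
      show x ∈ (S : Set H) \ {1} ↔ (MulAut.conj (t : H)) x ∈ (S : Set H) \ {1}
      simp only [Set.mem_sdiff, SetLike.mem_coe, Set.mem_singleton_iff, MulAut.conj_apply]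
      exact and_congr hn (not_congr (conj_eq_one_iff).symm)
    · have hx1 : x ≠ 1 := hx.2
      have hd8 : orderOf x ∣ 8 := hS ▸ Subgroup.orderOf_dvd_natCard _ hx.1
      obtain ⟨i, -, hi⟩ := (Nat.dvd_prime_pow Nat.prime_two).1 (show orderOf x ∣ 2 ^ 3 from hd8)
      have hi0 : i ≠ 0 := fun e => hx1 (orderOf_eq_one_iff.1 (by rw [hi, e, pow_zero]))
      set y := x ^ (2 ^ (i - 1)) with hy
      have hyo : orderOf y = 2 := by
        rw [hy, orderOf_pow' x (by positivity), hi,
          Nat.gcd_eq_right (pow_dvd_pow 2 (by omega)), Nat.pow_div (by omega) (by norm_num)]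
        rw [show i - (i - 1) = 1 by omega, pow_one]
      refine hcomm t ht' y ?_ 2 (Or.inl rfl) hyo
      have hfix' : (t : H) * x * (t : H)⁻¹ = x := hfix
      exact (show Commute (t : H) x from mul_inv_eq_iff_eq_mul.1 hfix').pow_right _
  have e1 : ((S : Set H) \ {1}).ncard = (S : Set H).ncard - 1 :=
    Set.ncard_sdiff_singleton_of_mem (show (1 : H) ∈ (S : Set H) from one_mem (S : Subgroup H))
  rw [e1, ← Nat.card_coe_set_eq] at h5
  change 5 ∣ Nat.card (S : Subgroup H) - 1 at h5
  rw [hS] at h5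
  norm_num at h5

/-- Every proper subgroup of `SU₄(2)` has index at least `27`. -/
theorem su_four_two_index_ge : ∀ H : Subgroup (SU 4 F 2), H ≠ ⊤ → 27 ≤ H.index := by
  intro H0 hH0
  obtain ⟨e, f, h⟩ := exists_std hF (m := 2)
  obtain ⟨H, hidx, -, hB⟩ := exists_conj_not_full hF h (fun hh => by omega) hH0
  rw [← hidx]
  have hb : Nat.card (Bset hF h H) = 1 := by
    have := card_Bset_le hF h H
    have : 0 < Nat.card (Bset hF h H) := Nat.card_pos
    omega
  have h1 := x_ge_of_B_one hF h H hb (by norm_num)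
  set a := Nat.card (Aset hF h H) with ha'
  set j := (Kbar hF h H).relIndex (Lev1 e f) with hj'
  have hcomm : ∀ x ∈ Aset hF h H, ∀ y ∈ Aset hF h H, herm 2 x y = herm 2 y x := fun x hx y hy => by
    have h2 := alt_mem hF h H hx hy
    rwa [AddSubgroup.card_eq_one.1 hb, AddSubgroup.mem_bot, sub_eq_zero] at h2
  have ha : a ≤ 4 := (card_isotropic_le hF (Bset hF h H) (fun b hb => Bset_trace hF h H hb) hB
    (Aset hF h H) fun x hx y hy => alt_mem hF h H hx hy).1
  have hx24 : 24 ≤ H.relIndex (Est e) := by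
    have hjpos : 0 < j := Nat.pos_of_ne_zero Subgroup.index_ne_zero_of_finite
    have hS : ((Aset hF h H : Set (Fin 2 → F)) \ {0}).ncard = a - 1 := by
      rw [Set.ncard_sdiff_singleton_of_mem (zero_mem _), ← Nat.card_coe_set_eq]; rfl
    by_cases hiso : ∃ u ∈ Aset hF h H, u ≠ 0 ∧ herm 2 u u = 0
    · obtain ⟨u, hu, hu0, huu⟩ := hiso
      have h2 := cover_iso_even hF h (two_eq_zero hF) (Kbar_pres hF h H) hu huu hu0
      rw [hS] at h2
      change (2 ^ 2 - 1) * (2 + 1) ≤ j * (a - 1) at h2
      change 2 ^ (2 * 2 + 1) * j ≤ _ * a at h1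
      norm_num at h1 h2
      have ha2 : 2 ≤ a := by
        by_contra hlt
        push Not at hlt
        rw [show a - 1 = 0 by omega] at h2
        omega
      have hj3 : 3 ≤ j := by
        by_contra hlt
        push Not at hlt
        have : j * (a - 1) ≤ 2 * 3 := Nat.mul_le_mul (by omega) (by omega)
        omega
      have h4 : 32 * 3 ≤ H.relIndex (Est e) * 4 :=
        le_trans (Nat.mul_le_mul_left _ hj3) (h1.trans (Nat.mul_le_mul_left _ ha))
      omega
    · push Not at hiso
      have ha2 : a ≤ 2 := by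
        by_contra hlt
        push Not at hlt
        obtain ⟨v, hv, w, hw, hvw⟩ := (Set.one_lt_ncard (Set.toFinite _)).1
          (show 1 < ((Aset hF h H : Set (Fin 2 → F)) \ {0}).ncard by omega)
        have h2 : ∀ x : Fin 2 → F, herm 2 x x ≠ 0 → herm 2 x x = 1 := fun x hx => by
          have h3 := herm_self_fixed hF x
          have h' : herm 2 x x * (herm 2 x x - 1) = 0 := by linear_combination h3
          exact sub_eq_zero.1 ((mul_eq_zero.1 h').resolve_left hx)
        refine hiso (v + w) (add_mem hv.1 hw.1) (fun e0 => hvw ?_) ?_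
        · rw [eq_neg_of_add_eq_zero_left e0]
          funext i
          exact (neg_eq_of_add_eq_zero_left (add_self_two hF _))
        · rw [herm_add_left, herm_add_right hF, herm_add_right hF, h2 v (hiso v hv.1 hv.2),
            h2 w (hiso w hw.1 hw.2), hcomm w hw.1 v hv.1]
          linear_combination (1 + herm 2 v w) * two_eq_zero hF
      by_cases ha1 : a = 1
      · rw [ha1, mul_one] at h1
        change 2 ^ (2 * 2 + 1) * j ≤ _ at h1
        norm_num at h1
        omega
      obtain ⟨v, hv⟩ : ((Aset hF h H : Set (Fin 2 → F)) \ {0}).Nonempty := by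
        refine Set.nonempty_of_ncard_ne_zero ?_
        have : 0 < a := Nat.card_pos
        omega
      have h2 := cover_norm_Lev1 hF h (Kbar_pres hF h H) hv.1 (hiso v hv.1 hv.2)
      rw [hS] at h2
      change 2 * (2 ^ 2 - 1) ≤ j * (a - 1) at h2
      change 2 ^ (2 * 2 + 1) * j ≤ _ * a at h1
      norm_num at h1 h2
      have h3 : j * (a - 1) ≤ j * 1 := Nat.mul_le_mul_left _ (by omega)
      have h4 : 32 * 6 ≤ H.relIndex (Est e) * 2 :=
        le_trans (Nat.mul_le_mul_left _ (by omega)) (h1.trans (Nat.mul_le_mul_left _ ha2))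
      omega
  have hle := hx24.trans (relIndex_le_index hF H (Est e))
  by_contra hlt
  push Not at hlt
  have hc := H.card_mul_index
  rw [show Nat.card (SU (2 + 2) F 2) = 25920 from card_SU_four hF] at hc
  have h24 : H.index = 24 := by
    revert hc hle hlt
    generalize H.index = i
    generalize Nat.card H = c
    intro hle hlt hc
    interval_cases i <;> omega
  rw [h24] at hc
  exact no_order_1080 hF (H := H) (Nat.eq_of_mul_eq_mul_right (show 0 < 24 by norm_num) (hc.trans (by norm_num)))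

end Cfsg.Agent.MinIndexUN
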