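import Cfsg.Agent.MinIndexUN.Step

/-!
The minimal index in dimension at least five (helper10).
-/

set_option autoImplicit false

namespace Cfsg.Agent.MinIndexUN

open Cfsg.Agent.Unitary MulAction

variable {F : Type*} [Field F] [Fintype F] {q : ℕ} (hF : Fintype.card F = q ^ 2)

include hF

theorem card_pts_four : Nat.card (IsoPt hF 4) = (q ^ 2 + 1) * (q ^ 3 + 1) := by
  have h1 := card_pts_mul hF 2
  have h2 : nvec 2 F q 0 = (q ^ 2 - 1) * (q + 1) + 1 := by
    rw [nvec_zero_formula hF 2, if_pos (by decide)]; norm_num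
  have hq := two_le_q hF
  have h4 : 4 ≤ q ^ 2 := Nat.pow_le_pow_left hq 2
  have h3 : Nat.card (IsoPt hF 2) = q + 1 :=
    Nat.eq_of_mul_eq_mul_right (show 0 < q ^ 2 - 1 by omega) (by rw [mul_comm (q + 1)]; omega)
  rw [card_pts_step hF 2 (by norm_num), h3]
  ring

/-- The points are a minimal permutation representation. -/
theorem su_index_ge (hq : 3 ≤ q) {n : ℕ} (hn : 5 ≤ n)
    (h4 : Even n → ∀ K : Subgroup (SU 4 F q), K ≠ ⊤ → (q + 1) * (q ^ 3 + 1) ≤ K.index) :
    ∀ H : Subgroup (SU n F q), H ≠ ⊤ → Nat.card (IsoPt hF n) ≤ H.index := by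
  induction n using Nat.strong_induction_on with
  | _ n ih =>
    intro H hH
    obtain ⟨m, rfl⟩ : ∃ m, n = m + 2 := ⟨n - 2, by omega⟩
    obtain ⟨e, f, hef⟩ := exists_std hF (m := m)
    obtain ⟨H', hidx, hne, hB⟩ := exists_conj_not_full hF hef (fun hh => by omega) hH
    rw [← hidx]
    by_cases hK : Kj hF hef H' = ⊤
    · exact step_top hF hef (by omega) hq H' hne hB hK
    by_cases hm3 : m = 3
    · subst hm3
      exact step_five hF hef hq H' hB hK
    have hqp : 1 ≤ q := by omega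
    by_cases hm4 : m = 4
    · subst hm4
      refine step_big hF hef (by norm_num) H' hB (h4 (by decide) _ hK) ?_
      rw [card_pts_step hF 4 (by norm_num), card_pts_four hF]
      have h1 : q ^ 7 + q ^ 4 + q ^ 2 + 1 ≤ q ^ 8 + q ^ 6 := by
        have : q ^ 2 * 2 ≤ q ^ 4 := by nlinarith [Nat.pow_le_pow_left hq 2]
        have h78 : q ^ 7 * 2 ≤ q ^ 8 := by
          rw [pow_succ q 7]; exact Nat.mul_le_mul_left _ (by omega)
        have h47 : q ^ 4 * 2 ≤ q ^ 7 := by
          rw [show q ^ 7 = q ^ 4 * q ^ 3 by ring]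
          exact Nat.mul_le_mul_left _ (le_trans (by omega) (Nat.le_self_pow (by omega) q))
        have : 0 < q ^ 2 := pow_pos (by omega) 2
        omega
      show q ^ 2 * ((q ^ 2 + 1) * (q ^ 3 + 1)) + 1 + q ^ 9 ≤ q ^ 5 * ((q + 1) * (q ^ 3 + 1))
      linarith
    · have ihm := ih m (by omega) (by omega) (fun hev => h4 (by rwa [Nat.even_add, iff_true_right (by decide : Even 2)]))
        _ hK
      refine step_big hF hef (by omega) H' hB ihm ?_
      rw [card_pts_step hF m (by omega)]
      have hlow := pts_lower hF (n := m) (by omega)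
      set N := Nat.card (IsoPt hF m)
      have hN1 : 1 ≤ N := le_trans (Nat.one_le_pow _ _ (by omega)) hlow
      have h1 : q ^ 2 * 2 ≤ q ^ (m + 1) := by
        calc q ^ 2 * 2 ≤ q ^ 2 * q := Nat.mul_le_mul_left _ (by omega)
          _ = q ^ 3 := by ring
          _ ≤ q ^ (m + 1) := Nat.pow_le_pow_right hqp (by omega)
      have h3 : (q ^ (2 * m + 1) + 1) * 2 ≤ q ^ (m + 1) * N := by
        calc (q ^ (2 * m + 1) + 1) * 2 ≤ q ^ (2 * m + 1) * 4 := by
              have : 1 ≤ q ^ (2 * m + 1) := Nat.one_le_pow _ _ (by omega)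
              omega
          _ ≤ q ^ (2 * m + 1) * q ^ (m - 3) := by
              refine Nat.mul_le_mul_left _ ?_
              calc 4 ≤ q ^ 2 := le_trans (by norm_num) (Nat.pow_le_pow_left hq 2)
                _ ≤ q ^ (m - 3) := Nat.pow_le_pow_right hqp (by omega)
          _ = q ^ (m + 1) * q ^ (2 * m - 3) := by
              rw [← pow_add, ← pow_add]; congr 1; omega
          _ ≤ _ := Nat.mul_le_mul_left _ hlow
      have h4' : q ^ 2 * N * 2 ≤ q ^ (m + 1) * N := by
        rw [mul_right_comm]; exact Nat.mul_le_mul_right _ h1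
      omega

/-- From `SU` to `PSU`. -/
theorem psu_bound {n c : ℕ} (hb : ∀ H : Subgroup (SU n F q), H ≠ ⊤ → c ≤ H.index)
    (H : Subgroup (Cfsg.PSU n F q)) (hH : H ≠ ⊤) : c ≤ H.index := by
  let π := QuotientGroup.mk' (Subgroup.center (SU n F q))
  have hπ : Function.Surjective π := QuotientGroup.mk'_surjective _
  rw [← Subgroup.index_comap_of_surjective H hπ]
  refine hb _ fun e => hH ?_
  rw [← Subgroup.map_comap_eq_self_of_surjective hπ H, e, Subgroup.map_top_of_surjective π hπ]

/-- The stabiliser of a point. -/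
theorem psu_exists_points {n : ℕ} (hn : 2 ≤ n) :
    ∃ H : Subgroup (Cfsg.PSU n F q), H.index = Nat.card (IsoPt hF n) := by
  let π := QuotientGroup.mk' (Subgroup.center (SU n F q))
  have hπ : Function.Surjective π := QuotientGroup.mk'_surjective _
  have hker : π.ker = Subgroup.center (SU n F q) := QuotientGroup.ker_mk' _
  obtain ⟨w, hw0, hw⟩ := exists_iso_vec hF hn
  obtain ⟨p, -, -, -⟩ := exists_pt hF hw0 hw
  refine ⟨(MulAction.stabilizer (SU n F q) p).map π, ?_⟩
  rw [Subgroup.index_map_eq _ hπ]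
  · haveI := isPretransitive_points hF (n := n)
    rw [MulAction.index_stabilizer_of_transitive]
  · rw [hker]
    intro g hg
    obtain ⟨r, hr⟩ := (mem_center_iff hF hn).1 hg
    exact MulAction.mem_stabilizer_iff.2 (smul_eq_of_rep hF (hr p.1.rep))

theorem card_pts_odd {n : ℕ} (hn : Odd n) :
    Nat.card (IsoPt hF n) = (q ^ n + 1) * (q ^ (n - 1) - 1) / (q ^ 2 - 1) := by
  have h1 := card_pts_formula hF n
  rw [if_neg (Nat.not_even_iff_odd.2 hn)] at h1
  have : 4 ≤ q ^ 2 := Nat.pow_le_pow_left (two_le_q hF) 2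
  rw [← h1, Nat.mul_div_cancel _ (by omega)]

theorem card_pts_even {n : ℕ} (hn : Even n) :
    Nat.card (IsoPt hF n) = (q ^ n - 1) * (q ^ (n - 1) + 1) / (q ^ 2 - 1) := by
  have h1 := card_pts_formula hF n
  rw [if_pos hn] at h1
  have : 4 ≤ q ^ 2 := Nat.pow_le_pow_left (two_le_q hF) 2
  rw [← h1, Nat.mul_div_cancel _ (by omega)]

end Cfsg.Agent.MinIndexUN
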