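import Cfsg.Agent.MinIndexUN.Setup
import Mathlib.GroupTheory.Index

/-!
The radical of an isotropic point, its traces in a subgroup, and the coset count (helper10).
-/

set_option autoImplicit false

namespace Cfsg.Agent.MinIndexUN

open Matrix Cfsg.Agent.Unitary

variable {F : Type*} [Field F] [Fintype F] {q m : ℕ} (hF : Fintype.card F = q ^ 2)
variable {e f : Fin (m + 2) → F} (h : Std q e f)
variable (H : Subgroup (SU (m + 2) F q))

/-- The element with parameters `w`, `b` of the radical at `e`. -/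
def Qg (w : Fin m → F) {b : F} (hb : b + b ^ q = -herm q w w) : SU (m + 2) F q :=
  Qel hF (w := jV m w) (b := b) h.ee (h.jV_e hF w) (by rw [herm_jV_jV]; exact hb)

include hF h

theorem Qg_smul (w : Fin m → F) {b : F} (hb : b + b ^ q = -herm q w w) (x : Fin (m + 2) → F) :
    Qg hF h w hb • x =
      x + (herm q x e • jV m w - herm q x (jV m w) • e + (b * herm q x e) • e) :=
  Qel_smul hF _ _ _ x

theorem Qg_e (w : Fin m → F) {b : F} (hb : b + b ^ q = -herm q w w) : Qg hF h w hb • e = e := by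
  rw [Qg_smul, h.ee, h.e_jV hF]; simp

theorem Qg_f (w : Fin m → F) {b : F} (hb : b + b ^ q = -herm q w w) :
    Qg hF h w hb • f = b • e + f + jV m w := by
  rw [Qg_smul, h.fe hF, h.f_jV hF]; module

theorem Qg_jV (w : Fin m → F) {b : F} (hb : b + b ^ q = -herm q w w) (v : Fin m → F) :
    Qg hF h w hb • jV m v = jV m v - herm q v w • e := by
  rw [Qg_smul, h.jV_e hF, herm_jV_jV]; module

theorem Qg_param {w w' : Fin m → F} {b b' : F} (hb : b + b ^ q = -herm q w w)
    (hb' : b' + b' ^ q = -herm q w' w') (he : Qg hF h w hb = Qg hF h w' hb') : w = w' ∧ b = b' := by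
  have h1 := congrArg (fun g : SU (m + 2) F q => g • f) he
  simp only [Qg_f] at h1
  refine ⟨?_, ?_⟩
  · have := congrArg tail2 h1
    have key : ∀ (c : F) (u : Fin m → F), tail2 (c • e + f + jV m u) = u := fun c u => by
      funext k
      have he' := congrFun h.es k
      have hf' := congrFun h.fs k
      have hu := congrFun (tail2_jV u) k
      simp only [tail2, Fin.tail, Pi.zero_apply] at he' hf' hu
      simp [tail2, Fin.tail, he', hf', hu]
    rwa [key, key] at this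
  · have := congrArg (fun x => herm q x f) h1
    simpa [herm_add_left, herm_smul_left, h.ef, h.ff, h.jV_f hF] using this

theorem Qg_congr {w w' : Fin m → F} {b b' : F} (hb : b + b ^ q = -herm q w w)
    (hb' : b' + b' ^ q = -herm q w' w') (hw : w = w') (hbb : b = b') :
    Qg hF h w hb = Qg hF h w' hb' := by
  subst hw hbb; rfl

omit h in
theorem cond_add {w w' : Fin m → F} {b b' : F} (hb : b + b ^ q = -herm q w w)
    (hb' : b' + b' ^ q = -herm q w' w') :
    (b + b' - herm q w' w) + (b + b' - herm q w' w) ^ q = -herm q (w + w') (w + w') :=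
  Qel_add_cond hF hb hb'

theorem Qg_mul {w w' : Fin m → F} {b b' : F} (hb : b + b ^ q = -herm q w w)
    (hb' : b' + b' ^ q = -herm q w' w') :
    Qg hF h w hb * Qg hF h w' hb' = Qg hF h (w + w') (cond_add hF hb hb') := by
  refine h.ext hF ?_ ?_ ?_
  · rw [mul_smul, Qg_e, Qg_e, Qg_e]
  · rw [mul_smul, Qg_f, smul_add, smul_add, smul_comm _ b', Qg_e, Qg_f, Qg_jV, Qg_f, map_add]
    module
  · intro v
    rw [mul_smul, Qg_jV, smul_sub, Qg_jV, smul_comm _ (herm q v w'), Qg_e, Qg_jV,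
      herm_add_right hF]
    module

theorem Qg_one : Qg hF h (0 : Fin m → F) (b := 0)
    (by simp [zero_pow_q hF]) = (1 : SU (m + 2) F q) := by
  refine h.ext hF ?_ ?_ ?_
  · rw [Qg_e, one_smul]
  · rw [Qg_f, one_smul]; simp
  · intro v; rw [Qg_jV, one_smul]; simp [herm_zero_right hF]

omit h in
theorem cond_inv {w : Fin m → F} {b : F} (hb : b + b ^ q = -herm q w w) :
    (-b - herm q w w) + (-b - herm q w w) ^ q = -herm q (-w) (-w) := by
  rw [sub_pow_q hF, neg_pow_q hF, herm_self_fixed hF, herm_neg_left, herm_neg_right hF, neg_neg]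
  linear_combination -hb

theorem Qg_inv {w : Fin m → F} {b : F} (hb : b + b ^ q = -herm q w w) :
    (Qg hF h w hb)⁻¹ = Qg hF h (-w) (cond_inv hF hb) := by
  refine inv_eq_of_mul_eq_one_right ?_
  rw [Qg_mul, ← Qg_one hF h]
  refine Qg_congr hF h _ _ (add_neg_cancel w) ?_
  rw [herm_neg_left]; ring

/-- The radical at `e`. -/
def Qs (hF : Fintype.card F = q ^ 2) (h : Std q e f) : Subgroup (SU (m + 2) F q) where
  carrier := {g | ∃ (w : Fin m → F) (b : F) (hb : b + b ^ q = -herm q w w), g = Qg hF h w hb}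
  one_mem' := ⟨0, 0, _, (Qg_one hF h).symm⟩
  mul_mem' := by
    rintro _ _ ⟨w, b, hb, rfl⟩ ⟨w', b', hb', rfl⟩
    exact ⟨_, _, _, Qg_mul hF h hb hb'⟩
  inv_mem' := by
    rintro _ ⟨w, b, hb, rfl⟩
    exact ⟨_, _, _, Qg_inv hF h hb⟩

/-- The translation parts of `H ∩ Qs`. -/
def Aset (hF : Fintype.card F = q ^ 2) (h : Std q e f) (H : Subgroup (SU (m + 2) F q)) :
    AddSubgroup (Fin m → F) where
  carrier := {w | ∃ (b : F) (hb : b + b ^ q = -herm q w w), Qg hF h w hb ∈ H}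
  zero_mem' := ⟨0, by simp [zero_pow_q hF], by rw [Qg_one]; exact one_mem H⟩
  add_mem' := by
    rintro _ _ ⟨b, hb, hH⟩ ⟨b', hb', hH'⟩
    exact ⟨_, cond_add hF hb hb', by rw [← Qg_mul hF h hb hb']; exact mul_mem hH hH'⟩
  neg_mem' := by
    rintro _ ⟨b, hb, hH⟩
    exact ⟨_, cond_inv hF hb, by rw [← Qg_inv hF h hb]; exact inv_mem hH⟩

/-- The transvection parts of `H ∩ Qs`. -/
def Bset (hF : Fintype.card F = q ^ 2) (h : Std q e f) (H : Subgroup (SU (m + 2) F q)) :
    AddSubgroup F where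
  carrier := {b | ∃ hb : b + b ^ q = -herm q (0 : Fin m → F) 0, Qg hF h 0 hb ∈ H}
  zero_mem' := ⟨by simp [zero_pow_q hF], by rw [Qg_one]; exact one_mem H⟩
  add_mem' := by
    rintro b b' ⟨hb, hH⟩ ⟨hb', hH'⟩
    refine ⟨by rw [add_pow_q hF]; simp at hb hb' ⊢; linear_combination hb + hb', ?_⟩
    have := mul_mem hH hH'
    rw [Qg_mul] at this
    convert this using 1
    exact Qg_congr hF h _ _ (add_zero 0).symm (by rw [herm_zero_left, sub_zero])
  neg_mem' := by
    rintro b ⟨hb, hH⟩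
    refine ⟨by rw [neg_pow_q hF]; simp at hb ⊢; linear_combination -hb, ?_⟩
    have := inv_mem hH
    rw [Qg_inv] at this
    convert this using 1
    exact Qg_congr hF h _ _ neg_zero.symm (by rw [herm_zero_left, sub_zero])

theorem Bset_trace {b : F} (hb : b ∈ Bset hF h H) : b + b ^ q = 0 := by
  obtain ⟨hb, -⟩ := hb
  simpa using hb

/-- Commutators. -/
theorem alt_mem {w w' : Fin m → F} (hw : w ∈ Aset hF h H) (hw' : w' ∈ Aset hF h H) :
    herm q w w' - herm q w' w ∈ Bset hF h H := by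
  obtain ⟨b, hb, hH⟩ := hw
  obtain ⟨b', hb', hH'⟩ := hw'
  have hc : (herm q w w' - herm q w' w) + (herm q w w' - herm q w' w) ^ q =
      -herm q (0 : Fin m → F) 0 := by
    rw [sub_pow_q hF, ← herm_swap hF w w', ← herm_swap hF w' w]; simp
  refine ⟨hc, ?_⟩
  have key : Qg hF h w hb * Qg hF h w' hb' =
      Qg hF h 0 hc * (Qg hF h w' hb' * Qg hF h w hb) := by
    rw [Qg_mul, Qg_mul, Qg_mul]
    refine Qg_congr hF h _ _ (by abel) ?_
    rw [herm_zero_right hF]; ring
  have := mul_mem (mul_mem hH hH') (inv_mem (mul_mem hH' hH))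
  rwa [key, mul_inv_cancel_right] at this

theorem card_Qs : Nat.card (Qs hF h) = q ^ (2 * m + 1) := by
  classical
  have e1 : Nat.card (Σ w : Fin m → F, {b : F // b + b ^ q = -herm q w w}) = Nat.card (Qs hF h) := by
    refine Nat.card_eq_of_bijective (fun p => ⟨Qg hF h p.1 p.2.2, _, _, p.2.2, rfl⟩) ⟨?_, ?_⟩
    · rintro ⟨w, b, hb⟩ ⟨w', b', hb'⟩ he
      obtain ⟨rfl, rfl⟩ := Qg_param hF h hb hb' (congrArg Subtype.val he)
      rfl
    · rintro ⟨g, w, b, hb, rfl⟩
      exact ⟨⟨w, b, hb⟩, rfl⟩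
  have e2 : ∀ w : Fin m → F, Nat.card {b : F // b + b ^ q = -herm q w w} = q := fun w => by
    obtain ⟨b₀, hb₀⟩ := exists_trace_eq hF (t := -herm q w w)
      (by rw [neg_pow_q hF, herm_self_fixed hF])
    conv_rhs => rw [← card_trace_ker hF]
    exact Nat.card_congr ((Equiv.subRight b₀).subtypeEquiv fun b => by
      show _ ↔ (b - b₀) + (b - b₀) ^ q = 0
      rw [sub_pow_q hF, ← hb₀]
      constructor <;> intro hh <;> linear_combination hh)
  rw [← e1, Nat.card_sigma, Finset.sum_congr rfl fun w _ => e2 w, Finset.sum_const,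
    Finset.card_univ, Fintype.card_fun, hF, Fintype.card_fin, smul_eq_mul, ← pow_mul, pow_succ]

theorem card_inf_Qs :
    Nat.card (H ⊓ Qs hF h : Subgroup _) = Nat.card (Aset hF h H) * Nat.card (Bset hF h H) := by
  classical
  have hB : ∀ a : Aset hF h H, ∃ (b : F) (hb : b + b ^ q = -herm q a.1 a.1),
      Qg hF h a.1 hb ∈ H := fun a => a.2
  choose b0 hb0 hH0 using hB
  have hzero : ∀ b : Bset hF h H, b.1 + b.1 ^ q = -herm q (0 : Fin m → F) 0 := fun b => b.2.1
  rw [← Nat.card_prod]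
  refine (Nat.card_eq_of_bijective (fun p : Aset hF h H × Bset hF h H =>
    (⟨Qg hF h 0 (hzero p.2) * Qg hF h p.1.1 (hb0 p.1),
      mul_mem p.2.2.2 (hH0 p.1),
      mul_mem ⟨_, _, _, rfl⟩ ⟨_, _, _, rfl⟩⟩ : (H ⊓ Qs hF h : Subgroup _))) ⟨?_, ?_⟩).symm
  · rintro ⟨a, b⟩ ⟨a', b'⟩ he
    have he' := congrArg Subtype.val he
    simp only [Qg_mul] at he'
    obtain ⟨h1, h2⟩ := Qg_param hF h _ _ he'
    simp only [zero_add] at h1
    obtain rfl : a = a' := Subtype.ext h1
    simp only [herm_zero_right hF, sub_zero, add_left_inj] at h2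
    rw [Subtype.ext h2]
  · rintro ⟨g, hgH, w, b, hb, rfl⟩
    have hw : w ∈ Aset hF h H := ⟨b, hb, hgH⟩
    set a : Aset hF h H := ⟨w, hw⟩
    have hd : (b - b0 a) + (b - b0 a) ^ q = -herm q (0 : Fin m → F) 0 := by
      rw [sub_pow_q hF, herm_zero_left, neg_zero]; linear_combination hb - hb0 a
    have hdec : Qg hF h w hb = Qg hF h 0 hd * Qg hF h w (hb0 a) := by
      rw [Qg_mul]
      exact Qg_congr hF h _ _ (zero_add w).symm (by rw [herm_zero_right hF]; ring)
    have hdB : b - b0 a ∈ Bset hF h H := by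
      refine ⟨hd, ?_⟩
      have hgH' : Qg hF h w hb ∈ H := hgH
      have := mul_mem hgH' (inv_mem (hH0 a))
      rwa [hdec, mul_inv_cancel_right] at this
    exact ⟨(a, ⟨_, hdB⟩), Subtype.ext hdec.symm⟩

theorem relIndex_Qs :
    H.relIndex (Qs hF h) * (Nat.card (Aset hF h H) * Nat.card (Bset hF h H)) =
      q ^ (2 * m + 1) := by
  rw [← card_inf_Qs hF h H, ← card_Qs hF h, ← Subgroup.card_mul_index (H.subgroupOf (Qs hF h)),
    mul_comm]
  congr 1
  rw [← Subgroup.inf_subgroupOf_right,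
    Nat.card_congr (Subgroup.subgroupOfEquivOfLe inf_le_right).toEquiv]

/-- The stabiliser of the point of `e`. -/
def Est (e : Fin (m + 2) → F) : Subgroup (SU (m + 2) F q) where
  carrier := {g | ∃ a : F, a ≠ 0 ∧ g • e = a • e}
  one_mem' := ⟨1, one_ne_zero, by rw [one_smul, one_smul]⟩
  mul_mem' := by
    rintro g g' ⟨a, ha, e1⟩ ⟨a', ha', e2⟩
    exact ⟨a' * a, mul_ne_zero ha' ha, by rw [mul_smul, e2, smul_comm g, e1, smul_smul]⟩
  inv_mem' := by
    rintro g ⟨a, ha, e1⟩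
    exact ⟨a⁻¹, inv_ne_zero ha, by rw [inv_smul_eq_iff, smul_comm g, e1, inv_smul_smul₀ ha]⟩

/-- The stabiliser of the points of `e` and `f`. -/
def Lev (e f : Fin (m + 2) → F) : Subgroup (SU (m + 2) F q) := Est e ⊓ Est f

theorem Qs_le_Est : Qs hF h ≤ Est e := by
  rintro _ ⟨w, b, hb, rfl⟩
  exact ⟨1, one_ne_zero, by rw [one_smul]; exact Qg_e hF h w hb⟩

omit hF h in
/-- The action on the orthogonal space. -/
def lact (g : SU (m + 2) F q) (v : Fin m → F) : Fin m → F := tail2 (g • jV m v)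

theorem Lev_data {g : SU (m + 2) F q} (hg : g ∈ Lev e f) :
    ∃ a : F, a ≠ 0 ∧ g • e = a • e ∧ g • f = (a ^ q)⁻¹ • f ∧
      ∀ v, g • jV m v = jV m (lact g v) := by
  obtain ⟨⟨a, ha, hge⟩, ⟨a', ha', hgf⟩⟩ := hg
  have hp := herm_smul_SU g f e
  rw [hge, hgf, herm_smul_left, herm_smul_right hF, h.fe hF, mul_one] at hp
  have hgf' : g • f = (a ^ q)⁻¹ • f := by
    rw [hgf, eq_inv_of_mul_eq_one_left hp]
  refine ⟨a, ha, hge, hgf', fun v => ?_⟩
  have h1 := herm_smul_SU g (jV m v) e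
  rw [hge, herm_smul_right hF, h.jV_e hF] at h1
  have h2 := herm_smul_SU g (jV m v) f
  rw [hgf', herm_smul_right hF, h.jV_f hF] at h2
  have hd := h.decomp hF (g • jV m v)
  rw [(mul_eq_zero.1 h1).resolve_left (pow_ne_zero _ ha),
    (mul_eq_zero.1 h2).resolve_left (pow_ne_zero _ (inv_ne_zero (pow_ne_zero _ ha)))] at hd
  simpa [lact] using hd

theorem lact_herm {g : SU (m + 2) F q} (hg : g ∈ Lev e f) (v v' : Fin m → F) :
    herm q (lact g v) (lact g v') = herm q v v' := by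
  obtain ⟨a, -, -, -, hj⟩ := Lev_data hF h hg
  rw [← herm_jV_jV (lact g v), ← hj, ← hj, herm_smul_SU, herm_jV_jV]

theorem lact_smul {g : SU (m + 2) F q} (c : F) (v : Fin m → F) :
    lact g (c • v) = c • lact g v := by
  simp only [lact, map_smul, smul_comm g c]
  rfl

theorem lact_mul {g g' : SU (m + 2) F q} (hg' : g' ∈ Lev e f) (v : Fin m → F) :
    lact (g * g') v = lact g (lact g' v) := by
  obtain ⟨a, -, -, -, hj⟩ := Lev_data hF h hg'
  rw [lact, mul_smul, hj]
  rfl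

theorem jG_mem_Lev (g : SU m F q) : jG m g ∈ Lev (q := q) e f :=
  ⟨⟨1, one_ne_zero, by rw [one_smul]; exact h.jG_e g⟩,
    ⟨1, one_ne_zero, by rw [one_smul]; exact h.jG_f g⟩⟩

theorem lact_jG (g : SU m F q) (v : Fin m → F) : lact (jG m g) v = g • v := by
  rw [lact, jG_smul_jV, tail2_jV]

theorem cond_conj {g : SU (m + 2) F q} (hg : g ∈ Lev e f) (a : F) {w : Fin m → F} {b : F}
    (hb : b + b ^ q = -herm q w w) :
    a ^ (q + 1) * b + (a ^ (q + 1) * b) ^ q =
      -herm q (a ^ q • lact g w) (a ^ q • lact g w) := by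
  rw [mul_pow, norm_fixed hF, herm_smul_left, herm_smul_right hF, pow_q_pow_q hF, lact_herm hF h hg,
    pow_succ]
  linear_combination (a ^ q * a) * hb

theorem Lev_conj {g : SU (m + 2) F q} (hg : g ∈ Lev e f) {a : F} (hge : g • e = a • e)
    {w : Fin m → F} {b : F} (hb : b + b ^ q = -herm q w w) :
    g * Qg hF h w hb * g⁻¹ = Qg hF h (a ^ q • lact g w) (cond_conj hF h hg a hb) := by
  obtain ⟨a', ha', he', hf', hj⟩ := Lev_data hF h hg
  obtain rfl : a' = a := smul_left_injective F (h.e_ne hF) (he'.symm.trans hge)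
  have haq : a' ^ q ≠ 0 := pow_ne_zero _ ha'
  rw [mul_inv_eq_iff_eq_mul]
  refine h.ext hF ?_ ?_ ?_
  · rw [mul_smul, mul_smul, Qg_e, hge, smul_comm _ a', Qg_e]
  · rw [mul_smul, mul_smul, Qg_f, hf', smul_add, smul_add, smul_comm g b, hge, hf', hj,
      smul_comm _ (a' ^ q)⁻¹, Qg_f, map_smul, pow_succ]
    match_scalars <;> field_simp
  · intro v
    rw [mul_smul, mul_smul, Qg_jV, hj, Qg_jV, smul_sub, hj, smul_comm g, hge, herm_smul_right hF,
      pow_q_pow_q hF, lact_herm hF h hg]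
    module

theorem Lev_normalises {g x : SU (m + 2) F q} (hg : g ∈ Lev e f) (hx : x ∈ Qs hF h) :
    g * x * g⁻¹ ∈ Qs hF h := by
  obtain ⟨w, b, hb, rfl⟩ := hx
  obtain ⟨a, -, hge, -, -⟩ := Lev_data hF h hg
  exact ⟨_, _, _, Lev_conj hF h hg hge hb⟩

/-- The image of `H` in the Levi subgroup. -/
def Kbar (hF : Fintype.card F = q ^ 2) (h : Std q e f) (H : Subgroup (SU (m + 2) F q)) :
    Subgroup (SU (m + 2) F q) where
  carrier := {l | l ∈ Lev e f ∧ ∃ x ∈ Qs hF h, x * l ∈ H}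
  one_mem' := ⟨one_mem _, 1, one_mem _, by rw [one_mul]; exact one_mem H⟩
  mul_mem' := by
    rintro l l' ⟨hl, x, hx, hxl⟩ ⟨hl', x', hx', hxl'⟩
    refine ⟨mul_mem hl hl', x * (l * x' * l⁻¹), mul_mem hx (Lev_normalises hF h hl hx'), ?_⟩
    have := mul_mem hxl hxl'
    convert this using 1
    group
  inv_mem' := by
    rintro l ⟨hl, x, hx, hxl⟩
    refine ⟨inv_mem hl, l⁻¹ * x⁻¹ * l⁻¹⁻¹, Lev_normalises hF h (inv_mem hl) (inv_mem hx), ?_⟩
    have := inv_mem hxl
    convert this using 1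
    group

theorem Kbar_A {l : SU (m + 2) F q} (hl : l ∈ Kbar hF h H) {a : F} (hle : l • e = a • e)
    {w : Fin m → F} (hw : w ∈ Aset hF h H) : a ^ q • lact l w ∈ Aset hF h H := by
  obtain ⟨hlL, x, ⟨w', b', hb', rfl⟩, hxl⟩ := hl
  obtain ⟨b, hb, hH⟩ := hw
  have hm := mul_mem (mul_mem hxl hH) (inv_mem hxl)
  have e1 : Qg hF h w' hb' * l * Qg hF h w hb * (Qg hF h w' hb' * l)⁻¹ =
      Qg hF h w' hb' * (l * Qg hF h w hb * l⁻¹) * (Qg hF h w' hb')⁻¹ := by group
  rw [e1, Lev_conj hF h hlL hle hb, Qg_inv, Qg_mul, Qg_mul] at hm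
  have hA : w' + a ^ q • lact l w + -w' ∈ Aset hF h H := ⟨_, _, hm⟩
  rwa [add_right_comm, add_neg_cancel, zero_add] at hA

theorem Kbar_B {l : SU (m + 2) F q} (hl : l ∈ Kbar hF h H) {a : F} (hle : l • e = a • e)
    {b : F} (hb : b ∈ Bset hF h H) : a ^ (q + 1) * b ∈ Bset hF h H := by
  obtain ⟨hlL, x, ⟨w', b', hb', rfl⟩, hxl⟩ := hl
  obtain ⟨hb, hH⟩ := hb
  have hm := mul_mem (mul_mem hxl hH) (inv_mem hxl)
  have e1 : Qg hF h w' hb' * l * Qg hF h 0 hb * (Qg hF h w' hb' * l)⁻¹ =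
      Qg hF h w' hb' * (l * Qg hF h 0 hb * l⁻¹) * (Qg hF h w' hb')⁻¹ := by group
  rw [e1, Lev_conj hF h hlL hle hb, Qg_inv, Qg_mul, Qg_mul] at hm
  have hl0 : lact l (0 : Fin m → F) = 0 := by
    simpa using lact_smul hF h (g := l) (0 : F) (0 : Fin m → F)
  have hc : a ^ (q + 1) * b + (a ^ (q + 1) * b) ^ q = -herm q (0 : Fin m → F) 0 := by
    have := cond_conj hF h hlL a hb
    simpa [hl0] using this
  refine ⟨hc, ?_⟩
  convert hm using 1
  refine Qg_congr hF h _ _ (by rw [hl0]; simp) ?_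
  rw [hl0, smul_zero, add_zero, herm_neg_left, herm_zero_left]
  ring

/-- Cosets of `H` in the point stabiliser. -/
theorem count_le {X : Subgroup (SU (m + 2) F q)} (hX : X ≤ Lev e f) :
    H.relIndex (Qs hF h) * (Kbar hF h H).relIndex X ≤ H.relIndex (Est e) := by
  classical
  set K := Kbar hF h H
  let φ : (X ⧸ K.subgroupOf X) × (Qs hF h ⧸ H.subgroupOf (Qs hF h)) →
      (Est e : Subgroup (SU (m + 2) F q)) ⧸ H.subgroupOf (Est e) := fun p =>
    QuotientGroup.mk ⟨(Quotient.out p.1).1 * (Quotient.out p.2).1,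
      mul_mem (hX (Quotient.out p.1).2).1 (Qs_le_Est hF h (Quotient.out p.2).2)⟩
  have hφ : Function.Injective φ := by
    rintro ⟨c, d⟩ ⟨c', d'⟩ he
    have hh := QuotientGroup.eq.1 he
    rw [Subgroup.mem_subgroupOf] at hh
    simp only [Subgroup.coe_mul, Subgroup.coe_inv] at hh
    set l := (Quotient.out c).1
    set l' := (Quotient.out c').1
    set x := (Quotient.out d).1
    set x' := (Quotient.out d').1
    have hl : l⁻¹ * l' ∈ Lev e f := mul_mem (inv_mem (hX (Quotient.out c).2)) (hX (Quotient.out c').2)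
    have hc : c = c' := by
      rw [← Quotient.out_eq c, ← Quotient.out_eq c']
      refine QuotientGroup.eq.2 (Subgroup.mem_subgroupOf.2 ?_)
      refine ⟨hl, x⁻¹ * ((l⁻¹ * l') * x' * (l⁻¹ * l')⁻¹),
        mul_mem (inv_mem (Quotient.out d).2) (Lev_normalises hF h hl (Quotient.out d').2), ?_⟩
      show x⁻¹ * (l⁻¹ * l' * x' * (l⁻¹ * l')⁻¹) * (l⁻¹ * l') ∈ H
      convert hh using 1
      group
    subst hc
    refine Prod.ext rfl ?_
    show d = d'
    rw [← Quotient.out_eq d, ← Quotient.out_eq d']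
    refine QuotientGroup.eq.2 (Subgroup.mem_subgroupOf.2 ?_)
    show x⁻¹ * x' ∈ H
    have e : l = l' := rfl
    rw [e] at hh
    convert hh using 1
    group
  have := Nat.card_le_card_of_injective φ hφ
  rw [Nat.card_prod] at this
  rw [mul_comm]
  exact this

end Cfsg.Agent.MinIndexUN
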