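import Cfsg.Agent.Lib.Unitary.Simple

/-!
`SU_m` inside `SU_{m+2}` as the centraliser of a hyperbolic pair on the first two coordinates
(helper10).
-/

set_option autoImplicit false

namespace Cfsg.Agent.MinIndexUN

open Matrix Cfsg.Agent.Unitary

variable {F : Type*} [Field F] [Fintype F] {q : ℕ} (hF : Fintype.card F = q ^ 2)

/-- Prepend a zero coordinate. -/
def cons0 (k : ℕ) : (Fin k → F) →ₗ[F] (Fin (k + 1) → F) where
  toFun v := Fin.cons 0 v
  map_add' u v := by funext i; refine Fin.cases ?_ (fun j => ?_) i <;> simp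
  map_smul' a v := by funext i; refine Fin.cases ?_ (fun j => ?_) i <;> simp

omit [Fintype F] in
theorem cons0_apply {k : ℕ} (v : Fin k → F) : cons0 k v = Fin.cons 0 v := rfl

/-- The vectors of `F^m` inside `F^{m+2}`. -/
def jV (m : ℕ) : (Fin m → F) →ₗ[F] (Fin (m + 2) → F) := (cons0 (m + 1)).comp (cons0 m)

/-- The last `m` coordinates. -/
def tail2 {m : ℕ} (x : Fin (m + 2) → F) : Fin m → F := Fin.tail (Fin.tail x)

/-- The matrix with a new first coordinate which is fixed. -/
def embMat {k : ℕ} (M : Matrix (Fin k) (Fin k) F) : Matrix (Fin (k + 1)) (Fin (k + 1)) F :=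
  Matrix.of (Fin.cons (Pi.single 0 1) fun i => Fin.cons 0 (M i))

omit [Fintype F] in
theorem embMat_mulVec {k : ℕ} (M : Matrix (Fin k) (Fin k) F) (x : Fin (k + 1) → F) :
    embMat M *ᵥ x = Fin.cons (x 0) (M *ᵥ Fin.tail x) := by
  funext i
  refine Fin.cases ?_ (fun j => ?_) i
  · simp [embMat, Matrix.mulVec, dotProduct, Pi.single_apply]
  · simp [embMat, Matrix.mulVec, dotProduct, Fin.sum_univ_succ, Fin.tail]

omit [Fintype F] in
theorem det_embMat {k : ℕ} (M : Matrix (Fin k) (Fin k) F) : (embMat M).det = M.det := by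
  rw [Matrix.det_succ_row_zero, Fintype.sum_eq_single 0]
  · have : (embMat M).submatrix Fin.succ Fin.succ = M := by ext i j; simp [embMat]
    simp [this]
    simp [embMat]
  · intro j hj
    simp [embMat, hj]

omit [Fintype F] in
theorem herm_cons_cons {k : ℕ} (a b : F) (u v : Fin k → F) :
    herm q (Fin.cons a u : Fin (k + 1) → F) (Fin.cons b v) = a * b ^ q + herm q u v := by
  simp only [herm, hermForm, Fin.sum_univ_succ, Fin.cons_zero, Fin.cons_succ]

omit [Fintype F] in
theorem herm_cons0_cons0 {k : ℕ} (u v : Fin k → F) :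
    herm q (cons0 k u) (cons0 k v) = herm q u v := by
  rw [cons0_apply, cons0_apply, herm_cons_cons, zero_mul, zero_add]

/-- The element with a new first coordinate which is fixed. -/
def embEl {k : ℕ} (g : SU k F q) : SU (k + 1) F q :=
  ⟨⟨embMat ((g : Matrix.SpecialLinearGroup (Fin k) F) : Matrix (Fin k) (Fin k) F), by
      rw [det_embMat]; exact g.1.2⟩, fun x y => by
    show herm q (embMat _ *ᵥ x) (embMat _ *ᵥ y) = herm q x y
    rw [embMat_mulVec, embMat_mulVec, herm_cons_cons]
    conv_rhs => rw [← Fin.cons_self_tail x, ← Fin.cons_self_tail y, herm_cons_cons]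
    congr 1
    exact g.2 _ _⟩

theorem embEl_smul {k : ℕ} (g : SU k F q) (x : Fin (k + 1) → F) :
    embEl g • x = Fin.cons (x 0) (g • Fin.tail x) :=
  embMat_mulVec _ x

/-- `SU_k` inside `SU_{k+1}`. -/
def emb1 (k : ℕ) : SU k F q →* SU (k + 1) F q where
  toFun := embEl
  map_one' := eq_of_smul_eq_SU fun x => by
    rw [embEl_smul, one_smul, one_smul, Fin.cons_self_tail]
  map_mul' g g' := eq_of_smul_eq_SU fun x => by
    simp only [mul_smul, embEl_smul, Fin.cons_zero, Fin.tail_cons]

/-- `SU_m` inside `SU_{m+2}`. -/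
def jG (m : ℕ) : SU m F q →* SU (m + 2) F q := (emb1 (m + 1)).comp (emb1 m)

variable {m : ℕ}

theorem jG_smul (g : SU m F q) (x : Fin (m + 2) → F) :
    jG m g • x = Fin.cons (x 0) (Fin.cons (x 1) (g • tail2 x)) := by
  show embEl (embEl g) • x = _
  rw [embEl_smul, embEl_smul]
  rfl

omit [Fintype F] in
theorem tail2_jV (v : Fin m → F) : tail2 (jV m v) = v := by
  simp [tail2, jV, cons0_apply]

theorem jG_smul_jV (g : SU m F q) (v : Fin m → F) : jG m g • jV m v = jV m (g • v) := by
  rw [jG_smul, tail2_jV]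
  rfl

omit [Fintype F] in
theorem jV_injective : Function.Injective (jV m : (Fin m → F) → _) := fun u v h => by
  rw [← tail2_jV u, h, tail2_jV]

theorem jG_injective : Function.Injective (jG m : SU m F q → _) := fun g g' h =>
  eq_of_smul_eq_SU fun v => jV_injective (by rw [← jG_smul_jV, h, jG_smul_jV])

/-- A hyperbolic pair on the first two coordinates. -/
structure Std (q : ℕ) (e f : Fin (m + 2) → F) : Prop where
  ee : herm q e e = 0
  ff : herm q f f = 0
  ef : herm q e f = 1
  es : tail2 e = 0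
  fs : tail2 f = 0

variable {e f : Fin (m + 2) → F}

include hF in
theorem exists_std : ∃ e f : Fin (m + 2) → F, Std q e f := by
  obtain ⟨u, v, hu, hv, huu, hvv, huv⟩ :=
    exists_std_pair hF (i := (0 : Fin (m + 2))) (j := 1) (Fin.zero_ne_one)
  refine ⟨u, v, huu, hvv, huv, ?_, ?_⟩ <;>
    funext k <;>
    [exact hu k.succ.succ (by simp [Fin.ext_iff]); exact hv k.succ.succ (by simp [Fin.ext_iff])]

omit [Fintype F] in
theorem herm_jV_jV (u v : Fin m → F) : herm q (jV m u) (jV m v) = herm q u v := by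
  rw [jV, LinearMap.comp_apply, LinearMap.comp_apply, herm_cons0_cons0, herm_cons0_cons0]

omit [Fintype F] in
theorem cons_eta (x : Fin (m + 2) → F) : Fin.cons (x 0) (Fin.cons (x 1) (tail2 x)) = x := by
  conv_rhs => rw [← Fin.cons_self_tail x, ← Fin.cons_self_tail (Fin.tail x)]
  rfl

namespace Std

variable (h : Std q e f)
include h

theorem jG_e (g : SU m F q) : jG m g • e = e := by
  rw [jG_smul, h.es, smul_zero]
  conv_rhs => rw [← cons_eta e, h.es]

theorem jG_f (g : SU m F q) : jG m g • f = f := by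
  rw [jG_smul, h.fs, smul_zero]
  conv_rhs => rw [← cons_eta f, h.fs]

omit [Fintype F] in
theorem tail2_e : tail2 e = 0 := h.es

include hF in
theorem jV_e (v : Fin m → F) : herm q (jV m v) e = 0 := by
  rw [← cons_eta e, h.es, jV, LinearMap.comp_apply, cons0_apply, cons0_apply, herm_cons_cons,
    herm_cons_cons, herm_zero_right hF]
  simp

include hF in
theorem jV_f (v : Fin m → F) : herm q (jV m v) f = 0 := by
  rw [← cons_eta f, h.fs, jV, LinearMap.comp_apply, cons0_apply, cons0_apply, herm_cons_cons,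
    herm_cons_cons, herm_zero_right hF]
  simp

include hF in
theorem e_jV (v : Fin m → F) : herm q e (jV m v) = 0 := (herm_eq_zero_comm hF).1 (h.jV_e hF v)

include hF in
theorem f_jV (v : Fin m → F) : herm q f (jV m v) = 0 := (herm_eq_zero_comm hF).1 (h.jV_f hF v)

include hF in
theorem fe : herm q f e = 1 := herm_one_swap hF h.ef

include hF in
theorem e_ne : e ≠ 0 := ne_zero_of_herm_one hF h.ef

include hF in
theorem f_ne : f ≠ 0 := ne_zero_of_herm_one hF (h.fe hF)

include hF in
theorem decomp (x : Fin (m + 2) → F) :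
    x = herm q x f • e + herm q x e • f + jV m (tail2 x) := by
  set y := x - jV m (tail2 x) with hy
  have hyS : y ∈ supp ({0, 1}ᶜ : Finset (Fin (m + 2))) := by
    intro k hk
    simp only [Finset.mem_compl, Finset.mem_insert, Finset.mem_singleton, not_or] at hk
    obtain ⟨k', rfl⟩ := Fin.exists_succ_eq.2 hk.1
    obtain ⟨k'', rfl⟩ := Fin.exists_succ_eq.2 (show k' ≠ 0 by rintro rfl; exact hk.2 rfl)
    simp [hy, jV, cons0_apply, tail2, Fin.tail]
  have hS : ∀ z : Fin (m + 2) → F, tail2 z = 0 → z ∈ supp ({0, 1}ᶜ : Finset (Fin (m + 2))) := by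
    intro z hz k hk
    simp only [Finset.mem_compl, Finset.mem_insert, Finset.mem_singleton, not_or] at hk
    obtain ⟨k', rfl⟩ := Fin.exists_succ_eq.2 hk.1
    obtain ⟨k'', rfl⟩ := Fin.exists_succ_eq.2 (show k' ≠ 0 by rintro rfl; exact hk.2 rfl)
    exact congrFun hz k''
  have hsum := eq_pair_combination hF (S := ({0, 1}ᶜ : Finset (Fin (m + 2)))) (i := 0) (j := 1)
    Fin.zero_ne_one (fun k hk => by simp at hk; tauto) (by simp) (by simp) (hS e h.es) (hS f h.fs)
    h.ee h.ff h.ef hyS
  rw [hy, herm_sub_left, herm_sub_left, h.jV_f hF, h.jV_e hF, sub_zero, sub_zero] at hsum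
  exact eq_add_of_sub_eq hsum

include hF in
theorem ext {g g' : SU (m + 2) F q} (he : g • e = g' • e) (hf : g • f = g' • f)
    (hv : ∀ v : Fin m → F, g • jV m v = g' • jV m v) : g = g' := by
  refine eq_of_smul_eq_SU fun x => ?_
  rw [h.decomp hF x]
  simp only [smul_add, smul_comm g, smul_comm g', he, hf, hv]

end Std

end Cfsg.Agent.MinIndexUN
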