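import Cfsg.Agent.MinIndexUN.CaseA
import Cfsg.Agent.MinIndexUN.Dim3
import Cfsg.Agent.MinIndexU3.Final
import Cfsg.Agent.S2149

/-!
The inductive step for the minimal index in dimension at least five (helper10).
-/

set_option autoImplicit false

namespace Cfsg.Agent.MinIndexUN

open Cfsg.Agent.Unitary MulAction
open scoped commutatorElement

variable {F : Type*} [Field F] [Fintype F] {q m : ℕ} (hF : Fintype.card F = q ^ 2)

include hF

theorem sup_center_ne_top {n : ℕ} (hn : 3 ≤ n) (h32 : ¬ (n = 3 ∧ q = 2))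
    {K : Subgroup (SU n F q)} (hK : K ≠ ⊤) : K ⊔ Subgroup.center (SU n F q) ≠ ⊤ := by
  intro htop
  apply hK
  have hnorm : K.Normal := ⟨fun k hk g => by
    have hg : g ∈ K ⊔ Subgroup.center (SU n F q) := htop ▸ Subgroup.mem_top g
    obtain ⟨a, ha, z, hz, rfl⟩ := Subgroup.mem_sup_of_normal_right.1 hg
    have e : a * z * k * (a * z)⁻¹ = a * k * a⁻¹ := by
      rw [_root_.mul_inv_rev, mul_assoc a z k, ← Subgroup.mem_center_iff.1 hz k]
      group
    rw [e]
    exact mul_mem (mul_mem ha hk) (inv_mem ha)⟩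
  rw [eq_top_iff, ← commutator_SU_eq_top hF hn h32, commutator_def, Subgroup.commutator_le]
  intro g _ g' _
  have hg : g ∈ K ⊔ Subgroup.center (SU n F q) := htop ▸ Subgroup.mem_top g
  have hg' : g' ∈ K ⊔ Subgroup.center (SU n F q) := htop ▸ Subgroup.mem_top g'
  obtain ⟨a, ha, z, hz, rfl⟩ := Subgroup.mem_sup_of_normal_right.1 hg
  obtain ⟨a', ha', z', hz', rfl⟩ := Subgroup.mem_sup_of_normal_right.1 hg'
  have e : ⁅a * z, a' * z'⁆ = a * a' * a⁻¹ * a'⁻¹ := by
    rw [commutatorElement_def, _root_.mul_inv_rev, _root_.mul_inv_rev]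
    have h1 := Subgroup.mem_center_iff.1 hz
    have h2 := Subgroup.mem_center_iff.1 hz'
    calc a * z * (a' * z') * (z⁻¹ * a⁻¹) * (z'⁻¹ * a'⁻¹)
        = a * (z * (a' * z')) * z⁻¹ * a⁻¹ * z'⁻¹ * a'⁻¹ := by group
      _ = a * a' * (z' * a⁻¹) * z'⁻¹ * a'⁻¹ := by rw [← h1 (a' * z')]; group
      _ = a * a' * a⁻¹ * a'⁻¹ := by rw [← h2 a⁻¹]; group
  rw [e]
  exact mul_mem (mul_mem (mul_mem ha ha') (inv_mem ha)) (inv_mem ha')

theorem su3_index (hq : 3 ≤ q) (h5 : q ≠ 5) {K : Subgroup (SU 3 F q)} (hK : K ≠ ⊤) :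
    q ^ 3 + 1 ≤ K.index := by
  have h32 : ¬ (3 = 3 ∧ q = 2) := fun hh => by omega
  have h1 := MinIndexU3.index_gt hF (K ⊔ Subgroup.center (SU 3 F q)) hq h5 le_sup_right
    (sup_center_ne_top hF le_rfl h32 hK)
  have h2 := Nat.le_of_dvd (Nat.pos_of_ne_zero Subgroup.index_ne_zero_of_finite)
    (Subgroup.index_dvd_of_le (le_sup_left : K ≤ K ⊔ Subgroup.center (SU 3 F q)))
  omega

omit hF in
theorem su3_index_five (hF : Fintype.card F = 5 ^ 2) {K : Subgroup (SU 3 F 5)} (hK : K ≠ ⊤) :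
    50 ≤ K.index := by
  have h32 : ¬ (3 = 3 ∧ (5 : ℕ) = 2) := fun hh => by omega
  set K' := K ⊔ Subgroup.center (SU 3 F 5)
  have hker : (QuotientGroup.mk' (Subgroup.center (SU 3 F 5))).ker ≤ K' := by
    rw [QuotientGroup.ker_mk']; exact le_sup_right
  have hsurj := QuotientGroup.mk'_surjective (Subgroup.center (SU 3 F 5))
  have h1 := (Cfsg.Agent.S2149.result (F := F) (by rw [hF]; norm_num)).1
    (K'.map (QuotientGroup.mk' _)) (fun e => sup_center_ne_top hF le_rfl h32 hK (by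
      have h3 := congrArg (Subgroup.comap (QuotientGroup.mk' (Subgroup.center (SU 3 F 5)))) e
      rwa [Subgroup.comap_map_eq_self hker, Subgroup.comap_top] at h3))
  rw [Subgroup.index_map_eq _ hsurj hker] at h1
  exact h1.trans (Nat.le_of_dvd (Nat.pos_of_ne_zero Subgroup.index_ne_zero_of_finite)
    (Subgroup.index_dvd_of_le le_sup_left))

/-- A `p`-subgroup of small order. -/
theorem card_small (A : AddSubgroup (Fin m → F)) {k : ℕ} (h : Nat.card A < q ^ k) :
    ∃ p : ℕ, p.Prime ∧ p ∣ q ∧ Nat.card A * p ≤ q ^ k := by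
  obtain ⟨p, e, hp, he, -, hq⟩ := exists_prime_pow hF
  refine ⟨p, hp, hq ▸ dvd_pow_self p (by omega), ?_⟩
  have hd := A.card_addSubgroup_dvd_card
  rw [Nat.card_eq_fintype_card (α := Fin m → F), Fintype.card_fun, hF, hq, ← pow_mul, ← pow_mul,
    Nat.dvd_prime_pow hp] at hd
  obtain ⟨i, -, hi⟩ := hd
  rw [hi, hq, ← pow_mul] at h ⊢
  rw [← pow_succ]
  exact Nat.pow_le_pow_right hp.pos (Nat.pow_lt_pow_iff_right hp.one_lt |>.1 h)

variable {e f : Fin (m + 2) → F} (h : Std q e f)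
include h

theorem Kj_stable (H : Subgroup (SU (m + 2) F q)) :
    ∀ g ∈ Kj hF h H, ∀ v ∈ Aset hF h H, g • v ∈ Aset hF h H := fun g hg v hv => by
  have := Kbar_A hF h H (show jG m g ∈ Kbar hF h H from hg) (a := 1) (by rw [one_smul, h.jG_e]) hv
  rwa [one_pow, one_smul, lact_jG hF h] at this

theorem x_ge_weak (H : Subgroup (SU (m + 2) F q)) (hB : Nat.card (Bset hF h H) ≠ q) (hm : 1 ≤ m) :
    q ^ (2 * m + 1) * (Kj hF h H).index ≤ H.relIndex (Est e) * Nat.card (Aset hF h H) := by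
  have hj := index_Kj_le hF h H
  by_cases h1 : Nat.card (Bset hF h H) = 1
  · exact (Nat.mul_le_mul_left _ hj).trans (x_ge_of_B_one hF h H h1 hm)
  · refine le_trans ?_ (x_ge_of_B_mid hF h H h1 hB hm)
    rw [pow_succ', mul_assoc q]
    calc q * (q ^ (2 * m) * (Kj hF h H).index)
        ≤ (q + 2) * (q ^ (2 * m) * (Kbar hF h H).relIndex (Lev1 e f)) :=
          Nat.mul_le_mul (by omega) (Nat.mul_le_mul_left _ hj)
      _ = _ := (mul_assoc _ _ _).symm

/-- The case where the whole of `SU_m` acts. -/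
theorem step_top (hm : 3 ≤ m) (hq : 3 ≤ q) (H : Subgroup (SU (m + 2) F q)) (hne : H ≠ ⊤)
    (hB : Nat.card (Bset hF h H) ≠ q) (hK : Kj hF h H = ⊤) :
    Nat.card (IsoPt hF (m + 2)) ≤ H.index := by
  have hx := relIndex_le_index hF H (Est e)
  have hA : Aset hF h H = ⊥ :=
    (stable_eq_bot_or_top hF hm _ fun g v hv =>
      Kj_stable hF h H g (hK ▸ Subgroup.mem_top g) v hv).resolve_right
      fun e' => hB (Bset_full_of_top hF h H (by omega) e')
  have hN := card_pts_step hF m (by omega)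
  have hs := pts_small hF hq (show 1 ≤ m by omega)
  have hpos : 0 < (Kbar hF h H).relIndex (Lev1 e f) :=
    Nat.pos_of_ne_zero Subgroup.index_ne_zero_of_finite
  by_cases h1 : Nat.card (Bset hF h H) = 1
  · by_cases h2 : (Kbar hF h H).relIndex (Lev e f) = 1
    · obtain ⟨H', hidx, hQ', hL'⟩ := exists_conj_Lev_le hF h H hm hq (inf_Qs_eq_bot hF h H hA h1)
        (Subgroup.relIndex_eq_one.1 h2)
      rw [← hidx]
      refine index_ge_of_Lev hF h H' hm hq (fun e' => hne ?_) hQ' hL'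
      rw [← Subgroup.index_eq_one, ← hidx, e', Subgroup.index_top]
    · have h3 := x_ge_Lev hF h H
      rw [hA, h1, Nat.card_unique, mul_one, mul_one] at h3
      have h4 : 2 ≤ (Kbar hF h H).relIndex (Lev e f) := by
        have : 0 < (Kbar hF h H).relIndex (Lev e f) :=
          Nat.pos_of_ne_zero Subgroup.index_ne_zero_of_finite
        omega
      have h5 : q ^ (2 * m + 1) * 2 ≤ H.relIndex (Est e) :=
        (Nat.mul_le_mul_left _ h4).trans h3
      have : q ^ (2 * m) ≤ q ^ (2 * m + 1) := Nat.pow_le_pow_right (by omega) (by omega)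
      omega
  · have h3 := x_ge_of_B_mid hF h H h1 hB (by omega)
    rw [hA, Nat.card_unique, mul_one] at h3
    have h5 : (q + 2) * q ^ (2 * m) ≤ H.relIndex (Est e) :=
      (Nat.le_mul_of_pos_right _ hpos).trans h3
    rw [add_mul, ← pow_succ'] at h5
    omega

/-- The case of a proper part in `SU_m`, `m ≥ 4`. -/
theorem step_big {J : ℕ} (hm : 1 ≤ m) (H : Subgroup (SU (m + 2) F q))
    (hB : Nat.card (Bset hF h H) ≠ q) (hJ : J ≤ (Kj hF h H).index)
    (hnum : Nat.card (IsoPt hF (m + 2)) ≤ q ^ (m + 1) * J) :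
    Nat.card (IsoPt hF (m + 2)) ≤ H.index := by
  refine le_trans ?_ (relIndex_le_index hF H (Est e))
  have h1 := x_ge_weak hF h H hB hm
  have h2 := (card_isotropic_le hF (Bset hF h H) (fun b hb => Bset_trace hF h H hb) hB
    (Aset hF h H) fun x hx y hy => alt_mem hF h H hx hy).1
  refine Nat.le_of_mul_le_mul_right ?_ (pow_pos (q_pos hF) m)
  calc Nat.card (IsoPt hF (m + 2)) * q ^ m ≤ q ^ (m + 1) * J * q ^ m := Nat.mul_le_mul_right _ hnum
    _ = q ^ (2 * m + 1) * J := by ring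
    _ ≤ q ^ (2 * m + 1) * (Kj hF h H).index := Nat.mul_le_mul_left _ hJ
    _ ≤ H.relIndex (Est e) * Nat.card (Aset hF h H) := h1
    _ ≤ H.relIndex (Est e) * q ^ m := Nat.mul_le_mul_left _ h2

omit h in
/-- Dimension five. -/
theorem step_five {e f : Fin (3 + 2) → F} (h : Std q e f) (hq : 3 ≤ q)
    (H : Subgroup (SU (3 + 2) F q)) (hB : Nat.card (Bset hF h H) ≠ q) (hK : Kj hF h H ≠ ⊤) :
    Nat.card (IsoPt hF (3 + 2)) ≤ H.index := by
  refine le_trans ?_ (relIndex_le_index hF H (Est e))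
  have hN : Nat.card (IsoPt hF (3 + 2)) = q ^ 2 * (q ^ 3 + 1) + 1 + q ^ 7 := by
    rw [card_pts_step hF 3 (by norm_num), show Nat.card (IsoPt hF 3) = q ^ 3 + 1 from
      MinIndexU3.card_points hF]
  rw [hN]
  set x := H.relIndex (Est e)
  set j := (Kj hF h H).index
  set a := Nat.card (Aset hF h H)
  have hj := index_Kj_le hF h H
  obtain ⟨hA, hAt⟩ := card_isotropic_le hF (Bset hF h H) (fun b hb => Bset_trace hF h H hb) hB
    (Aset hF h H) fun x hx y hy => alt_mem hF h H hx hy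
  have h27 : 27 ≤ q ^ 3 := Nat.pow_le_pow_left hq 3
  have hqq : 9 ≤ q ^ 2 := Nat.pow_le_pow_left hq 2
  by_cases hb : Nat.card (Bset hF h H) = 1
  · have h1 : q ^ 7 * j ≤ x * a :=
      (Nat.mul_le_mul_left _ hj).trans (x_ge_of_B_one hF h H hb (by norm_num))
    by_cases hlt : a < q ^ 3
    · obtain ⟨p, hp, hpq, hap⟩ := card_small hF (Aset hF h H) hlt
      have h2 : q ^ 4 * (p * j) ≤ x := by
        refine Nat.le_of_mul_le_mul_right ?_ (show 0 < q ^ 3 by omega)
        calc q ^ 4 * (p * j) * q ^ 3 = p * (q ^ 7 * j) := by ring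
          _ ≤ p * (x * a) := Nat.mul_le_mul_left _ h1
          _ = x * (a * p) := by ring
          _ ≤ x * q ^ 3 := Nat.mul_le_mul_left _ hap
      by_cases h5 : q = 5
      · subst h5
        have hp5 : p = 5 := (Nat.prime_dvd_prime_iff_eq hp Nat.prime_five).1 hpq
        subst hp5
        have := su3_index_five hF hK
        have h50 : 50 ≤ j := this
        norm_num at h2 ⊢
        omega
      · have hj3 : q ^ 3 + 1 ≤ j := su3_index hF hq h5 hK
        have h3 : q ^ 4 * (2 * (q ^ 3 + 1)) ≤ x :=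
          le_trans (Nat.mul_le_mul_left _ (Nat.mul_le_mul hp.two_le hj3)) h2
        have h4 : q ^ 2 * (q ^ 3 + 1) + 1 + q ^ 7 ≤ q ^ 4 * (2 * (q ^ 3 + 1)) := by
          nlinarith [Nat.mul_le_mul_right (q ^ 3) (show 2 ≤ q ^ 2 by omega)]
        omega
    · have ha : a = q ^ 3 := le_antisymm hA (not_lt.1 hlt)
      have hj3 : q ^ 3 + q + 1 ≤ j := real_index_three hF hq _ (Aset hF h H) (Kj_stable hF h H)
        (fun v hv w hw => by
          have h2 := alt_mem hF h H hv hw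
          rw [AddSubgroup.card_eq_one.1 hb, AddSubgroup.mem_bot, sub_eq_zero] at h2
          rw [← herm_swap hF v w, h2])
        (fun t ht v hv => hAt ha t (mem_scal_of_bot hF _ (fun b hb => Bset_trace hF h H hb) hb ht) v hv) ha
      have h2 : q ^ 4 * j ≤ x := by
        refine Nat.le_of_mul_le_mul_right ?_ (show 0 < q ^ 3 by omega)
        calc q ^ 4 * j * q ^ 3 = q ^ 7 * j := by ring
          _ ≤ x * a := h1
          _ = _ := by rw [ha]
      have h3 : q ^ 4 * (q ^ 3 + q + 1) ≤ x := le_trans (Nat.mul_le_mul_left _ hj3) h2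
      have h4 : q ^ 2 * (q ^ 3 + 1) + 1 + q ^ 7 ≤ q ^ 4 * (q ^ 3 + q + 1) := by
        nlinarith [Nat.mul_le_mul_right (q ^ 2) (show 2 ≤ q ^ 2 by omega)]
      omega
  · have h5 : q ≠ 5 := by
      rintro rfl
      have hk := two_le_ksc hF (Bset hF h H)
      have hd := (Bset hF h H).card_addSubgroup_dvd_card
      rw [Nat.card_eq_fintype_card (α := F), hF, Nat.dvd_prime_pow Nat.prime_five] at hd
      obtain ⟨i, -, hi⟩ := hd
      have hle := card_Bset_le hF h H
      rcases i with - | i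
      · exact hb (by simpa using hi)
      · exact hB (le_antisymm hle (by rw [hi]; exact Nat.le_self_pow (by omega) 5))
    have hj3 : q ^ 3 + 1 ≤ j := su3_index hF hq h5 hK
    have h1 : (q + 2) * q ^ 6 * j ≤ x * a :=
      (Nat.mul_le_mul_left _ hj).trans (x_ge_of_B_mid hF h H hb hB (by norm_num))
    have h2 : (q + 2) * q ^ 3 * (q ^ 3 + 1) ≤ x := by
      refine Nat.le_of_mul_le_mul_right ?_ (show 0 < q ^ 3 by omega)
      calc (q + 2) * q ^ 3 * (q ^ 3 + 1) * q ^ 3 = (q + 2) * q ^ 6 * (q ^ 3 + 1) := by ring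
        _ ≤ (q + 2) * q ^ 6 * j := Nat.mul_le_mul_left _ hj3
        _ ≤ x * a := h1
        _ ≤ x * q ^ 3 := Nat.mul_le_mul_left _ hA
    have h4 : q ^ 2 * (q ^ 3 + 1) + 1 + q ^ 7 ≤ (q + 2) * q ^ 3 * (q ^ 3 + 1) := by
      nlinarith [Nat.mul_le_mul_right (q ^ 5) (show 1 ≤ q by omega)]
    omega

end Cfsg.Agent.MinIndexUN
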