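import Cfsg.Agent.MinIndexUN.Factor
import Cfsg.Agent.MinIndexUN.Cover
import Cfsg.Agent.MinIndexUN.Pseudo
import Cfsg.Agent.MinIndexUN.Counts
import Cfsg.Agent.Lib.Unitary.Outer

/-!
The twisted action of the Levi subgroup on the plane, `n = 4` (helper10).
-/

set_option autoImplicit false

namespace Cfsg.Agent.MinIndexUN

open Matrix Cfsg.Agent.Unitary MulAction

variable {F : Type*} [Field F] [Fintype F] {q m : ℕ} (hF : Fintype.card F = q ^ 2)
section Generic

variable {e f : Fin (m + 2) → F} (h : Std q e f)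

/-- The action of the Levi subgroup on the translation parts. -/
def tact (q : ℕ) (e f : Fin (m + 2) → F) (g : SU (m + 2) F q) (v : Fin m → F) : Fin m → F :=
  herm q (g • e) f ^ q • lact g v

/-- A subgroup of the Levi subgroup preserving a set of translation parts. -/
def Pres (q : ℕ) (e f : Fin (m + 2) → F) (K : Subgroup (SU (m + 2) F q)) (A : Set (Fin m → F)) :
    Prop :=
  ∀ k ∈ K, k ∈ Lev e f → ∀ v ∈ A, tact q e f k v ∈ A

include hF h

theorem tact_eq {g : SU (m + 2) F q} {a : F} (hg : g • e = a • e) (v : Fin m → F) :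
    tact q e f g v = a ^ q • lact g v := by
  rw [tact, hg, herm_smul_left, h.ef, mul_one]

theorem tact_mul {g g' : SU (m + 2) F q} (hg : g ∈ Lev e f) (hg' : g' ∈ Lev e f)
    (v : Fin m → F) : tact q e f (g * g') v = tact q e f g (tact q e f g' v) := by
  obtain ⟨a, -, ha, -, -⟩ := Lev_data hF h hg
  obtain ⟨a', -, ha', -, -⟩ := Lev_data hF h hg'
  rw [tact_eq hF h (a := a' * a) (by rw [mul_smul, ha', smul_comm g, ha, smul_smul]),
    tact_eq hF h ha, tact_eq hF h ha', lact_mul hF h hg', lact_smul hF h, smul_smul]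
  congr 1
  ring

theorem tact_jG (g : SU m F q) (v : Fin m → F) : tact q e f (jG m g) v = g • v := by
  rw [tact_eq hF h (a := 1) (by rw [one_smul, h.jG_e]), one_pow, one_smul, lact_jG hF h]

theorem tact_zero {g : SU (m + 2) F q} : tact q e f g 0 = 0 := by
  have := lact_smul hF h (g := g) (0 : F) (0 : Fin m → F)
  simp only [zero_smul] at this
  rw [tact, this, smul_zero]

theorem tact_smul {g : SU (m + 2) F q} (c : F) (v : Fin m → F) :
    tact q e f g (c • v) = c • tact q e f g v := by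
  rw [tact, tact, lact_smul hF h, smul_comm]

theorem tact_herm {g : SU (m + 2) F q} (hg : g ∈ Lev e f) {a : F} (ha : g • e = a • e)
    (v : Fin m → F) :
    herm q (tact q e f g v) (tact q e f g v) = a ^ (q + 1) * herm q v v := by
  rw [tact_eq hF h ha, herm_smul_left, herm_smul_right hF, lact_herm hF h hg, pow_q_pow_q hF,
    ← mul_assoc, pow_succ]

theorem tact_ne_zero {g : SU (m + 2) F q} (hg : g ∈ Lev e f) {v : Fin m → F} (hv : v ≠ 0) :
    tact q e f g v ≠ 0 := fun h0 => hv (by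
  have h1 := tact_mul hF h (inv_mem hg) hg v
  rw [inv_mul_cancel, h0, tact_zero hF h, ← map_one (jG (F := F) (q := q) m), tact_jG hF h,
    one_smul] at h1
  exact h1)

theorem Kbar_pres (H : Subgroup (SU (m + 2) F q)) :
    Pres q e f (Kbar hF h H) (Aset hF h H) := fun k hk hkL v hv => by
  obtain ⟨a, -, ha, -, -⟩ := Lev_data hF h hkL
  rw [tact_eq hF h ha]
  exact Kbar_A hF h H hk ha hv

variable {K : Subgroup (SU (m + 2) F q)} {A : Set (Fin m → F)}

/-- A general covering bound. -/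
theorem tact_cover {X : Subgroup (SU (m + 2) F q)} (hX : X ≤ Lev e f) (hK : Pres q e f K A)
    {v : Fin m → F} (hvA : v ∈ A) {O : Set (Fin m → F)} {S : Set (Fin m → F)}
    (hS : ∀ g ∈ X, tact q e f g v ∈ A → tact q e f g v ∈ S)
    (hO : ∀ w ∈ O, ∃ g ∈ X, tact q e f g v = w) : O.ncard ≤ K.relIndex X * S.ncard :=
  card_orbit_le (tact q e f) (v := v)
    (fun _ hg _ hk => tact_mul hF h (hX hg) (hX hk) v) (Set.toFinite _) hO
    fun k hk hkX => hS k hkX (hK k hk (hX hkX) v hvA)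

end Generic

include hF

theorem exists_perp {v : Fin 2 → F} (hv : herm q v v ≠ 0) :
    ∃ r : Fin 2 → F, herm q v r = 0 ∧ herm q r r ≠ 0 := by
  refine ⟨![v 1 ^ q, -(v 0 ^ q)], ?_, ?_⟩
  · simp [herm, hermForm, Fin.sum_univ_two, pow_q_pow_q hF, neg_pow_q hF]
    ring
  · convert hv using 1
    simp [herm, hermForm, Fin.sum_univ_two, pow_q_pow_q hF, neg_pow_q hF]
    ring

theorem plane_norm_ncard {t : F} (ht : t ^ q = t) (h0 : t ≠ 0) :
    {v : Fin 2 → F | herm q v v = t}.ncard = q * (q ^ 2 - 1) := by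
  rw [← Nat.card_coe_set_eq]
  show nvec 2 F q t = _
  rw [nvec_eq_one hF ht h0, nvec_one_formula hF 2, if_pos (by decide)]
  simp

theorem plane_iso_ncard :
    {v : Fin 2 → F | v ≠ 0 ∧ herm q v v = 0}.ncard = (q ^ 2 - 1) * (q + 1) := by
  have h1 : {v : Fin 2 → F | herm q v v = 0}.ncard = (q ^ 2 - 1) * (q + 1) + 1 := by
    rw [← Nat.card_coe_set_eq]
    show nvec 2 F q 0 = _
    rw [nvec_zero_formula hF 2, if_pos (by decide)]
    norm_num
  rw [show {v : Fin 2 → F | v ≠ 0 ∧ herm q v v = 0} =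
      {v : Fin 2 → F | herm q v v = 0} \ {0} by ext v; simp [and_comm],
    Set.ncard_sdiff_singleton_of_mem (by simp), h1]
  omega

theorem card_pts_two : Nat.card (IsoPt hF 2) = q + 1 := by
  have h1 := card_pts_mul hF 2
  have h2 : nvec 2 F q 0 = (q ^ 2 - 1) * (q + 1) + 1 := by
    rw [nvec_zero_formula hF 2, if_pos (by decide)]; norm_num
  have h4 : 4 ≤ q ^ 2 := Nat.pow_le_pow_left (two_le_q hF) 2
  exact Nat.eq_of_mul_eq_mul_right (show 0 < q ^ 2 - 1 by omega)
    (by rw [mul_comm (q + 1)]; omega)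

variable {e f : Fin (2 + 2) → F} (h : Std q e f)
include h

/-- Transitivity on vectors of non-zero norm. -/
theorem exists_tact_norm {v v' : Fin 2 → F} (hv : herm q v v ≠ 0) {a : F} (ha0 : a ≠ 0)
    (ha : a ^ (q + 1) * herm q v v = herm q v' v') :
    ∃ g : SU (2 + 2) F q, g ∈ Lev e f ∧ g • e = a • e ∧ tact q e f g v = v' := by
  have haq : a ^ q ≠ 0 := pow_ne_zero _ ha0
  have hx : herm q ((a ^ q)⁻¹ • v') ((a ^ q)⁻¹ • v') = herm q v v := by
    rw [herm_smul_left, herm_smul_right hF, ← ha, inv_pow, pow_q_pow_q hF, pow_succ]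
    field_simp
  obtain ⟨G, -, hG⟩ := exists_fixGU_smul_eq hF (S := (∅ : Finset (Fin 2))) (x := v)
    (x' := (a ^ q)⁻¹ • v') (by simp [supp_empty]) (by simp [supp_empty]) hx.symm hv
  obtain ⟨r, hr0, hr⟩ := exists_perp hF hv
  obtain ⟨G', hd, hG'⟩ := exists_adjust hF G hr (δ := a ^ q / a) (by
    rw [div_pow, show (a ^ q) ^ (q + 1) = a ^ (q + 1) by
      rw [pow_succ, pow_q_pow_q hF, pow_succ, mul_comm], div_self (pow_ne_zero _ ha0)])
  obtain ⟨g, hg, hge, hgv⟩ := exists_Lev_el hF h ha0 G' (by rw [hd, div_mul_cancel₀ _ ha0])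
  refine ⟨g, hg, hge, ?_⟩
  rw [tact_eq hF h hge, lact, hgv, tail2_jV, hG' v hr0, hG, smul_inv_smul₀ haq]

/-- Transitivity on isotropic vectors in characteristic two. -/
theorem exists_tact_iso (h2 : (2 : F) = 0) {v v' : Fin 2 → F} (hv : herm q v v = 0)
    (hv' : herm q v' v' = 0) (h0 : v ≠ 0) (h0' : v' ≠ 0) :
    ∃ g ∈ Lev1 (q := q) e f, tact q e f g v = v' := by
  obtain ⟨y, -, hy, hvy⟩ :=
    exists_partner hF (S := (∅ : Finset (Fin 2))) (u := v) (by simp [supp_empty]) hv h0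
  obtain ⟨y', -, hy', hvy'⟩ :=
    exists_partner hF (S := (∅ : Finset (Fin 2))) (u := v') (by simp [supp_empty]) hv' h0'
  obtain ⟨G1, -, hG1, -⟩ := exists_fixGU_pair hF (S := (∅ : Finset (Fin 2))) (u := v) (v := y)
    (u' := v') (v' := y') (by simp [supp_empty]) (by simp [supp_empty]) (by simp [supp_empty])
    (by simp [supp_empty]) hv hy hvy hv' hy' hvy'
  set δ : F := (detGU G1 : F) with hδ
  have hsq : Function.Injective fun x : F => x ^ 2 := fun x y e' => by
    have : (x - y) ^ 2 = 0 := by linear_combination e' + (y ^ 2 - x * y) * h2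
    exact sub_eq_zero.1 (sq_eq_zero_iff.1 this)
  obtain ⟨b, hb⟩ := (Finite.injective_iff_surjective.1 hsq) δ⁻¹
  obtain ⟨a, ha⟩ := (Finite.injective_iff_surjective.1 hsq) b
  have ha4 : a ^ 4 = δ⁻¹ := by
    rw [← hb, ← ha]; ring
  have hn : a ^ (q + 1) = 1 := by
    have h4 : (a ^ (q + 1)) ^ 4 = 1 := by
      rw [← pow_mul, mul_comm, pow_mul, ha4, inv_pow, hδ, det_norm hF G1, inv_one]
    have h2' : (a ^ (q + 1)) ^ 2 = 1 := hsq (show ((a ^ (q + 1)) ^ 2) ^ 2 = (1 : F) ^ 2 by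
      rw [← pow_mul, h4, one_pow])
    exact hsq (show (a ^ (q + 1)) ^ 2 = (1 : F) ^ 2 by rw [h2', one_pow])
  have ha0 : a ≠ 0 := by rintro rfl; simp at hn
  obtain ⟨Z, hZ, hZd⟩ := exists_scalar_GU hF (n := 2) hn
  have hdet : (detGU (G1 * Z) : F) * a = a ^ q := by
    rw [map_mul, Units.val_mul, hZd, ← hδ]
    have hδ0 : δ ≠ 0 := Units.ne_zero _
    have e1 : δ * a ^ 4 = 1 := by rw [ha4, mul_inv_cancel₀ hδ0]
    have e2 : a ^ q * a = 1 := by rw [← pow_succ, hn]
    refine mul_right_cancel₀ ha0 ?_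
    rw [e2]
    linear_combination e1
  obtain ⟨g, hg, hge, hgv⟩ := exists_Lev_el hF h ha0 (G1 * Z) hdet
  refine ⟨g, ⟨hg, a, hn, hge⟩, ?_⟩
  rw [tact_eq hF h hge, lact, hgv, tail2_jV, mul_smul, hZ, smul_comm G1, hG1, smul_smul,
    ← pow_succ, hn, one_smul]

variable {K : Subgroup (SU (2 + 2) F q)} {A : Set (Fin 2 → F)}

theorem cover_norm_Lev (hK : Pres q e f K A) {v : Fin 2 → F} (hvA : v ∈ A)
    (hv : herm q v v ≠ 0) :
    (q - 1) * (q * (q ^ 2 - 1)) ≤ K.relIndex (Lev e f) * (A \ {0}).ncard := by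
  have h1 : {w : Fin 2 → F | herm q w w ≠ 0}.ncard = (q - 1) * (q * (q ^ 2 - 1)) := by
    have h2 := Set.ncard_compl {w : Fin 2 → F | herm q w w = 0} (Set.toFinite _)
    have h3 : {w : Fin 2 → F | herm q w w = 0}.ncard = (q ^ 2 - 1) * (q + 1) + 1 := by
      rw [← Nat.card_coe_set_eq]
      show nvec 2 F q 0 = _
      rw [nvec_zero_formula hF 2, if_pos (by decide)]
      norm_num
    rw [show {w : Fin 2 → F | herm q w w = 0}ᶜ = {w : Fin 2 → F | herm q w w ≠ 0} from rfl, h3,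
      Nat.card_eq_fintype_card, Fintype.card_fun, hF, Fintype.card_fin, ← pow_mul] at h2
    rw [h2]
    obtain ⟨r, rfl⟩ : ∃ r, q = r + 1 := ⟨q - 1, by have := two_le_q hF; omega⟩
    have e1 : (r + 1) ^ 2 - 1 = r ^ 2 + 2 * r := by rw [add_sq]; simp
    rw [e1, Nat.add_sub_cancel]
    refine Nat.sub_eq_of_eq_add ?_
    ring
  rw [← h1]
  refine tact_cover hF h le_rfl hK hvA (fun g hg hm => ?_) fun w hw => ?_
  · exact ⟨hm, fun e0 => tact_ne_zero hF h hg (fun e1 => hv (by rw [e1, herm_zero_left])) e0⟩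
  · obtain ⟨a, ha⟩ := exists_norm_eq hF (t := herm q w w / herm q v v)
      (by rw [div_pow, herm_self_fixed hF, herm_self_fixed hF])
    have ha0 : a ≠ 0 := fun e0 => div_ne_zero hw hv (by rw [← ha, e0, zero_pow (by omega)])
    obtain ⟨g, hg, -, hgv⟩ := exists_tact_norm hF h hv ha0 (by rw [ha, div_mul_cancel₀ _ hv])
    exact ⟨g, hg, hgv⟩

theorem cover_norm_Lev1 (hK : Pres q e f K A) {v : Fin 2 → F} (hvA : v ∈ A)
    (hv : herm q v v ≠ 0) :
    q * (q ^ 2 - 1) ≤ K.relIndex (Lev1 e f) * (A \ {0}).ncard := by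
  rw [← plane_norm_ncard hF (herm_self_fixed hF v) hv]
  refine tact_cover hF h Lev1_le hK hvA (fun g hg hm => ?_) fun w hw => ?_
  · exact ⟨hm, fun e0 => tact_ne_zero hF h hg.1 (fun e1 => hv (by rw [e1, herm_zero_left])) e0⟩
  · obtain ⟨g, hg, hge, hgv⟩ := exists_tact_norm hF h (v' := w) hv (a := 1) one_ne_zero
      (by rw [one_pow, one_mul]; exact hw.symm)
    exact ⟨g, ⟨hg, 1, one_pow _, hge⟩, hgv⟩

theorem cover_iso_even (h2 : (2 : F) = 0) (hK : Pres q e f K A) {v : Fin 2 → F} (hvA : v ∈ A)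
    (hv : herm q v v = 0) (h0 : v ≠ 0) :
    (q ^ 2 - 1) * (q + 1) ≤ K.relIndex (Lev1 e f) * (A \ {0}).ncard := by
  rw [← plane_iso_ncard hF]
  refine tact_cover hF h Lev1_le hK hvA (fun g hg hm => ?_) fun w hw => ?_
  · exact ⟨hm, fun e0 => tact_ne_zero hF h hg.1 h0 e0⟩
  · exact exists_tact_iso hF h h2 hv hw.2 h0 hw.1

/-- A set inside an isotropic line. -/
theorem index_line (hK : Pres q e f K A) {u : Fin 2 → F} (hu : herm q u u = 0) (hu0 : u ≠ 0)
    (huA : u ∈ A) (hA : ∀ v ∈ A, ∃ c : F, v = c • u) : q + 1 ≤ K.relIndex (Lev1 e f) := by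
  have hle : K.comap (jG 2) ≤ Est (m := 0) (q := q) u := by
    intro g hg
    have h1 := hK _ hg (jG_mem_Lev hF h g) u huA
    rw [tact_jG hF h] at h1
    obtain ⟨c, hc⟩ := hA _ h1
    refine ⟨c, ?_, hc⟩
    rintro rfl
    rw [zero_smul] at hc
    exact (smul_ne_zero_iff_ne g).2 hu0 hc
  obtain ⟨p, c, hc, hp⟩ := exists_pt hF hu0 hu
  have h1 : (Est (m := 0) (q := q) u).index = q + 1 := by
    rw [← Est_smul (q := q) (m := 0) hc, ← hp, index_Est hF p, card_pts_two hF]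
  have h2 : q + 1 ≤ (K.comap (jG 2)).index := by
    rw [← h1]
    exact Nat.le_of_dvd (Nat.pos_of_ne_zero Subgroup.index_ne_zero_of_finite)
      (Subgroup.index_dvd_of_le hle)
  refine h2.trans ?_
  rw [show (K.comap (jG 2)).index = K.relIndex (jG 2 : SU 2 F q →* SU (2 + 2) F q).range from
    Subgroup.index_comap _ _]
  exact Subgroup.relIndex_le_of_le_right (jG_range_le hF h) Subgroup.index_ne_zero_of_finite

end Cfsg.Agent.MinIndexUN
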