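import Cfsg.Agent.MinIndexUN.Elements
import Cfsg.Agent.MinIndexUN.Twist
import Cfsg.Agent.MinIndexUN.Decomp

/-!
The Levi subgroup over the field of four elements (helper10).
-/

set_option autoImplicit false

namespace Cfsg.Agent.MinIndexUN

open Matrix Cfsg.Agent.Unitary

section Gen

variable {F : Type*} [Field F] [Fintype F] {q m : ℕ} (hF : Fintype.card F = q ^ 2)
variable {e f : Fin (m + 2) → F} (h : Std q e f)

include hF h

theorem lact_add {g : SU (m + 2) F q} (hg : g ∈ Lev e f) (v w : Fin m → F) :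
    lact g (v + w) = lact g v + lact g w := by
  obtain ⟨a, -, -, -, hj⟩ := Lev_data hF h hg
  refine jV_injective ?_
  rw [← hj, map_add, map_add, smul_add, hj, hj]

/-- An element fixing `e` and `f` is in the image of `SU_m`, in every dimension. -/
theorem exists_jG_eq' {g : SU (m + 2) F q} (he : g • e = e) (hf : g • f = f) :
    ∃ g₀ : SU m F q, g = jG m g₀ := by
  classical
  have hg : g ∈ Lev (q := q) e f :=
    ⟨⟨1, one_ne_zero, by rw [one_smul]; exact he⟩, ⟨1, one_ne_zero, by rw [one_smul]; exact hf⟩⟩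
  obtain ⟨a, -, -, -, hj⟩ := Lev_data hF h hg
  let L : (Fin m → F) →ₗ[F] (Fin m → F) :=
    { toFun := lact g
      map_add' := lact_add hF h hg
      map_smul' := fun c v => lact_smul hF h c v }
  set M := LinearMap.toMatrix' L with hM
  have hMv : ∀ v, M *ᵥ v = lact g v := fun v => by
    rw [hM, LinearMap.toMatrix'_mulVec]; rfl
  have hE : embMat (embMat M) = ((g : Matrix.SpecialLinearGroup (Fin (m + 2)) F) :
      Matrix (Fin (m + 2)) (Fin (m + 2)) F) := by
    refine Matrix.ext_of_mulVec_single fun i => ?_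
    generalize (Pi.single i 1 : Fin (m + 2) → F) = x
    show _ = g • x
    have hEv : ∀ y : Fin (m + 2) → F, embMat (embMat M) *ᵥ y =
        Fin.cons (y 0) (Fin.cons (y 1) (M *ᵥ tail2 y)) := fun y => by
      rw [embMat_mulVec, embMat_mulVec]; rfl
    have hEe : embMat (embMat M) *ᵥ e = e := by
      rw [hEv, h.es, Matrix.mulVec_zero]
      conv_rhs => rw [← cons_eta e, h.es]
    have hEf : embMat (embMat M) *ᵥ f = f := by
      rw [hEv, h.fs, Matrix.mulVec_zero]
      conv_rhs => rw [← cons_eta f, h.fs]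
    have hEj : ∀ v, embMat (embMat M) *ᵥ jV m v = g • jV m v := fun v => by
      rw [hEv, tail2_jV, hMv, hj]; rfl
    rw [h.decomp hF x]
    simp only [smul_add, smul_comm g, he, hf, Matrix.mulVec_add, Matrix.mulVec_smul, hEe, hEf, hEj]
  have hdet : M.det = 1 := by rw [← det_embMat M, ← det_embMat (embMat M), hE]; exact g.1.2
  refine ⟨⟨⟨M, hdet⟩, fun x y => ?_⟩, h.ext hF ?_ ?_ fun v => ?_⟩
  · show herm q (M *ᵥ x) (M *ᵥ y) = herm q x y
    rw [hMv, hMv, lact_herm hF h hg]
  · rw [he, h.jG_e]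
  · rw [hf, h.jG_f]
  · rw [hj, jG_smul_jV, ← hMv]
    rfl

end Gen

section Four

variable {F : Type*} [Field F] [Fintype F] {m : ℕ} (hF : Fintype.card F = 2 ^ 2)

include hF

theorem cube_eq_one_four {a : F} (ha : a ≠ 0) : a ^ 3 = 1 := by
  have h := FiniteField.pow_card_sub_one_eq_one a ha
  rwa [hF] at h

theorem char_two_four : (2 : F) = 0 := by
  have h : ((2 ^ 2 : ℕ) : F) = 0 := by rw [← hF]; exact Nat.cast_card_eq_zero F
  have h' : (2 : F) * 2 = 0 := by push_cast at h; linear_combination h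
  exact (mul_eq_zero.1 h').elim id id

theorem neg_four (x : F) : -x = x := by linear_combination (-x) * char_two_four hF

theorem exists_omega_four : ∃ l : F, l ≠ 0 ∧ l ≠ 1 := by
  classical
  by_contra! hall
  have h2 : Fintype.card Fˣ ≤ 1 :=
    Fintype.card_le_one_iff.2 fun u v => Units.ext ((hall _ u.ne_zero).trans (hall _ v.ne_zero).symm)
  rw [Fintype.card_units, hF] at h2
  norm_num at h2

theorem omega_eq {l : F} (hl0 : l ≠ 0) (hl1 : l ≠ 1) : l ^ 2 + l + 1 = 0 := by
  have : (l - 1) * (l ^ 2 + l + 1) = 0 := by linear_combination cube_eq_one_four hF hl0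
  exact (mul_eq_zero.1 this).resolve_left (sub_ne_zero.2 hl1)

theorem omega_sq_ne {l : F} (hl0 : l ≠ 0) (hl1 : l ≠ 1) : l ^ 2 ≠ 1 := fun e =>
  hl1 (by linear_combination cube_eq_one_four hF hl0 - l * e)

theorem omega_cases {w x : F} (hw0 : w ≠ 0) (hw1 : w ≠ 1) (hx0 : x ≠ 0) (hx1 : x ≠ 1) :
    x = w ∨ x = w ^ 2 := by
  have h1 : (x - w) * (x - w ^ 2) = 0 := by
    linear_combination omega_eq hF hx0 hx1 - x * omega_eq hF hw0 hw1 + cube_eq_one_four hF hw0
  rcases mul_eq_zero.1 h1 with e | e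
  · exact Or.inl (sub_eq_zero.1 e)
  · exact Or.inr (sub_eq_zero.1 e)

theorem norm_four {a : F} (ha : a ≠ 0) : a ^ (2 + 1) = 1 := cube_eq_one_four hF ha

theorem inv_sq_four {a : F} (ha : a ≠ 0) : (a ^ 2)⁻¹ = a :=
  inv_eq_of_mul_eq_one_right (by rw [← pow_succ]; exact cube_eq_one_four hF ha)

theorem fixed_cases {x : F} (hx : x ^ 2 = x) : x = 0 ∨ x = 1 := by
  have h' : x * (x - 1) = 0 := by linear_combination hx
  rcases mul_eq_zero.1 h' with e | e
  · exact Or.inl e
  · exact Or.inr (sub_eq_zero.1 e)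

theorem norm_value {n : ℕ} {v : Fin n → F} (hv : herm 2 v v ≠ 0) : herm 2 v v = 1 :=
  (fixed_cases hF (herm_self_fixed hF v)).resolve_left hv

variable {e f : Fin (m + 2) → F} (h : Std 2 e f)
include h

/-- Every element of `GU_m` is induced by the Levi subgroup. -/
theorem exists_lact_GU (G : GU m F 2) :
    ∃ g : SU (m + 2) F 2, g ∈ Lev (q := 2) e f ∧ g • e = (detGU G : F) • e ∧
      ∀ v, lact g v = G • v := by
  obtain ⟨g, hg, hge, hgv⟩ := exists_Lev_el hF h (Units.ne_zero (detGU G)) G (by ring)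
  exact ⟨g, hg, hge, fun v => by rw [lact, hgv, tail2_jV]⟩

/-- The points of the standard hyperbolic line are fixed by the Levi subgroup. -/
theorem Lev_smul_comb {g : SU (m + 2) F 2} (hg : g ∈ Lev (q := 2) e f) :
    ∃ a : F, a ≠ 0 ∧ g • e = a • e ∧ g • f = a • f ∧ ∀ v, g • jV m v = jV m (lact g v) := by
  obtain ⟨a, ha, hge, hgf, hj⟩ := Lev_data hF h hg
  exact ⟨a, ha, hge, by rw [hgf, inv_sq_four hF ha], hj⟩

/-- The cube of an element of the Levi subgroup lies in `SU_m`. -/
theorem cube_mem_jG {g : SU (m + 2) F 2} (hg : g ∈ Lev (q := 2) e f) :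
    ∃ g₀ : SU m F 2, g ^ 3 = jG m g₀ := by
  obtain ⟨a, ha, hge, hgf, -⟩ := Lev_smul_comb hF h hg
  refine exists_jG_eq' hF h ?_ ?_
  all_goals
    rw [pow_succ, pow_succ, pow_one, mul_smul, mul_smul]
  · rw [hge, smul_comm g a, hge, smul_comm g a, smul_comm g a, hge, smul_smul, smul_smul,
      show a * a * a = a ^ 3 by ring, cube_eq_one_four hF ha, one_smul]
  · rw [hgf, smul_comm g a, hgf, smul_comm g a, smul_comm g a, hgf, smul_smul, smul_smul,
      show a * a * a = a ^ 3 by ring, cube_eq_one_four hF ha, one_smul]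

end Four

/-- In dimension three every element of `GU` is realised by the twisted action. -/
theorem exists_tact_GU {F : Type*} [Field F] [Fintype F] (hF : Fintype.card F = 2 ^ 2)
    {e f : Fin (3 + 2) → F} (h : Std 2 e f) (G : GU 3 F 2) :
    ∃ g : SU (3 + 2) F 2, g ∈ Lev (q := 2) e f ∧ ∀ v, tact 2 e f g v = G • v := by
  set a : F := (detGU G : F) with ha
  have ha0 : a ≠ 0 := Units.ne_zero _
  obtain ⟨Z, hZ, hZd⟩ := exists_scalar_GU hF (n := 3) (r := a) (norm_four hF ha0)
  have hd : (detGU (Z * G) : F) = a := by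
    rw [map_mul, Units.val_mul, hZd, cube_eq_one_four hF ha0, one_mul]
  obtain ⟨g, hg, hge, hgv⟩ := exists_lact_GU hF h (Z * G)
  rw [hd] at hge
  refine ⟨g, hg, fun v => ?_⟩
  rw [tact_eq hF h hge, hgv, mul_smul, hZ, smul_smul, ← pow_succ,
    norm_four hF ha0, one_smul]

end Cfsg.Agent.MinIndexUN
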