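import Cfsg.Agent.MinIndexUN.TwoHom
import Cfsg.Agent.MinIndexUN.Complement
import Cfsg.Agent.MinIndexUN.Orbit

/-!
A complement of the radical over the field of four elements (helper10).
-/

set_option autoImplicit false

namespace Cfsg.Agent.MinIndexUN

open Matrix Cfsg.Agent.Unitary

section Lifts

variable {F : Type*} [Field F] [Fintype F] {q m : ℕ} (hF : Fintype.card F = q ^ 2)
variable {e f : Fin (m + 2) → F} (h : Std q e f) (H : Subgroup (SU (m + 2) F q))

/-- `w` is the translation part of a lift of `l`. -/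
def Lift (hF : Fintype.card F = q ^ 2) (h : Std q e f) (H : Subgroup (SU (m + 2) F q))
    (l : SU (m + 2) F q) (w : Fin m → F) : Prop :=
  ∃ (b : F) (hb : b + b ^ q = -herm q w w), Qg hF h w hb * l ∈ H

include hF h

theorem exists_Lift {l : SU (m + 2) F q} (hK : Lev e f ≤ Kbar hF h H) (hl : l ∈ Lev e f) :
    ∃ w, Lift hF h H l w := by
  obtain ⟨-, x, ⟨w, b, hb, rfl⟩, hx⟩ := hK hl
  exact ⟨w, b, hb, hx⟩

theorem Lift_unique (hQ : H ⊓ Qs hF h = ⊥) {l : SU (m + 2) F q} {w w' : Fin m → F}
    (h1 : Lift hF h H l w) (h2 : Lift hF h H l w') : w = w' := by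
  obtain ⟨b, hb, hm1⟩ := h1
  obtain ⟨b', hb', hm2⟩ := h2
  have hm : Qg hF h w hb * (Qg hF h w' hb')⁻¹ ∈ H ⊓ Qs hF h := by
    refine Subgroup.mem_inf.2 ⟨?_, mul_mem ⟨w, b, hb, rfl⟩ (inv_mem ⟨w', b', hb', rfl⟩)⟩
    have := mul_mem hm1 (inv_mem hm2)
    rwa [_root_.mul_inv_rev, mul_assoc, mul_inv_cancel_left] at this
  rw [hQ, Subgroup.mem_bot, mul_inv_eq_one] at hm
  exact (Qg_param hF h _ _ hm).1

theorem Lift_mul {l l' : SU (m + 2) F q} (hl : l ∈ Lev e f) {w w' : Fin m → F}
    (h1 : Lift hF h H l w) (h2 : Lift hF h H l' w') :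
    Lift hF h H (l * l') (w + tact q e f l w') := by
  obtain ⟨b, hb, hm1⟩ := h1
  obtain ⟨b', hb', hm2⟩ := h2
  obtain ⟨a, -, hle, -, -⟩ := Lev_data hF h hl
  have hm := mul_mem hm1 hm2
  rw [mul_assoc, ← mul_assoc l, Qg_move hF h hl hle, mul_assoc _ l, ← mul_assoc, Qg_mul] at hm
  rw [tact_eq hF h hle]
  exact ⟨_, _, hm⟩

theorem Lift_conj {l : SU (m + 2) F q} (hl : l ∈ Lev e f) {w u : Fin m → F} {b : F}
    (hb : b + b ^ q = -herm q u u) (h1 : Lift hF h H l w) :
    Lift hF h (conjH H (Qg hF h u hb)) l (u + w + tact q e f l (-u)) := by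
  obtain ⟨b', hb', hm'⟩ := h1
  obtain ⟨a, -, hle, -, -⟩ := Lev_data hF h hl
  have hm := conj_mem_conjH H (y := Qg hF h u hb) hm'
  rw [Qg_inv, ← mul_assoc, mul_assoc _ l, Qg_move hF h hl hle, ← mul_assoc, Qg_mul, Qg_mul] at hm
  rw [tact_eq hF h hle]
  exact ⟨_, _, hm⟩

/-- A lift commuting with a fixed point free element has no translation part. -/
theorem Lift_zero_of_comm (hQ : H ⊓ Qs hF h = ⊥) {t l : SU (m + 2) F q} (ht : t ∈ Lev e f)
    (hl : l ∈ Lev e f) (ht0 : Lift hF h H t 0) (hfree : ∀ v, tact q e f t v = v → v = 0)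
    (hcomm : l * t = t * l) {w : Fin m → F} (hw : Lift hF h H l w) : w = 0 := by
  have h1 := Lift_mul hF h H hl hw ht0
  have h2 := Lift_mul hF h H ht ht0 hw
  rw [hcomm, tact_zero hF h, add_zero] at h1
  rw [zero_add] at h2
  exact hfree w (Lift_unique hF h H hQ h2 h1)

end Lifts

section Four

variable {F : Type*} [Field F] [Fintype F] {m : ℕ} (hF : Fintype.card F = 2 ^ 2)

include hF

/-- Diagonal elements. -/
theorem exists_diag (μ : Fin m → F) (hμ : ∀ i, μ i ≠ 0) (hprod : ∏ i, μ i = 1) :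
    ∃ t : SU m F 2, ∀ x : Fin m → F, t • x = fun i => μ i * x i := by
  have hv : ∀ x : Fin m → F, Matrix.diagonal μ *ᵥ x = fun i => μ i * x i := fun x => by
    funext i; rw [Matrix.mulVec_diagonal]
  refine ⟨⟨⟨Matrix.diagonal μ, by rw [Matrix.det_diagonal, hprod]⟩, fun x y => ?_⟩, hv⟩
  show herm 2 (Matrix.diagonal μ *ᵥ x) (Matrix.diagonal μ *ᵥ y) = herm 2 x y
  rw [hv, hv, herm, hermForm, herm, hermForm]
  refine Finset.sum_congr rfl fun i _ => ?_
  linear_combination (x i * y i ^ 2) * cube_eq_one_four hF (hμ i)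

/-- The diagonal element attached to a set of coordinates. -/
theorem exists_diag_of {l : F} (hl0 : l ≠ 0) {k : ℕ} (h3 : 3 ∣ m + k)
    (P : Finset (Fin m)) (hP : Pᶜ.card = k) :
    ∃ t : SU m F 2, ∀ x : Fin m → F, t • x = fun i => (if i ∈ P then l else l ^ 2) * x i := by
  refine exists_diag hF _ (fun i => by split <;> [exact hl0; exact pow_ne_zero _ hl0]) ?_
  rw [Finset.prod_ite, Finset.prod_const, Finset.prod_const, ← pow_mul, ← pow_add]
  obtain ⟨r, hr⟩ := h3
  have e : (Finset.univ.filter (· ∈ P)).card + 2 * (Finset.univ.filter (· ∉ P)).card = 3 * r := by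
    have e1 : Finset.univ.filter (· ∈ P) = P := by ext; simp
    have e2 : Finset.univ.filter (· ∉ P) = Pᶜ := by ext; simp
    have := Finset.card_compl P
    have := Finset.card_le_univ P
    rw [Fintype.card_fin] at *
    rw [e1, e2]
    omega
  rw [e, pow_mul, cube_eq_one_four hF hl0, one_pow]

variable {e f : Fin (m + 2) → F} (h : Std 2 e f) (H : Subgroup (SU (m + 2) F 2))
include h

/-- After a conjugation every lift is central in the radical. -/
theorem exists_conj_central_two (hm : m = 3 ∨ 5 ≤ m) (hQ : H ⊓ Qs hF h = ⊥)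
    (hK : Lev e f ≤ Kbar hF h H) :
    ∃ y ∈ Qs hF h, ∀ l ∈ Lev (q := 2) e f,
      ∃ (b : F) (hb : b + b ^ 2 = 0), Qz hF h hb * l ∈ conjH H y := by
  classical
  obtain ⟨ω, hω0, hω1⟩ := exists_omega_four hF
  obtain ⟨k, hk2, h3⟩ : ∃ k, k ≤ 2 ∧ 3 ∣ m + k := ⟨2 * m % 3, by omega, by omega⟩
  obtain ⟨P0, -, hP0⟩ := Finset.exists_subset_card_eq (s := (Finset.univ : Finset (Fin m)))
    (n := k) (by rw [Finset.card_univ, Fintype.card_fin]; omega)
  obtain ⟨τ, hτ⟩ := exists_diag_of hF hω0 h3 P0ᶜ (by rw [compl_compl, hP0])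
  have hfree : ∀ {P : Finset (Fin m)} {t : SU m F 2},
      (∀ x : Fin m → F, t • x = fun i => (if i ∈ P then ω else ω ^ 2) * x i) →
      ∀ v, tact 2 e f (jG m t) v = v → v = 0 := by
    intro P t ht v hv
    rw [tact_jG hF h, ht] at hv
    funext i
    have hvi := congrFun hv i
    refine (mul_left_eq_self₀.1 hvi).resolve_left ?_
    split <;> [exact hω1; exact omega_sq_ne hF hω0 hω1]
  obtain ⟨wt, hwt⟩ := exists_Lift hF h H hK (jG_mem_Lev hF h τ)
  set u : Fin m → F := fun i => -wt i / (1 - if i ∈ P0ᶜ then ω else ω ^ 2) with hu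
  obtain ⟨b0, hb0⟩ := exists_trace_eq hF (t := -herm 2 u u)
    (by rw [neg_pow_q hF, herm_self_fixed hF])
  set y := Qg hF h u hb0 with hy
  have hyQ : y ∈ Qs hF h := ⟨_, _, _, rfl⟩
  refine ⟨y, hyQ, ?_⟩
  set H1 := conjH H y with hH1
  have hQ1 : H1 ⊓ Qs hF h = ⊥ := conjH_inf_Qs hF h H hyQ hQ
  have hlift : ∀ l ∈ Lev (q := 2) e f, ∃ w, Lift hF h H1 l w := fun l hl =>
    let ⟨w, hw⟩ := exists_Lift hF h H hK hl
    ⟨_, Lift_conj hF h H hl hb0 hw⟩
  have ht0 : Lift hF h H1 (jG m τ) 0 := by
    have h1 := Lift_conj hF h H (jG_mem_Lev hF h τ) hb0 hwt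
    convert h1 using 1
    rw [tact_jG hF h, hτ]
    funext i
    simp only [Pi.add_apply, Pi.neg_apply, Pi.zero_apply, hu]
    have hne : (1 : F) - (if i ∈ P0ᶜ then ω else ω ^ 2) ≠ 0 := by
      refine sub_ne_zero.2 (Ne.symm ?_)
      split <;> [exact hω1; exact omega_sq_ne hF hω0 hω1]
    generalize (if i ∈ P0ᶜ then ω else ω ^ 2) = μ at hne
    field_simp
    ring
  have hzero : ∀ l ∈ Lev (q := 2) e f, Lift hF h H1 l 0 := by
    intro l hl
    obtain ⟨w, hw⟩ := hlift l hl
    obtain ⟨a, ha, hle, hlf, hlj⟩ := Lev_smul_comb hF h hl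
    suffices h0 : w = 0 by rwa [h0] at hw
    rcases hm with rfl | hm5
    · -- the diagonal element is central
      obtain rfl : k = 0 := by omega
      have hτs : ∀ x : Fin 3 → F, τ • x = ω • x := fun x => by
        rw [hτ]
        funext i
        rw [Finset.card_eq_zero.1 hP0]
        simp
      refine Lift_zero_of_comm hF h H1 hQ1 (jG_mem_Lev hF h τ) hl ht0 (hfree hτ) ?_ hw
      refine h.ext hF ?_ ?_ fun v => ?_
      · rw [mul_smul, mul_smul, h.jG_e, hle, smul_comm _ a, h.jG_e]
      · rw [mul_smul, mul_smul, h.jG_f, hlf, smul_comm _ a, h.jG_f]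
      · rw [mul_smul, mul_smul, jG_smul_jV, hlj, hlj, jG_smul_jV, hτs, hτs, lact_smul hF h]
    -- the elements of `SU_m` without translation part
    have hmul : ∀ {g g' : SU m F 2}, Lift hF h H1 (jG m g) 0 → Lift hF h H1 (jG m g') 0 →
        Lift hF h H1 (jG m (g * g')) 0 := fun {g g'} hg hg' => by
      have := Lift_mul hF h H1 (jG_mem_Lev hF h g) hg hg'
      rwa [tact_zero hF h, add_zero, ← map_mul] at this
    have hone : Lift hF h H1 (jG m (1 : SU m F 2)) 0 :=
      ⟨0, by simp [zero_pow_q hF], by rw [Qg_one, map_one, one_mul]; exact one_mem _⟩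
    have hinv : ∀ {g : SU m F 2}, Lift hF h H1 (jG m g) 0 → Lift hF h H1 (jG m g⁻¹) 0 := by
      intro g hg
      obtain ⟨w', hw'⟩ := hlift _ (jG_mem_Lev hF h g⁻¹)
      have := Lift_mul hF h H1 (jG_mem_Lev hF h g) hg hw'
      rw [← map_mul, mul_inv_cancel, zero_add, tact_jG hF h] at this
      have h0 := Lift_unique hF h H1 hQ1 this hone
      rw [smul_eq_zero_iff_eq] at h0
      rwa [h0] at hw'
    let L0 : Subgroup (SU m F 2) :=
      { carrier := {g | Lift hF h H1 (jG m g) 0}
        one_mem' := hone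
        mul_mem' := fun hg hg' => hmul hg hg'
        inv_mem' := fun hg => hinv hg }
    have hblock : ∀ P : Finset (Fin m), Pᶜ.card = k → fixS Pᶜ ≤ L0 := by
      intro P hP g hg
      obtain ⟨t, ht⟩ := exists_diag_of hF hω0 h3 P hP
      have htL0 : Lift hF h H1 (jG m t) 0 := by
        obtain ⟨wt', hwt'⟩ := hlift _ (jG_mem_Lev hF h t)
        have hc : jG m t * jG m τ = jG m τ * jG m t := by
          rw [← map_mul, ← map_mul]
          refine congrArg _ (eq_of_smul_eq_SU fun x => ?_)
          rw [mul_smul, mul_smul, hτ, ht, ht, hτ]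
          funext i
          ring
        obtain rfl := Lift_zero_of_comm hF h H1 hQ1 (jG_mem_Lev hF h τ) (jG_mem_Lev hF h t) ht0
          (hfree hτ) hc hwt'
        exact hwt'
      obtain ⟨wg, hwg⟩ := hlift _ (jG_mem_Lev hF h g)
      have hc : jG m g * jG m t = jG m t * jG m g := by
        rw [← map_mul, ← map_mul]
        refine congrArg _ (eq_of_smul_eq_SU fun x => ?_)
        set xP : Fin m → F := fun i => if i ∈ P then x i else 0 with hxP
        have hxsupp : xP ∈ supp Pᶜ := fun i hi => by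
          rw [Finset.mem_compl] at hi
          simp [hxP, hi]
        have hsplit : ∀ z : Fin m → F, t • z = ω ^ 2 • z + (ω - ω ^ 2) • (fun i =>
            if i ∈ P then z i else 0) := fun z => by
          rw [ht]
          funext i
          by_cases hi : i ∈ P <;> simp [hi] <;> ring
        have hgP : ∀ i, i ∉ P → (g • xP) i = 0 := fun i hi =>
          smul_mem_supp_SU hF hg hxsupp i (by simpa using hi)
        have hgrest : ∀ i, (g • (x - xP)) i = (x - xP) i := by
          have : g • (x - xP) = x - xP := by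
            rw [eq_sum_eI (x - xP), Finset.smul_sum]
            refine Finset.sum_congr rfl fun i _ => ?_
            by_cases hi : i ∈ P
            · simp [hxP, hi]
            · rw [smul_comm g, mem_fixS.1 hg i (by simpa using hi)]
          exact fun i => congrFun this i
        rw [mul_smul, mul_smul, hsplit x, hsplit (g • x), smul_add, smul_comm g, smul_comm g]
        congr 2
        funext i
        have hgx : (g • x) i = (g • xP) i + (x - xP) i := by
          rw [← hgrest i, ← Pi.add_apply, ← smul_add, add_sub_cancel]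
        show (g • xP) i = if i ∈ P then (g • x) i else 0
        by_cases hi : i ∈ P
        · rw [if_pos hi, hgx]
          simp [hxP, hi]
        · rw [if_neg hi, hgP i hi]
      obtain rfl := Lift_zero_of_comm hF h H1 hQ1 (jG_mem_Lev hF h t) (jG_mem_Lev hF h g) htL0
        (hfree ht) hc hwg
      exact hwg
    have htop : L0 = ⊤ := by
      rw [eq_top_iff, ← tvGroup_empty hF (n := m) (by omega), tvGroup, Subgroup.closure_le]
      rintro _ ⟨z, c, hz, hc, -, rfl⟩
      have hsmall : ∀ (z : Fin m → F) (hz : herm 2 z z = 0) (T : Finset (Fin m)),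
          T.card + k ≤ m → z ∈ supp Tᶜ → tv hF hz hc ∈ L0 := by
        intro z hz T hT hzT
        obtain ⟨P, hTP, -, hPc⟩ := Finset.exists_subsuperset_card_eq (Finset.subset_univ T)
          (n := m - k) (by omega) (by rw [Finset.card_univ, Fintype.card_fin]; omega)
        refine hblock P ?_ (tv_mem_fixS hF hz hc (supp_anti (Finset.compl_subset_compl.2 hTP) hzT))
        rw [Finset.card_compl, Fintype.card_fin, hPc]
        omega
      set P := P0ᶜ with hP
      have hPc : Pᶜ.card = k := by rw [hP, compl_compl, hP0]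
      have hPcard : P.card = m - k := by
        rw [hP, Finset.card_compl, Fintype.card_fin, hP0]
      have h4P : 4 ≤ Pᶜᶜ.card := by
        rw [compl_compl]
        obtain rfl | rfl | rfl : k = 0 ∨ k = 1 ∨ k = 2 := by omega
        all_goals omega
      set zP : Fin m → F := fun i => if i ∈ P then z i else 0 with hzP
      have hzPs : zP ∈ supp Pᶜ := fun i hi => by
        rw [Finset.mem_compl] at hi
        simp [hzP, hi]
      have hrest : z - zP ∈ supp P := fun i hi => by simp [hzP, hi]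
      by_cases hP0' : zP = 0
      · refine hsmall z hz Pᶜ (by omega) ?_
        rw [compl_compl]
        simpa [hP0'] using hrest
      -- move the projection to two coordinates
      obtain ⟨i, j, -, hiP, hjP, -, hij, -, -⟩ := exists_three (S := Pᶜ) (by omega)
      obtain ⟨g, hgL, hgs⟩ : ∃ g ∈ fixS (q := 2) Pᶜ, g • zP ∈ supp ({i, j}ᶜ : Finset (Fin m)) := by
        by_cases hN : herm 2 zP zP = 0
        · obtain ⟨u0, v0, hu0, -, hu00, -, huv0⟩ := exists_std_pair hF hij
          have hsub : supp ({i, j}ᶜ) ≤ (supp Pᶜ : Submodule F (Fin m → F)) := supp_anti (by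
            intro r hr
            simp only [Finset.mem_compl, Finset.mem_insert, Finset.mem_singleton]
            rintro (rfl | rfl) <;> contradiction)
          obtain ⟨g, hg, hge⟩ := exists_move hF (S := Pᶜ) (by omega) hzPs (hsub hu0) hN hu00 hP0'
            (ne_zero_of_herm_one hF huv0)
          exact ⟨g, tvGroup_le_fixS hF hg, hge ▸ hu0⟩
        · obtain ⟨g, hg, hge⟩ := exists_move_norm_one hF (S := Pᶜ) (by omega) (Or.inl h4P) hzPs
            (eI_mem_supp hiP) (norm_value hF hN) (by rw [herm_eI_eI hF, if_pos rfl])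
          exact ⟨g, tvGroup_le_fixS hF hg, hge ▸ eI_mem_supp (by simp)⟩
      have hrfix : g • (z - zP) = z - zP := by
        rw [eq_sum_eI (z - zP), Finset.smul_sum]
        refine Finset.sum_congr rfl fun r _ => ?_
        by_cases hr : r ∈ P
        · rw [hrest r hr, zero_smul, smul_zero]
        · rw [smul_comm g, mem_fixS.1 hgL r (by simpa using hr)]
      have hgz : g • z ∈ supp (Pᶜ ∪ {i, j})ᶜ := by
        rw [show g • z = g • zP + (z - zP) by rw [← hrfix, ← smul_add, add_sub_cancel]]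
        refine add_mem (supp_anti ?_ hgs) (supp_anti ?_ hrest) <;>
          intro r hr <;> simp at hr ⊢ <;> tauto
      have hcard : (Pᶜ ∪ {i, j}).card + k ≤ m := by
        have h1 : (Pᶜ ∪ {i, j}).card ≤ Pᶜ.card + ({i, j} : Finset (Fin m)).card :=
          Finset.card_union_le _ _
        have h2 : ({i, j} : Finset (Fin m)).card ≤ 2 := Finset.card_le_two
        omega
      have hmem := hsmall (g • z) ((herm_smul_SU g z z).trans hz) _ hcard hgz
      have hgL0 : g ∈ L0 := hblock P hPc hgL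
      rw [← conj_tv hF g hz hc] at hmem
      have := mul_mem (mul_mem (inv_mem hgL0) hmem) hgL0
      simpa [mul_assoc] using this
    have hall : ∀ g : SU m F 2, Lift hF h H1 (jG m g) 0 := fun g => by
      have : g ∈ L0 := htop ▸ Subgroup.mem_top g
      exact this
    refine eq_zero_of_orth_isotropic hF (by omega) fun z hz => ?_
    obtain ⟨c, hc0, hc⟩ := exists_trace_zero_ne_zero hF
    set g' := tv hF hz hc
    have hg : l⁻¹ * jG m g' * l ∈ Lev (q := 2) e f :=
      mul_mem (mul_mem (inv_mem hl) (jG_mem_Lev hF h g')) hl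
    obtain ⟨g, hgeq⟩ := exists_jG_eq' hF h (g := l⁻¹ * jG m g' * l)
      (by rw [mul_smul, mul_smul, hle, smul_comm _ a, h.jG_e, ← hle, inv_smul_smul])
      (by rw [mul_smul, mul_smul, hlf, smul_comm _ a, h.jG_f, ← hlf, inv_smul_smul])
    have h1 := Lift_mul hF h H1 hl hw (hall g)
    have h2 := Lift_mul hF h H1 (jG_mem_Lev hF h g') (hall g') hw
    rw [tact_zero hF h, add_zero, ← hgeq, show l * (l⁻¹ * jG m g' * l) = jG m g' * l by group] at h1
    rw [zero_add, tact_jG hF h] at h2
    have h4 := Lift_unique hF h H1 hQ1 h2 h1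
    rw [tv_smul, add_eq_left, smul_eq_zero] at h4
    rcases h4 with h4 | h4
    · exact (mul_eq_zero.1 h4).resolve_left hc0
    · rw [h4, herm_zero_right hF]
  intro l hl
  obtain ⟨b, hb, hbl⟩ := hzero l hl
  exact exists_Qz_of hF h H1 (hb := hb) rfl hbl

/-- A complement contains, up to conjugation, the whole Levi subgroup. -/
theorem exists_conj_Lev_le_two (hm : m = 3 ∨ 5 ≤ m) (hQ : H ⊓ Qs hF h = ⊥)
    (hK : Lev e f ≤ Kbar hF h H) :
    ∃ H' : Subgroup (SU (m + 2) F 2),
      H'.index = H.index ∧ H' ⊓ Qs hF h = ⊥ ∧ Lev e f ≤ H' := by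
  obtain ⟨y, hy, hcen⟩ := exists_conj_central_two hF h H hm hQ hK
  set H1 := conjH H y with hH1
  have hQ1 : H1 ⊓ Qs hF h = ⊥ := conjH_inf_Qs hF h H hy hQ
  refine ⟨H1, index_conjH hF H y, hQ1, ?_⟩
  choose β hβ hβH using hcen
  have hadd : ∀ (l l' : SU (m + 2) F 2) (hl : l ∈ Lev (q := 2) e f) (hl' : l' ∈ Lev (q := 2) e f),
      β (l * l') (mul_mem hl hl') = β l hl + β l' hl' := by
    intro l l' hl hl'
    obtain ⟨a, ha, hle, -, -⟩ := Lev_smul_comb hF h hl
    have := mul_mem (hβH l hl) (hβH l' hl')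
    rw [mul_assoc, ← mul_assoc l, Qz_move hF h hl hle, mul_assoc _ l,
      ← mul_assoc (Qz hF h (hβ l hl)), Qz_mul] at this
    rw [Qz_eq_of_mem hF h H1 hQ1 (hβ _ _) _ (hβH _ _) this, norm_four hF ha, one_mul]
  set ψ : SU m F 2 → F := fun g => β (jG m g) (jG_mem_Lev hF h g) with hψ
  have hψadd : ∀ g g', ψ (g * g') = ψ g + ψ g' := fun g g' => by
    simp only [hψ, map_mul]
    exact hadd _ _ _ _
  have hψ0 : ∀ g, ψ g = 0 := by
    rcases hm with rfl | hm5
    · refine hom_SU3_two hF ψ hψadd fun G g g' hgg => ?_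
      obtain ⟨l, hl, hle, hlv⟩ := exists_lact_GU hF h G
      obtain ⟨a, -, hle', hlf, hlj⟩ := Lev_smul_comb hF h hl
      have hc : l * jG 3 g = jG 3 g' * l := by
        refine h.ext hF ?_ ?_ fun v => ?_
        · rw [mul_smul, mul_smul, h.jG_e, hle', smul_comm _ a, h.jG_e]
        · rw [mul_smul, mul_smul, h.jG_f, hlf, smul_comm _ a, h.jG_f]
        · rw [mul_smul, mul_smul, jG_smul_jV, hlj, hlj, jG_smul_jV, hlv, hlv, hgg]
      have e1 := hadd l (jG 3 g) hl (jG_mem_Lev hF h g)
      have e2 := hadd (jG 3 g') l (jG_mem_Lev hF h g') hl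
      have e3 : β (l * jG 3 g) (mul_mem hl (jG_mem_Lev hF h g)) =
          β (jG 3 g' * l) (mul_mem (jG_mem_Lev hF h g') hl) := by
        simp only [hc]
      rw [e1, e2, add_comm] at e3
      exact (add_right_cancel e3).symm
    · let χ : SU m F 2 →* Multiplicative F :=
        { toFun := fun g => Multiplicative.ofAdd (ψ g)
          map_one' := by
            have := hψadd 1 1
            rw [mul_one] at this
            rw [show ψ 1 = 0 by linear_combination -this]; rfl
          map_mul' := fun g g' => by rw [hψadd]; rfl }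
      intro g
      have hker : commutator (SU m F 2) ≤ χ.ker := Abelianization.commutator_subset_ker χ
      rw [commutator_SU_eq_top hF (by omega) (by omega)] at hker
      exact congrArg Multiplicative.toAdd (hker (Subgroup.mem_top g))
  intro l hl
  obtain ⟨g₀, hg₀⟩ := cube_mem_jG hF h hl
  have hl3 : β (l * l * l) (mul_mem (mul_mem hl hl) hl) = 0 := by
    rw [← hψ0 g₀]
    simp only [hψ, ← hg₀, pow_succ, pow_zero, one_mul]
  rw [hadd _ _ (mul_mem hl hl) hl, hadd _ _ hl hl] at hl3
  have hb : β l hl = 0 := by linear_combination hl3 - β l hl * char_two_four hF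
  have := hβH l hl
  rwa [Qz_congr hF h (hβ l hl) (b' := 0) (by simp [zero_pow_q hF]) hb, Qz_zero, one_mul] at this

end Four

end Cfsg.Agent.MinIndexUN
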