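import Cfsg.Agent.MinIndexUN.TwoBasic
import Cfsg.Agent.MinIndexUN.CaseA

/-!
The endgame over the field of four elements: a subgroup with point stabiliser exactly the Levi
subgroup is not of small index (helper10).
-/

set_option autoImplicit false

namespace Cfsg.Agent.MinIndexUN

open Matrix Cfsg.Agent.Unitary MulAction

variable {F : Type*} [Field F] [Fintype F] {m : ℕ}

/-- The stabilisers in `H` of the three points of the hyperbolic line are the Levi subgroup. -/
structure Core (e f : Fin (m + 2) → F) (H : Subgroup (SU (m + 2) F 2)) : Prop where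
  lev : Lev e f ≤ H
  se : ∀ g ∈ H, g ∈ Est e → g ∈ Lev e f
  sf : ∀ g ∈ H, g ∈ Est f → g ∈ Lev e f
  su : ∀ g ∈ H, g ∈ Est (e + f) → g ∈ Lev e f

/-- `r` is in the image of the line. -/
def InPl (e f : Fin (m + 2) → F) (g : SU (m + 2) F 2) (r : Fin (m + 2) → F) : Prop :=
  ∃ a b : F, r = a • (g • e) + b • (g • f)

theorem Core.symm {e f : Fin (m + 2) → F} {H : Subgroup (SU (m + 2) F 2)} (c : Core e f H) :
    Core f e H where
  lev := fun _ hl => c.lev ⟨hl.2, hl.1⟩
  se := fun g hg hgf => let hh := c.sf g hg hgf; ⟨hh.2, hh.1⟩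
  sf := fun g hg hge => let hh := c.se g hg hge; ⟨hh.2, hh.1⟩
  su := fun g hg hgu => let hh := c.su g hg (by rwa [add_comm f e] at hgu); ⟨hh.2, hh.1⟩

variable (hF : Fintype.card F = 2 ^ 2) {e f : Fin (m + 2) → F} (h : Std 2 e f)
variable {H : Subgroup (SU (m + 2) F 2)} (c : Core e f H)

include hF h

theorem exists_fix_move (hm : 2 ≤ m) {w : Fin m → F} (hw0 : w ≠ 0) : ∃ g : SU m F 2, g • w ≠ w := by
  obtain ⟨u, hu, hwu⟩ : ∃ u : Fin m → F, herm 2 u u = 0 ∧ herm 2 w u ≠ 0 := by
    by_contra! hall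
    exact hw0 (eq_zero_of_orth_isotropic hF hm hall)
  obtain ⟨cc, hc0, hc⟩ := exists_trace_zero_ne_zero hF
  refine ⟨tv hF hu hc, fun e0 => ?_⟩
  rw [tv_smul, add_eq_left, smul_eq_zero] at e0
  rcases e0 with e0 | e0
  · exact hwu ((mul_eq_zero.1 e0).resolve_left hc0)
  · exact hwu (by rw [e0, herm_zero_right hF])

include c

/-- An element of the Levi subgroup fixing the image of `e` fixes the image of the line. -/
theorem plane_fix {g l : SU (m + 2) F 2} (hg : g ∈ H) (hl : l ∈ Lev e f) {lam s : F}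
    {x : Fin (m + 2) → F} (hs : s ≠ 0) (hge : g • e = lam • x) (hlx : l • x = s • x) :
    l • (g • f) = s • (g • f) := by
  have hk : (g⁻¹ * l * g) • e = s • e := by
    rw [mul_smul, mul_smul, inv_smul_eq_iff, smul_comm g, hge, smul_comm l, hlx, smul_comm]
  have hkL := c.se _ (mul_mem (mul_mem (inv_mem hg) (c.lev hl)) hg) ⟨s, hs, hk⟩
  obtain ⟨a, -, ha, haf, -⟩ := Lev_smul_comb hF h hkL
  obtain rfl : a = s := smul_left_injective F (h.e_ne hF) (ha.symm.trans hk)
  rwa [mul_smul, mul_smul, inv_smul_eq_iff, smul_comm g] at haf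

/-- An element fixing `w` fixes the projection of the image of `f`. -/
theorem proj_fix {g : SU (m + 2) F 2} (hg : g ∈ H) {lam α β γ δ : F} {v w : Fin m → F}
    (hge : g • e = lam • (α • e + β • f + jV m w)) (hgf : g • f = lam • (γ • e + δ • f + jV m v))
    (hlam : lam ≠ 0) {g0 : SU m F 2} (hw : g0 • w = w) : g0 • v = v := by
  have hx : jG m g0 • (α • e + β • f + jV m w) = (1 : F) • (α • e + β • f + jV m w) := by
    rw [smul_add, smul_add, smul_comm _ α, smul_comm _ β, h.jG_e, h.jG_f, jG_smul_jV, hw, one_smul]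
  have h1 := plane_fix hF h c hg (jG_mem_Lev hF h g0) one_ne_zero hge hx
  rw [one_smul, hgf, smul_comm _ lam] at h1
  have h2 := smul_right_injective _ hlam h1
  rw [smul_add, smul_add, smul_comm _ γ, smul_comm _ δ, h.jG_e, h.jG_f, jG_smul_jV] at h2
  exact (eq_of_std hF h h2).2.2

/-- `e` is not moved into the orthogonal space of the line. -/
theorem not_move_to_perp {g : SU (m + 2) F 2} (hg : g ∈ H) {lam : F} (hlam : lam ≠ 0)
    {w : Fin m → F} (hw : herm 2 w w = 0) (hw0 : w ≠ 0) : g • e ≠ lam • jV m w := by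
  intro hge
  obtain ⟨γ, δ, v, hy⟩ : ∃ γ δ v, lam⁻¹ • (g • f) = γ • e + δ • f + jV m v :=
    ⟨_, _, _, h.decomp hF _⟩
  have hgf : g • f = lam • (γ • e + δ • f + jV m v) := by rw [← hy, smul_inv_smul₀ hlam]
  have hge' : g • e = lam • ((0 : F) • e + (0 : F) • f + jV m w) := by rw [hge]; module
  obtain ⟨cc, hc0, hc⟩ := exists_trace_zero_ne_zero hF
  have hv := proj_fix hF h c hg hge' hgf hlam (g0 := tv hF hw hc)
    (by rw [tv_smul, hw, mul_zero, zero_smul, add_zero])
  rw [tv_smul, add_eq_left, smul_eq_zero] at hv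
  have hvw : herm 2 v w = 0 := (mul_eq_zero.1 (hv.resolve_right hw0)).resolve_left hc0
  have h1 := herm_smul_SU g f e
  rw [hge', hgf, herm_smul_left, herm_smul_right hF, herm_std hF h, h.fe hF, hvw] at h1
  simp [zero_pow_q hF] at h1

/-- The image of the line when `e` is moved onto `e + w`. -/
theorem sum_move (hm : 2 ≤ m) {g : SU (m + 2) F 2} (hg : g ∈ H) {lam : F} (hlam : lam ≠ 0)
    {w : Fin m → F} (hw : herm 2 w w = 0) (hw0 : w ≠ 0) (hge : g • e = lam • (e + jV m w)) :
    ∃ α γ : F, (α = 0 ∨ α = 1) ∧ γ ≠ 0 ∧ γ ≠ 1 ∧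
      g • f = lam • (α • e + f + γ • jV m w) := by
  obtain ⟨α, β, v, hy⟩ : ∃ α β v, lam⁻¹ • (g • f) = α • e + β • f + jV m v :=
    ⟨_, _, _, h.decomp hF _⟩
  have hgf : g • f = lam • (α • e + β • f + jV m v) := by rw [← hy, smul_inv_smul₀ hlam]
  have hge' : g • e = lam • ((1 : F) • e + (0 : F) • f + jV m w) := by rw [hge]; module
  have hfix := fun g0 : SU m F 2 => proj_fix hF h c hg hge' hgf hlam (g0 := g0)
  obtain ⟨cc, hc0, hc⟩ := exists_trace_zero_ne_zero hF
  have hvw : herm 2 v w = 0 := by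
    have hv := hfix (tv hF hw hc) (by rw [tv_smul, hw, mul_zero, zero_smul, add_zero])
    rw [tv_smul, add_eq_left, smul_eq_zero] at hv
    exact (mul_eq_zero.1 (hv.resolve_right hw0)).resolve_left hc0
  have hvr : ∀ r : Fin m → F, herm 2 r w = 0 → herm 2 v r = 0 := by
    intro r hr
    obtain ⟨b, hb⟩ := exists_trace_eq hF (t := -herm 2 r r)
      (by rw [neg_pow_q hF, herm_self_fixed hF])
    have hwr : herm 2 w r = 0 := (herm_eq_zero_comm hF).1 hr
    have h1 := hfix (Qel hF hw hr hb) (by rw [Qel_smul, hw, hwr]; simp)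
    rw [Qel_smul, hvw] at h1
    simpa [hw0] using h1
  obtain ⟨w', -, -, hww'⟩ := exists_partner hF (S := (∅ : Finset (Fin m))) (u := w)
    (by simp [supp_empty]) hw hw0
  set γ := herm 2 v w' with hγ
  have hvγ : v = γ • w := by
    refine sub_eq_zero.1 (eq_zero_of_herm hF fun z => ?_)
    have hz : herm 2 (z - herm 2 z w • w') w = 0 := by
      rw [herm_sub_left, herm_smul_left, herm_one_swap hF hww', mul_one, sub_self]
    have h2 := hvr _ hz
    rw [herm_sub_right hF, herm_smul_right hF, ← hγ, ← herm_swap hF z w] at h2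
    rw [herm_sub_left, herm_smul_left]
    linear_combination h2
  have h1 := herm_smul_SU g f e
  rw [hge', hgf, herm_smul_left, herm_smul_right hF, herm_std hF h, h.fe hF, hvw] at h1
  have hβ : β = 1 := by
    linear_combination h1 - β * cube_eq_one_four hF hlam
  subst hβ
  have h2 := herm_smul_SU g f f
  rw [hgf, herm_smul_left, herm_smul_right hF, herm_std hF h, h.ff, hvγ, herm_smul_left,
    herm_smul_right hF, hw] at h2
  have hα : α = 0 ∨ α = 1 := by
    refine fixed_cases hF ?_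
    linear_combination h2 - (α + α ^ 2) * cube_eq_one_four hF hlam - α * char_two_four hF
  -- the points `f` and `e + f` of the line are not images
  have hno : ∀ z : Fin (m + 2) → F, (∀ g ∈ H, g ∈ Est z → g ∈ Lev e f) →
      (∀ l ∈ Lev (q := 2) e f, ∀ a : F, l • e = a • e → l • f = a • f → l • z = a • z) →
      ∀ μ κ : F, g • z ≠ lam • (μ • e + κ • f) := by
    intro z hz hLz μ κ he'
    obtain ⟨g0, hg0⟩ := exists_fix_move hF h hm hw0
    obtain ⟨a, ha, hle, hlf, -⟩ := Lev_smul_comb hF h (jG_mem_Lev hF h g0)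
    have hk : (g⁻¹ * jG m g0 * g) • z = a • z := by
      rw [mul_smul, mul_smul, inv_smul_eq_iff, smul_comm g, he', smul_comm (jG m g0), smul_add,
        smul_comm (jG m g0), smul_comm (jG m g0), hle, hlf, smul_comm a lam]
      module
    have hkL := hz _ (mul_mem (mul_mem (inv_mem hg) (c.lev (jG_mem_Lev hF h g0))) hg) ⟨a, ha, hk⟩
    obtain ⟨⟨s, hs, hse⟩, -⟩ := hkL
    have hlx : jG m g0 • ((1 : F) • e + (0 : F) • f + jV m w) =
        (1 : F) • e + (0 : F) • f + jV m (g0 • w) := by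
      rw [smul_add, smul_add, smul_comm _ (1 : F), smul_comm _ (0 : F), h.jG_e, h.jG_f, jG_smul_jV]
    rw [mul_smul, mul_smul, inv_smul_eq_iff, smul_comm g, hge', smul_comm (jG m g0), hlx,
      smul_comm s lam] at hse
    have h3 := smul_right_injective _ hlam hse
    rw [smul_add, smul_add, smul_smul, smul_smul, mul_one, mul_zero, ← map_smul] at h3
    obtain ⟨e1, -, e3⟩ := eq_of_std hF h h3
    exact hg0 (by rw [e3, ← e1, one_smul])
  refine ⟨α, γ, hα, ?_, ?_, by rw [hgf, hvγ, map_smul, one_smul]⟩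
  · intro hγ0
    refine hno f c.sf (fun l _ a _ hlf => hlf) α 1 ?_
    rw [hgf, hvγ, hγ0, zero_smul, map_zero, add_zero]
  · intro hγ1
    refine hno (e + f) c.su (fun l _ a hle hlf => by rw [smul_add, hle, hlf, smul_add]) (1 + α) 1 ?_
    rw [smul_add, hge', hgf, hvγ, hγ1, map_smul]
    linear_combination (norm := module) (char_two_four hF) • (lam • jV m w)

/-- The distinguished vector of the intersection of the line with its image. -/
theorem plane_data (hm : 2 ≤ m) {g : SU (m + 2) F 2} (hg : g ∈ H) {lam : F} (hlam : lam ≠ 0)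
    {w : Fin m → F} (hw : herm 2 w w = 0) (hw0 : w ≠ 0) (hge : g • e = lam • (e + jV m w)) :
    ∃ ρ : F, ρ ≠ 0 ∧ ρ ≠ 1 ∧ InPl e f g (ρ • e + f) ∧
      ∀ a b s t : F, s • e + t • f = a • (g • e) + b • (g • f) → s = t * ρ := by
  obtain ⟨α, γ, hα, hγ0, hγ1, hgf⟩ := sum_move hF h c hm hg hlam hw hw0 hge
  refine ⟨α + γ, ?_, ?_, ⟨γ * lam⁻¹, lam⁻¹, ?_⟩, fun a b s t he' => ?_⟩
  · rcases hα with rfl | rfl
    · rwa [zero_add]
    · exact fun e0 => hγ1 (by linear_combination e0 - char_two_four hF)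
  · rcases hα with rfl | rfl
    · rwa [zero_add]
    · exact fun e0 => hγ0 (by linear_combination e0)
  · rw [hge, hgf, smul_smul, smul_smul, mul_assoc, inv_mul_cancel₀ hlam, mul_one, one_smul]
    linear_combination (norm := module) (-char_two_four hF) • (γ • jV m w)
  · rw [hge, hgf] at he'
    have h1 : s • e + t • f + jV m 0 =
        (lam * (a + b * α)) • e + (lam * b) • f + jV m ((lam * (a + b * γ)) • w) := by
      rw [map_zero, add_zero, he', map_smul]; module
    obtain ⟨rfl, rfl, e3⟩ := eq_of_std hF h h1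
    have h0 : a + b * γ = 0 :=
      (mul_eq_zero.1 ((smul_eq_zero.1 e3.symm).resolve_right hw0)).resolve_left hlam
    linear_combination lam * h0 - (lam * b * γ) * char_two_four hF

/-- The distinguished vector does not depend on the element. -/
theorem plane_transfer (hm : 3 ≤ m) {g g' : SU (m + 2) F 2} (hg : g ∈ H) (hg' : g' ∈ H)
    {lam lam' : F} (hlam : lam ≠ 0) (hlam' : lam' ≠ 0) {w w' : Fin m → F}
    (hw : herm 2 w w = 0) (hw' : herm 2 w' w' = 0) (hw0 : w ≠ 0) (hw0' : w' ≠ 0)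
    (hge : g • e = lam • (e + jV m w)) (hge' : g' • e = lam' • (e + jV m w')) {ρ : F}
    (hr : InPl e f g (ρ • e + f)) : InPl e f g' (ρ • e + f) := by
  obtain ⟨g0, hg0⟩ := exists_move_iso hF hm hw hw' hw0 hw0'
  set l := jG m g0 with hl
  have hlr : l • (ρ • e + f) = ρ • e + f := by rw [smul_add, smul_comm l, h.jG_e, h.jG_f]
  have hk : (g'⁻¹ * l * g) • e = (lam / lam') • e := by
    rw [mul_smul, mul_smul, inv_smul_eq_iff, smul_comm g', hge, hge', smul_comm l, smul_add,
      h.jG_e, jG_smul_jV, hg0, smul_smul, div_mul_cancel₀ _ hlam']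
  have hkL := c.se _ (mul_mem (mul_mem (inv_mem hg') (c.lev (jG_mem_Lev hF h g0))) hg)
    ⟨_, div_ne_zero hlam hlam', hk⟩
  obtain ⟨s, -, hse, hsf, -⟩ := Lev_smul_comb hF h hkL
  obtain ⟨a, b, hab⟩ := hr
  refine ⟨a * s, b * s, ?_⟩
  rw [← hlr, hab, smul_add, smul_comm l a, smul_comm l b]
  rw [mul_smul, mul_smul, inv_smul_eq_iff, smul_comm g'] at hse hsf
  rw [hse, hsf, smul_smul, smul_smul]

/-- An image of `e` orthogonal to `e` is of the form `e + w`. -/
theorem orth_cases {k : SU (m + 2) F 2} (hk : k ∈ H) (horth : herm 2 (k • e) e = 0)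
    (hne : k ∉ Est e) :
    ∃ (A : F) (v : Fin m → F), A ≠ 0 ∧ herm 2 v v = 0 ∧ v ≠ 0 ∧ k • e = A • (e + jV m v) := by
  have hd := h.decomp hF (k • e)
  rw [horth, zero_smul, add_zero] at hd
  set A := herm 2 (k • e) f
  set v := tail2 (k • e)
  have hd' : k • e = A • e + (0 : F) • f + jV m v := by rw [zero_smul, add_zero]; exact hd
  have hvv : herm 2 v v = 0 := by
    have h1 := herm_smul_SU k e e
    rw [hd', herm_std hF h, h.ee] at h1
    simpa [zero_pow_q hF] using h1
  have hke0 : k • e ≠ 0 := (smul_ne_zero_iff_ne k).2 (h.e_ne hF)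
  by_cases hv : v = 0
  · refine absurd ⟨A, fun hA => hke0 ?_, ?_⟩ hne
    · rw [hd, hA, hv, map_zero, zero_smul, add_zero]
    · rw [hd, hv, map_zero, add_zero]
  by_cases hA : A = 0
  · refine absurd ?_ (not_move_to_perp hF h c hk one_ne_zero hvv hv)
    rw [hd, hA, zero_smul, zero_add, one_smul]
  refine ⟨A, A⁻¹ • v, hA, ?_, smul_ne_zero (inv_ne_zero hA) hv, ?_⟩
  · rw [herm_smul_left, herm_smul_right hF, hvv, mul_zero, mul_zero]
  · rw [hd, smul_add, map_smul, smul_inv_smul₀ hA]

/-- The final contradiction. -/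
theorem core_false (hm : 3 ≤ m) {g g' : SU (m + 2) F 2} (hg : g ∈ H) {lam : F} (hlam : lam ≠ 0)
    {w : Fin m → F} (hw : herm 2 w w = 0) (hw0 : w ≠ 0) (hge : g • e = lam • (e + jV m w))
    {ρ : F} (hρ0 : ρ ≠ 0) (hρ1 : ρ ≠ 1) (hr : InPl e f g (ρ • e + f)) (hg' : g' ∈ H) {mu : F}
    {v : Fin m → F} (hvw : herm 2 w v = 1)
    (hge' : g' • e = mu • (ρ ^ 2 • e + f + jV m v)) : False := by
  set r := ρ • e + f with hrdef
  have hall : ∀ {k : SU (m + 2) F 2}, k ∈ H → herm 2 (k • e) e = 0 → k ∉ Est e →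
      InPl e f k r := by
    intro k hk ho hn
    obtain ⟨A, u, hA, hu, hu0, hke⟩ := orth_cases hF h c hk ho hn
    exact plane_transfer hF h c hm hg hk hlam hA hw hu hw0 hu0 hge hke hr
  obtain ⟨ρ', -, -, hr', huni⟩ := plane_data hF h c (by omega) hg hlam hw hw0 hge
  obtain rfl : ρ = ρ' := by
    obtain ⟨a, b, hab⟩ := hr
    have := huni a b ρ 1 (by rw [one_smul]; exact hab)
    rwa [one_mul] at this
  -- `g` fixes the distinguished vector
  have hne : g⁻¹ ∉ Est (q := 2) e := by
    intro hh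
    obtain ⟨-, ⟨a, -, ha⟩⟩ := c.se _ hg (by simpa using inv_mem hh)
    obtain ⟨⟨b, -, hb⟩, -⟩ := c.se _ hg (by simpa using inv_mem hh)
    rw [hge] at hb
    have h1 : lam • e + (0 : F) • f + jV m (lam • w) = b • e + (0 : F) • f + jV m 0 := by
      rw [map_zero, map_smul, ← hb]; module
    exact smul_ne_zero hlam hw0 (eq_of_std hF h h1).2.2
  obtain ⟨a, b, hab⟩ := hall (inv_mem hg) (by
    rw [← herm_smul_SU g, smul_inv_smul, hge, herm_smul_right hF, herm_add_right hF, h.ee,
      h.e_jV hF, add_zero, mul_zero]) hne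
  have hgr : g • r = a • e + b • f := by
    rw [hab, smul_add, smul_comm g a, smul_comm g b, smul_inv_smul, smul_inv_smul]
  have hgr' : a • e + b • f = ρ • (g • e) + (1 : F) • (g • f) := by
    rw [← hgr, hrdef, smul_add, smul_comm g, one_smul]
  have hab' := huni _ _ _ _ hgr'
  have hgrr : g • r = b • r := by
    rw [hgr, hab', hrdef, smul_add, smul_smul]
  have hb0 : b ≠ 0 := by
    intro hb0
    rw [hb0, zero_smul, smul_eq_zero_iff_eq] at hgrr
    have h1 : ρ • e + (1 : F) • f + jV m 0 = (0 : F) • e + (0 : F) • f + jV m 0 := by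
      rw [map_zero, one_smul, zero_smul, zero_smul, add_zero, add_zero, add_zero]; exact hgrr
    exact one_ne_zero (eq_of_std hF h h1).2.1
  -- the distinguished vector lies in the image of the line by `g'`
  have horth : herm 2 (g' • e) (g • e) = 0 := by
    rw [hge, hge', herm_smul_left, herm_smul_right hF,
      show e + jV m w = (1 : F) • e + (0 : F) • f + jV m w by module,
      show ρ ^ 2 • e + f + jV m v = ρ ^ 2 • e + (1 : F) • f + jV m v by module, herm_std hF h,
      herm_swap hF w v, hvw]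
    linear_combination (mu * lam ^ 2) * char_two_four hF
  have hne' : g⁻¹ * g' ∉ Est (q := 2) e := by
    rintro ⟨s, -, hs⟩
    rw [mul_smul, inv_smul_eq_iff, smul_comm g, hge', hge] at hs
    have h1 : (mu * ρ ^ 2) • e + mu • f + jV m (mu • v) =
        (s * lam) • e + (0 : F) • f + jV m ((s * lam) • w) := by
      linear_combination (norm := (simp only [map_smul]; module)) hs
    have hmu : mu = 0 := (eq_of_std hF h h1).2.1
    rw [hmu, zero_smul, smul_eq_zero_iff_eq] at hge'
    exact h.e_ne hF hge'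
  obtain ⟨a', b', hab2⟩ := hall (mul_mem (inv_mem hg) hg') (by
    rw [← herm_smul_SU g, mul_smul, smul_inv_smul, horth]) hne'
  have hbr : b • r = a' • (g' • e) + b' • (g' • f) := by
    rw [← hgrr, hab2, smul_add, smul_comm g a', smul_comm g b', mul_smul, mul_smul,
      smul_inv_smul, smul_inv_smul]
  have hrt : herm 2 (b • r) (g' • e) = 0 := by
    rw [hge', herm_smul_left, herm_smul_right hF, hrdef,
      show ρ • e + f = ρ • e + (1 : F) • f + jV m 0 by rw [map_zero]; module,
      show ρ ^ 2 • e + f + jV m v = ρ ^ 2 • e + (1 : F) • f + jV m v by module, herm_std hF h,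
      herm_zero_left]
    linear_combination (b * mu ^ 2 * ρ) * cube_eq_one_four hF hρ0 +
      (b * mu ^ 2 * ρ) * char_two_four hF
  rw [hbr, herm_add_left, herm_smul_left, herm_smul_left, herm_smul_SU, herm_smul_SU, h.ee,
    h.fe hF, mul_zero, zero_add, mul_one] at hrt
  rw [hrt, zero_smul, add_zero] at hbr
  have h2 := congrArg (fun z => herm 2 z z) hbr
  simp only [herm_smul_left, herm_smul_right hF, herm_smul_SU, h.ee, mul_zero, hrdef,
    herm_add_left, herm_add_right hF, h.ef, h.fe hF, h.ff] at h2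
  have h3 : ρ + ρ ^ 2 = 0 := by
    linear_combination h2 - (ρ + ρ ^ 2) * cube_eq_one_four hF hb0
  exact one_ne_zero (α := F) (by linear_combination omega_eq hF hρ0 hρ1 - h3)

end Cfsg.Agent.MinIndexUN
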