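import Cfsg.Agent.MinIndexUN.TwoComplement
import Cfsg.Agent.MinIndexUN.CaseA
import Cfsg.Agent.MinIndexUN.Main
import Mathlib.Combinatorics.Enumerative.DoubleCounting

/-!
`n = 6`, four elements: a point stabiliser meeting the radical trivially and covering the Levi
subgroup does not occur in small index (helper10).
-/

set_option autoImplicit false

namespace Cfsg.Agent.MinIndexUN

open Matrix Cfsg.Agent.Unitary MulAction

variable {F : Type*} [Field F] [Fintype F]

open Classical in
/-- The transvection with parameter one. -/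
noncomputable def tv1 (hF : Fintype.card F = 2 ^ 2) {n : ℕ} (u : Fin n → F) : SU n F 2 :=
  if hu : herm 2 u u = 0 then
    tv hF hu (show (1 : F) + 1 ^ 2 = 0 by linear_combination char_two_four hF)
  else 1

variable (hF : Fintype.card F = 2 ^ 2)

include hF

theorem tv1_smul {n : ℕ} {u : Fin n → F} (hu : herm 2 u u = 0) (x : Fin n → F) :
    tv1 hF u • x = x + herm 2 x u • u := by
  rw [tv1, dif_pos hu, tv_smul, one_mul]

theorem tv1_scale {n : ℕ} {u : Fin n → F} (hu : herm 2 u u = 0) {a : F} (ha : a ≠ 0) :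
    tv1 hF (a • u) = tv1 hF u := by
  refine eq_of_smul_eq_SU fun x => ?_
  rw [tv1_smul hF hu, tv1_smul hF (by rw [herm_smul_left, herm_smul_right hF, hu]; simp),
    herm_smul_right hF, smul_smul]
  congr 2
  linear_combination (herm 2 x u) * cube_eq_one_four hF ha

theorem tv1_conj {n : ℕ} (g : SU n F 2) {u : Fin n → F} (hu : herm 2 u u = 0) :
    g * tv1 hF u * g⁻¹ = tv1 hF (g • u) := by
  rw [tv1, dif_pos hu, tv1, dif_pos ((herm_smul_SU g u u).trans hu), conj_tv hF g hu]

theorem tv1_comm {n : ℕ} {u v : Fin n → F} (hu : herm 2 u u = 0) (hv : herm 2 v v = 0)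
    (huv : herm 2 u v = 0) : tv1 hF u * tv1 hF v = tv1 hF v * tv1 hF u := by
  refine eq_of_smul_eq_SU fun x => ?_
  simp only [mul_smul, tv1_smul hF hu, tv1_smul hF hv, herm_add_left, herm_smul_left, huv,
    (herm_eq_zero_comm hF).1 huv]
  module

theorem tv1_sq {n : ℕ} {u : Fin n → F} (hu : herm 2 u u = 0) : tv1 hF u * tv1 hF u = 1 := by
  refine eq_of_smul_eq_SU fun x => ?_
  simp only [mul_smul, tv1_smul hF hu, herm_add_left, herm_smul_left, hu, one_smul]
  linear_combination (norm := module) (char_two_four hF) • (herm 2 x u • u)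

variable {e f : Fin (4 + 2) → F} (h : Std 2 e f)
include h

theorem line_iso (a : F) {z : Fin 4 → F} (hz : herm 2 z z = 0) :
    herm 2 (a • e + jV 4 z) (a • e + jV 4 z) = 0 := by
  simp [herm_add_left, herm_add_right hF, herm_smul_left, herm_smul_right hF, h.ee, h.e_jV hF,
    h.jV_e hF, herm_jV_jV, hz]

theorem jG_tv1 {z : Fin 4 → F} (hz : herm 2 z z = 0) :
    jG 4 (tv1 hF z) = tv1 hF (jV 4 z) := by
  have hz' : herm 2 (jV 4 z) (jV 4 z) = 0 := by rw [herm_jV_jV, hz]
  refine h.ext hF ?_ ?_ fun v => ?_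
  · rw [h.jG_e, tv1_smul hF hz', h.e_jV hF, zero_smul, add_zero]
  · rw [h.jG_f, tv1_smul hF hz', h.f_jV hF, zero_smul, add_zero]
  · rw [jG_smul_jV, tv1_smul hF hz', tv1_smul hF hz, herm_jV_jV, map_add, map_smul]

/-- Two transvections on a line through `e` differ by an element of the radical. -/
theorem tv1_pair_mem {z : Fin 4 → F} (hz : herm 2 z z = 0) (a b : F) :
    ∃ (c : F) (hc : c + c ^ 2 = -herm 2 ((a - b) ^ 2 • z) ((a - b) ^ 2 • z)),
      tv1 hF (a • e + jV 4 z) * tv1 hF (b • e + jV 4 z) = Qg hF h ((a - b) ^ 2 • z) hc := by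
  refine ⟨a ^ 3 + b ^ 3, ?_, ?_⟩
  · rw [herm_smul_left, herm_smul_right hF, hz, mul_zero, mul_zero, neg_zero]
    have hfix : ∀ x : F, (x ^ 3) ^ 2 = x ^ 3 := fun x => norm_fixed hF x
    rw [add_pow_q hF, hfix, hfix]
    linear_combination (a ^ 3 + b ^ 3) * char_two_four hF
  · refine eq_of_smul_eq_SU fun x => ?_
    have h4 : (a - b) ^ 4 = a - b := by
      have := pow_q_pow_q hF (a - b)
      linear_combination this
    rw [mul_smul, tv1_smul hF (line_iso hF h b hz), tv1_smul hF (line_iso hF h a hz),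
      Qg_smul hF h]
    simp only [herm_add_left, herm_add_right hF, herm_smul_left, herm_smul_right hF, h.ee,
      h.e_jV hF, h.jV_e hF, herm_jV_jV, hz, map_smul]
    have h2' := char_two_four hF
    match_scalars
    all_goals grobner

/-- The five transvections on a line multiply to one. -/
theorem tv1_five {z : Fin 4 → F} (hz : herm 2 z z = 0) {β γ δ : F} (h1 : γ ≠ β) (h2 : δ ≠ β)
    (h3 : δ ≠ γ) :
    tv1 hF e * tv1 hF (β • e + jV 4 z) * (tv1 hF (γ • e + jV 4 z) * tv1 hF (δ • e + jV 4 z)) =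
      tv1 hF ((β + γ + δ) • e + jV 4 z) := by
  refine eq_of_smul_eq_SU fun x => ?_
  set d := γ - β with hd
  have hd0 : d ≠ 0 := sub_ne_zero.2 h1
  set c := (δ - β) / d with hc
  have hc0 : c ≠ 0 := div_ne_zero (sub_ne_zero.2 h2) hd0
  have hc1 : c ≠ 1 := fun e0 => h3 (by
    rw [hc, div_eq_one_iff_eq hd0, hd] at e0
    linear_combination e0)
  have hγ : γ = β + d := by rw [hd]; ring
  have hδ : δ = β + c * d := by rw [hc, div_mul_cancel₀ _ hd0]; ring
  have hcc := omega_eq hF hc0 hc1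
  have hd3 := cube_eq_one_four hF hd0
  have hc3 := cube_eq_one_four hF hc0
  have h2' := char_two_four hF
  simp only [mul_smul, tv1_smul hF (line_iso hF h _ hz), tv1_smul hF h.ee, herm_add_left,
    herm_add_right hF, herm_smul_left, herm_smul_right hF, h.ee, h.e_jV hF, h.jV_e hF, herm_jV_jV,
    hz]
  rw [hγ, hδ]
  match_scalars
  all_goals grobner

/-- The count of points orthogonal to a point. -/
theorem perp_le (p : IsoPt hF (4 + 2)) :
    {s : IsoPt hF (4 + 2) | s ≠ p ∧ Orth hF p s}.ncard ≤ 180 := by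
  classical
  haveI := finite_pts hF 4
  haveI := finite_pts hF (4 + 2)
  haveI := isPretransitive_points hF (n := 4 + 2)
  obtain ⟨p0, a, ha, hp0⟩ := exists_pt hF (h.e_ne hF) h.ee
  obtain ⟨g, hg⟩ := MulAction.exists_smul_eq (SU (4 + 2) F 2) p0 p
  have hne0 : ∀ zb : IsoPt hF 4 × F, zb.2 • e + jV 4 zb.1.1.rep ≠ 0 := fun zb e0 => by
    have h1 : zb.2 • e + (0 : F) • f + jV 4 zb.1.1.rep = (0 : F) • e + (0 : F) • f + jV 4 0 := by
      rw [zero_smul, zero_smul, map_zero, add_zero, add_zero, add_zero, e0]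
    exact zb.1.1.rep_nonzero (eq_of_std hF h h1).2.2
  choose Y c hc hY using fun zb : IsoPt hF 4 × F =>
    exists_pt hF (hne0 zb) (line_iso hF h zb.2 zb.1.2)
  have hsub : {s : IsoPt hF (4 + 2) | s ≠ p ∧ Orth hF p s} ⊆
      Set.range fun zb => g • Y zb := by
    rintro s ⟨hsp, hs⟩
    set s' := g⁻¹ • s with hs'
    have hsne : s' ≠ p0 := fun e0 => hsp (by rw [← hg, ← e0, hs', smul_inv_smul])
    have ho : herm 2 s'.1.rep e = 0 := by
      obtain ⟨l, hl, e1⟩ := rep_smul_of_eq hF (g := g) (p := p0) (p' := p) hg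
      obtain ⟨l', hl', e2⟩ := rep_smul_of_eq hF (g := g) (p := s') (p' := s)
        (smul_inv_smul g s)
      have h1 := herm_smul_SU g s'.1.rep p0.1.rep
      rw [e1, e2, herm_smul_left, herm_smul_right hF, (orth_comm hF).1 hs, hp0,
        herm_smul_right hF] at h1
      simpa [ha] using h1.symm
    have hd := h.decomp hF s'.1.rep
    rw [ho, zero_smul, add_zero] at hd
    set v := tail2 s'.1.rep
    set A := herm 2 s'.1.rep f
    have hv0 : v ≠ 0 := by
      intro e0
      rw [e0, map_zero, add_zero] at hd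
      refine ne_smul_of_ne hF hsne (A / a) ?_
      rw [hp0, smul_smul, div_mul_cancel₀ _ ha, ← hd]
    have hvv : herm 2 v v = 0 := by
      have h1 := s'.2
      rw [hd] at h1
      simpa [herm_add_left, herm_add_right hF, herm_smul_left, herm_smul_right hF, h.ee,
        h.e_jV hF, h.jV_e hF, herm_jV_jV] using h1
    obtain ⟨zp, k, hk, hzp⟩ := exists_pt hF hv0 hvv
    refine ⟨(zp, k * A), ?_⟩
    show g • Y (zp, k * A) = s
    rw [← smul_inv_smul g s, smul_left_cancel_iff]
    have e1 : (Y (zp, k * A)).1.rep = (c (zp, k * A) * k) • s'.1.rep := by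
      rw [hY, hzp, map_smul, ← smul_smul k A e, ← smul_add, ← hd, smul_smul]
    by_contra hne'
    exact ne_smul_of_ne hF (Ne.symm (fun e0 => hne' e0.symm)) _ e1
  refine (Set.ncard_le_ncard hsub (Set.finite_range _)).trans ?_
  rw [← Nat.card_coe_set_eq]
  refine (Finite.card_range_le _).trans ?_
  rw [Nat.card_prod, Nat.card_eq_fintype_card (α := F), hF, card_pts_four hF]
  norm_num

variable {H : Subgroup (SU (4 + 2) F 2)}

theorem six_false (hQ0 : H ⊓ Qs hF h = ⊥) (hK : Lev e f ≤ Kbar hF h H) (hlt : H.index < 672) :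
    False := by
  classical
  haveI := finite_pts hF (4 + 2)
  haveI := finite_pts hF 4
  letI := Fintype.ofFinite (IsoPt hF (4 + 2))
  obtain ⟨ω, hω0, hω1⟩ := exists_omega_four hF
  let μ : Fin 4 → F := ![ω, ω, ω ^ 2, ω ^ 2]
  have hμ : ∀ i, μ i ≠ 0 ∧ μ i ≠ 1 := by
    intro i
    fin_cases i <;> simp [μ, hω0, hω1, omega_sq_ne hF hω0 hω1]
  obtain ⟨τ, hτ⟩ := exists_diag hF μ (fun i => (hμ i).1) (by
    simp only [μ, Fin.prod_univ_four]
    simp
    linear_combination (ω ^ 3 + 1) * cube_eq_one_four hF hω0)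
  have hfree : ∀ v, tact 2 e f (jG 4 τ) v = v → v = 0 := by
    intro v hv
    rw [tact_jG hF h, hτ] at hv
    funext i
    exact (mul_left_eq_self₀.1 (congrFun hv i)).resolve_left (hμ i).2
  obtain ⟨wt, hwt⟩ := exists_Lift hF h H hK (jG_mem_Lev hF h τ)
  set u : Fin 4 → F := fun i => -wt i / (1 - μ i) with hu
  obtain ⟨b0, hb0⟩ := exists_trace_eq hF (t := -herm 2 u u)
    (by rw [neg_pow_q hF, herm_self_fixed hF])
  set y := Qg hF h u hb0 with hy
  have hyQ : y ∈ Qs hF h := ⟨_, _, _, rfl⟩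
  set K := conjH H y with hKdef
  have hQ : K ⊓ Qs hF h = ⊥ := conjH_inf_Qs hF h H hyQ hQ0
  have hlift : ∀ l ∈ Lev (q := 2) e f, ∃ w, Lift hF h K l w := fun l hl =>
    let ⟨w, hw⟩ := exists_Lift hF h H hK hl
    ⟨_, Lift_conj hF h H hl hb0 hw⟩
  have ht0 : Lift hF h K (jG 4 τ) 0 := by
    have h1 := Lift_conj hF h H (jG_mem_Lev hF h τ) hb0 hwt
    convert h1 using 1
    rw [tact_jG hF h, hτ]
    funext i
    simp only [Pi.add_apply, Pi.neg_apply, Pi.zero_apply, hu]
    have hne : (1 : F) - μ i ≠ 0 := sub_ne_zero.2 (Ne.symm (hμ i).2)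
    generalize μ i = c at hne
    field_simp
    ring
  have hidx : K.index = H.index := index_conjH hF H y
  have hfull : ∀ k ∈ K, ∀ {lam : F}, lam ≠ 0 → ∀ {x : Fin (4 + 2) → F}, herm 2 x x = 0 →
      k • e = lam • x → tv1 hF x ∉ K := by
    intro k hk lam hlam x hx hke hmem
    have h1 : k⁻¹ * tv1 hF x * k = tv1 hF e := by
      have h0 : k • (lam⁻¹ • e) = x := by rw [smul_comm k, hke, inv_smul_smul₀ hlam]
      have hli := tv1_scale hF h.ee (inv_ne_zero hlam)
      rw [← hli, ← h0, ← tv1_conj hF k (by rw [herm_smul_left, herm_smul_right hF, h.ee]; simp)]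
      group
    have h2 : tv1 hF e ∈ K ⊓ Qs hF h := by
      refine Subgroup.mem_inf.2 ⟨h1 ▸ mul_mem (mul_mem (inv_mem hk) hmem) hk, ?_⟩
      refine ⟨0, 1, by rw [herm_zero_left]; linear_combination char_two_four hF, ?_⟩
      rw [Qg_zero_eq_tv hF h _ (by linear_combination char_two_four hF), tv1, dif_pos h.ee]
    rw [hQ, Subgroup.mem_bot] at h2
    have h3 := congrArg (fun g : SU (4 + 2) F 2 => g • f) h2
    simp only [tv1_smul hF h.ee, h.fe hF, one_smul, add_eq_left] at h3
    exact h.e_ne hF h3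
  -- the lift of a transvection
  set w0 : Fin 4 → F := eI 0 + eI 1 with hw0
  have hw00 : herm 2 w0 w0 = 0 := by
    simp only [hw0, herm_add_left, herm_add_right hF, herm_eI_eI hF, Fin.reduceEq, if_true, if_false]
    linear_combination char_two_four hF
  have hw0ne : w0 ≠ 0 := fun e0 => by simpa [hw0, eI] using congrFun e0 0
  obtain ⟨W, hW⟩ := hlift _ (jG_mem_Lev hF h (tv1 hF w0))
  obtain rfl : W = 0 := Lift_zero_of_comm hF h K hQ (jG_mem_Lev hF h τ) (jG_mem_Lev hF h _) ht0
    hfree (by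
      rw [← map_mul, ← map_mul]
      refine congrArg _ (eq_of_smul_eq_SU fun x => ?_)
      rw [mul_smul, mul_smul, tv1_smul hF hw00, tv1_smul hF hw00, hτ, hτ]
      funext i
      have e1 : herm 2 (fun i => μ i * x i) w0 = ω * herm 2 x w0 := by
        simp [hw0, herm, hermForm, Fin.sum_univ_four, μ, eI]
        ring
      rw [e1]
      fin_cases i <;> simp [hw0, μ, eI] <;> ring) hW
  obtain ⟨b, hb, hX⟩ := hW
  -- a transvection or a double transvection on each line
  have hline : ∀ z : Fin 4 → F, z ≠ 0 → herm 2 z z = 0 → ∃ β : F,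
      tv1 hF (β • e + jV 4 z) ∈ K ∨ tv1 hF e * tv1 hF (β • e + jV 4 z) ∈ K := by
    intro z hz0 hz
    obtain ⟨g0, hg0⟩ := exists_move_iso hF (by norm_num) hw00 hz hw0ne hz0
    obtain ⟨u', b', hb', hh⟩ := hlift _ (jG_mem_Lev hF h g0)
    set k := Qg hF h u' hb' * jG 4 g0
    have hke : k • e = e := by rw [mul_smul, h.jG_e, Qg_e]
    have hkw : k • jV 4 w0 = (-herm 2 z u') • e + jV 4 z := by
      rw [mul_smul, jG_smul_jV, hg0, Qg_jV]; module
    refine ⟨-herm 2 z u', ?_⟩
    have hc := mul_mem (mul_mem hh hX) (inv_mem hh)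
    have hjw : herm 2 (jV 4 w0) (jV 4 w0) = 0 := by rw [herm_jV_jV, hw00]
    have hb2 : b ^ 2 = b := by
      rw [herm_zero_left] at hb
      linear_combination hb - b * char_two_four hF
    rcases fixed_cases hF hb2 with rfl | rfl
    · left
      rw [Qg_one hF h, one_mul, jG_tv1 hF h hw00] at hc
      rwa [← hkw, ← tv1_conj hF k hjw]
    · right
      rw [Qg_zero_eq_tv hF h _ (by linear_combination char_two_four hF),
        show tv hF h.ee _ = tv1 hF e from (by rw [tv1, dif_pos h.ee]),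
        jG_tv1 hF h hw00] at hc
      rw [show tv1 hF e = k * tv1 hF e * k⁻¹ by rw [tv1_conj hF k h.ee, hke], ← hkw,
        ← tv1_conj hF k hjw]
      convert hc using 1
      group
  -- some point of each line is outside the orbit
  have huniq : ∀ {z : Fin 4 → F}, z ≠ 0 → herm 2 z z = 0 → ∀ {β γ : F},
      tv1 hF e * tv1 hF (β • e + jV 4 z) ∈ K → tv1 hF e * tv1 hF (γ • e + jV 4 z) ∈ K → β = γ := by
    intro z hz0 hz β γ h1 h2
    obtain ⟨c, hc, he'⟩ := tv1_pair_mem hF h hz β γ
    have h3 : Qg hF h ((β - γ) ^ 2 • z) hc ∈ K ⊓ Qs hF h := by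
      refine Subgroup.mem_inf.2 ⟨?_, _, _, _, rfl⟩
      rw [← he']
      have := mul_mem (inv_mem h1) h2
      have hi : (tv1 hF (β • e + jV 4 z))⁻¹ = tv1 hF (β • e + jV 4 z) :=
        inv_eq_of_mul_eq_one_right (tv1_sq hF (line_iso hF h β hz))
      rwa [_root_.mul_inv_rev, mul_assoc, inv_mul_cancel_left, hi] at this
    rw [hQ, Subgroup.mem_bot, ← Qg_one hF h] at h3
    have h4 := (smul_eq_zero.1 (Qg_param hF h _ _ h3).1).resolve_right hz0
    exact sub_eq_zero.1 (sq_eq_zero_iff.1 h4)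
  have hout : ∀ z : Fin 4 → F, z ≠ 0 → herm 2 z z = 0 → ∃ δ : F,
      ∀ k ∈ K, ∀ lam : F, lam ≠ 0 → k • e ≠ lam • (δ • e + jV 4 z) := by
    intro z hz0 hz
    by_contra! hall
    obtain ⟨β, hβ | hβ⟩ := hline z hz0 hz
    · obtain ⟨k, hk, lam, hlam, hke⟩ := hall β
      exact hfull k hk hlam (line_iso hF h β hz) hke hβ
    obtain ⟨γ, hγ⟩ : ∃ γ : F, γ ≠ β := ⟨β + 1, by simp⟩
    obtain ⟨k, hk, lam, hlam, hke⟩ := hall γ
    set v := k⁻¹ • e with hv
    have hve : herm 2 v e = 0 := by
      rw [hv, ← herm_smul_SU k, smul_inv_smul, hke, herm_smul_right hF, herm_add_right hF,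
        herm_smul_right hF, h.ee, h.e_jV hF]
      simp
    have hd := h.decomp hF v
    rw [hve, zero_smul, add_zero] at hd
    set A := herm 2 v f
    set z' := tail2 v
    have hvv : herm 2 v v = 0 := by rw [hv, herm_smul_SU, h.ee]
    have hz'' : herm 2 z' z' = 0 := by
      rw [hd] at hvv
      simpa [herm_add_left, herm_add_right hF, herm_smul_left, herm_smul_right hF, h.ee,
        h.e_jV hF, h.jV_e hF, herm_jV_jV] using hvv
    have hz'0 : z' ≠ 0 := by
      intro e0
      rw [e0, map_zero, add_zero] at hd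
      have h1 : e = A • (lam • (γ • e + jV 4 z)) := by
        rw [← hke, ← smul_comm k, ← hd, hv, smul_inv_smul]
      have h2 : (1 : F) • e + (0 : F) • f + jV 4 0 =
          (A * lam * γ) • e + (0 : F) • f + jV 4 ((A * lam) • z) := by
        rw [map_zero, map_smul]
        conv_lhs => rw [one_smul, zero_smul, add_zero, add_zero, h1]
        module
      obtain ⟨h3, -, h4⟩ := eq_of_std hF h h2
      rw [(smul_eq_zero.1 h4.symm).resolve_right hz0, zero_mul] at h3
      exact one_ne_zero h3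
    obtain ⟨β', hβ'⟩ := hline z' hz'0 hz''
    have hky : k • (β' • e + jV 4 z') = e + ((β' - A) * lam) • (γ • e + jV 4 z) := by
      rw [show β' • e + jV 4 z' = v + (β' - A) • e by rw [hd]; module, smul_add, hv,
        smul_inv_smul, smul_comm k, hke, smul_smul]
    rcases hβ' with hβ' | hβ'
    · -- a transvection on the line
      have hm := mul_mem (mul_mem hk hβ') (inv_mem hk)
      rw [tv1_conj hF k (line_iso hF h β' hz''), hky] at hm
      by_cases hkk : (β' - A) * lam = 0
      · rw [hkk, zero_smul, add_zero] at hm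
        exact hfull 1 (one_mem K) one_ne_zero h.ee (by rw [one_smul, one_smul]) hm
      · rw [show e + ((β' - A) * lam) • (γ • e + jV 4 z) =
            ((β' - A) * lam) • ((((β' - A) * lam)⁻¹ + γ) • e + jV 4 z) by
          rw [smul_add, smul_add, smul_smul, smul_smul, mul_add, mul_inv_cancel₀ hkk]; module,
          tv1_scale hF (line_iso hF h _ hz) hkk] at hm
        obtain ⟨k', hk', lam', hlam', hke'⟩ := hall (((β' - A) * lam)⁻¹ + γ)
        exact hfull k' hk' hlam' (line_iso hF h _ hz) hke' hm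
    have hm := mul_mem (mul_mem hk hβ') (inv_mem hk)
    rw [show k * (tv1 hF e * tv1 hF (β' • e + jV 4 z')) * k⁻¹ =
        (k * tv1 hF e * k⁻¹) * (k * tv1 hF (β' • e + jV 4 z') * k⁻¹) by group,
      tv1_conj hF k h.ee, tv1_conj hF k (line_iso hF h β' hz''), hky, hke,
      tv1_scale hF (line_iso hF h γ hz) hlam] at hm
    have heγ : herm 2 e (γ • e + jV 4 z) = 0 := by
      simp [herm_add_right hF, herm_smul_right hF, h.ee, h.e_jV hF]
    by_cases hkk : (β' - A) * lam = 0
    · rw [hkk, zero_smul, add_zero, ← tv1_comm hF h.ee (line_iso hF h γ hz) heγ] at hm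
      exact hγ (huniq hz0 hz hm hβ)
    rw [show e + ((β' - A) * lam) • (γ • e + jV 4 z) =
          ((β' - A) * lam) • ((((β' - A) * lam)⁻¹ + γ) • e + jV 4 z) by
        rw [smul_add, smul_add, smul_smul, smul_smul, mul_add, mul_inv_cancel₀ hkk]; module,
      tv1_scale hF (line_iso hF h _ hz) hkk] at hm
    set δ := ((β' - A) * lam)⁻¹ + γ with hδ
    have hδγ : δ ≠ γ := fun e0 => inv_ne_zero hkk (by rw [hδ] at e0; linear_combination e0)
    have hγβ : δ ≠ β := by
      intro e0
      rw [e0] at hm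
      refine hγ (huniq hz0 hz ?_ hβ)
      have := mul_mem hβ (inv_mem hm)
      have hi : ∀ a : F, (tv1 hF (a • e + jV 4 z))⁻¹ = tv1 hF (a • e + jV 4 z) := fun a =>
        inv_eq_of_mul_eq_one_right (tv1_sq hF (line_iso hF h a hz))
      rwa [_root_.mul_inv_rev, hi, hi, mul_assoc, ← mul_assoc (tv1 hF (β • e + jV 4 z)),
        tv1_sq hF (line_iso hF h β hz), one_mul] at this
    have h5 := mul_mem hβ hm
    rw [tv1_five hF h hz hγ hγβ hδγ] at h5
    obtain ⟨k', hk', lam', hlam', hke'⟩ := hall (β + γ + δ)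
    exact hfull k' hk' hlam' (line_iso hF h _ hz) hke' h5
  -- counting
  obtain ⟨p, a, ha, hp⟩ := exists_pt hF (h.e_ne hF) h.ee
  set x := K.relIndex (Est e) with hx
  have hAB : Nat.card (Aset hF h K) * Nat.card (Bset hF h K) = 1 := by
    rw [← card_inf_Qs hF h K, hQ, Subgroup.card_bot]
  have hx1 : 512 ≤ x := by
    have h1 := x_ge_Lev hF h K
    rw [hAB, mul_one] at h1
    refine le_trans ?_ h1
    exact le_trans (by norm_num) (Nat.le_mul_of_pos_right _
      (Nat.pos_of_ne_zero Subgroup.index_ne_zero_of_finite))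
  have hx2 : x ≤ 512 := by
    let φ : Qs hF h → (Est (q := 2) e) ⧸ K.subgroupOf (Est e) := fun g =>
      QuotientGroup.mk ⟨g.1, Qs_le_Est hF h g.2⟩
    have hφ : Function.Surjective φ := by
      intro qt
      induction qt using QuotientGroup.induction_on with
      | H g =>
        obtain ⟨g, hg⟩ := g
        obtain ⟨xq, hxq, l, hl, rfl⟩ := exists_dec hF h hg
        obtain ⟨w, b2, hb2, hm⟩ := hlift l hl
        refine ⟨⟨xq * (Qg hF h w hb2)⁻¹, mul_mem hxq (inv_mem ⟨w, b2, hb2, rfl⟩)⟩, ?_⟩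
        refine QuotientGroup.eq.2 (Subgroup.mem_subgroupOf.2 ?_)
        show (xq * (Qg hF h w hb2)⁻¹)⁻¹ * (xq * l) ∈ K
        convert hm using 1
        group
    have h1 := Nat.card_le_card_of_surjective φ hφ
    rw [card_Qs hF h] at h1
    exact h1.trans_eq (by norm_num)
  have hN : Nat.card (IsoPt hF (4 + 2)) = 693 := by
    rw [card_pts_step hF 4 (by norm_num), card_pts_four hF]; norm_num
  have hio := index_mul_card_orbit hF K p
  rw [hp, Est_smul ha, ← hx, le_antisymm hx2 hx1, hN, hidx] at hio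
  set O := MulAction.orbit K p with hO
  have hO529 : 529 ≤ Nat.card O := by
    by_contra hle
    have : H.index * Nat.card O ≤ 671 * 528 := Nat.mul_le_mul (by omega) (by omega)
    omega
  -- forty-five outside neighbours
  have hp45 : 45 ≤ {s : IsoPt hF (4 + 2) | s ∉ O ∧ Orth hF p s}.ncard := by
    choose δ hδ using fun z : IsoPt hF 4 => hout z.1.rep z.1.rep_nonzero z.2
    have hne0 : ∀ z : IsoPt hF 4, δ z • e + jV 4 z.1.rep ≠ 0 := fun z e0 => by
      have h1 : δ z • e + (0 : F) • f + jV 4 z.1.rep = (0 : F) • e + (0 : F) • f + jV 4 0 := by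
        rw [zero_smul, zero_smul, map_zero, add_zero, add_zero, add_zero, e0]
      exact z.1.rep_nonzero (eq_of_std hF h h1).2.2
    choose Y c hc hY using fun z : IsoPt hF 4 => exists_pt hF (hne0 z) (line_iso hF h (δ z) z.2)
    have hYinj : Function.Injective Y := by
      intro z z' e0
      have h1 := congrArg (fun s : IsoPt hF (4 + 2) => tail2 s.1.rep) e0
      simp only [hY] at h1
      have e1 : ∀ z, c z • (δ z • e + jV 4 z.1.rep) =
          (c z * δ z) • e + (0 : F) • f + jV 4 (c z • z.1.rep) := fun z => by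
        rw [map_smul]; module
      rw [e1, e1, tail2_std hF h, tail2_std hF h] at h1
      by_contra hne
      refine ne_smul_of_ne hF hne ((c z)⁻¹ * c z') ?_
      rw [← smul_smul, ← h1, inv_smul_smul₀ (hc z)]
    have hsub : Set.range Y ⊆ {s : IsoPt hF (4 + 2) | s ∉ O ∧ Orth hF p s} := by
      rintro _ ⟨z, rfl⟩
      refine ⟨fun hm => ?_, ?_⟩
      · obtain ⟨⟨k, hk⟩, hkp⟩ := hm
        obtain ⟨l, hl, he'⟩ := rep_smul_of_eq hF (g := k) (p := p) (p' := Y z) hkp
        rw [hp, hY, smul_comm k, smul_smul] at he'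
        exact hδ z k hk _ (mul_ne_zero (inv_ne_zero ha) (mul_ne_zero hl (hc z)))
          (by rw [← smul_smul, ← he', inv_smul_smul₀ ha])
      · show herm 2 p.1.rep (Y z).1.rep = 0
        rw [hp, hY]
        simp [herm_smul_left, herm_smul_right hF, herm_add_right hF, h.ee, h.e_jV hF]
    refine le_trans ?_ (Set.ncard_le_ncard hsub (Set.toFinite _))
    rw [Set.ncard_range_of_injective hYinj, card_pts_four hF]
    norm_num
  have horth : ∀ (g : SU (4 + 2) F 2) (r s : IsoPt hF (4 + 2)),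
      Orth hF r s → Orth hF (g • r) (g • s) := by
    intro g r s hrs
    obtain ⟨l, hl, e1⟩ := rep_smul_of_eq hF (g := g) (p := r) (p' := g • r) rfl
    obtain ⟨l', hl', e2⟩ := rep_smul_of_eq hF (g := g) (p := s) (p' := g • s) rfl
    have h1 := herm_smul_SU g r.1.rep s.1.rep
    rw [e1, e2, herm_smul_left, herm_smul_right hF, show herm 2 r.1.rep s.1.rep = 0 from hrs] at h1
    simpa [Orth, hl, hl'] using h1
  have habove : ∀ o ∈ O.toFinset,
      45 ≤ (Finset.bipartiteAbove (Orth hF) Oᶜ.toFinset o).card := by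
    intro o ho
    obtain ⟨k, rfl⟩ := Set.mem_toFinset.1 ho
    refine hp45.trans ?_
    rw [← Set.ncard_coe_finset]
    refine Set.ncard_le_ncard_of_injOn (fun s => (k : SU (4 + 2) F 2) • s) ?_
      (fun s _ s' _ e0 => smul_left_cancel _ e0) (Set.toFinite _)
    rintro s ⟨hs1, hs2⟩
    rw [Finset.mem_coe, Finset.mem_bipartiteAbove, Set.mem_toFinset]
    refine ⟨fun hm => hs1 ?_, horth _ _ _ hs2⟩
    have := MulAction.mem_orbit_of_mem_orbit k⁻¹ hm
    rwa [show k⁻¹ • ((k : SU (4 + 2) F 2) • s) = s from inv_smul_smul k s] at this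
  have hbelow : ∀ s ∈ Oᶜ.toFinset,
      (Finset.bipartiteBelow (Orth hF) O.toFinset s).card ≤ 180 := by
    intro s hs
    refine le_trans ?_ (perp_le hF h s)
    rw [← Set.ncard_coe_finset]
    refine Set.ncard_le_ncard ?_ (Set.toFinite _)
    intro o ho
    rw [Finset.mem_coe, Finset.mem_bipartiteBelow, Set.mem_toFinset] at ho
    rw [Set.mem_toFinset] at hs
    exact ⟨fun e0 => hs (e0 ▸ ho.1), (orth_comm hF).1 ho.2⟩
  have hcount := Finset.card_mul_le_card_mul _ habove hbelow
  rw [← Set.ncard_eq_toFinset_card', ← Set.ncard_eq_toFinset_card', ← Nat.card_coe_set_eq O]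
    at hcount
  have hcompl := Set.ncard_add_ncard_compl O (Set.toFinite _) (Set.toFinite _)
  rw [hN, ← Nat.card_coe_set_eq O] at hcompl
  have hO554 : Nat.card O ≤ 554 := by omega
  generalize Nat.card O = k at hio hO529 hO554
  interval_cases k <;> omega

end Cfsg.Agent.MinIndexUN
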