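import Cfsg.Agent.MinIndexUN.TwoMain
import Cfsg.Agent.MinIndexUN.TwoSix
import Cfsg.Agent.MinIndexUN.FourTwo

/-!
The minimal index in even dimension over the field of four elements (helper10).
-/

set_option autoImplicit false

namespace Cfsg.Agent.MinIndexUN

open Matrix Cfsg.Agent.Unitary MulAction
open scoped LinearAlgebra.Projectivization

variable {F : Type*} [Field F] [Fintype F] (hF : Fintype.card F = 2 ^ 2)

include hF

/-- A point stabiliser equal to the Levi subgroup forces a fixed point of norm one. -/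
theorem exists_fixed_line {m : ℕ} {e f : Fin (m + 2) → F} (h : Std 2 e f)
    {H : Subgroup (SU (m + 2) F 2)} (hm : 3 ≤ m) (c : Core e f H) {g : SU (m + 2) F 2}
    (hg : g ∈ H) {lam : F} (hlam : lam ≠ 0) {w : Fin m → F} (hw : herm 2 w w = 0) (hw0 : w ≠ 0)
    (hge : g • e = lam • (e + jV m w)) :
    ∃ r : Fin (m + 2) → F, herm 2 r r = 1 ∧ ∀ k ∈ H, ∃ a : F, k • r = a • r := by
  obtain ⟨ρ, hρ0, hρ1, hr, -⟩ := plane_data hF h c (by omega) hg hlam hw hw0 hge
  set r := ρ • e + f with hrdef
  refine ⟨r, ?_, ?_⟩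
  · rw [hrdef]
    simp only [herm_add_left, herm_add_right hF, herm_smul_left, herm_smul_right hF, h.ee, h.ff,
      h.ef, h.fe hF]
    linear_combination omega_eq hF hρ0 hρ1 - char_two_four hF
  -- the elements of `S`-type fix `r`
  have hbase : ∀ k ∈ H, ∀ (A : F) (u : Fin m → F), A ≠ 0 → herm 2 u u = 0 → u ≠ 0 →
      k • e = A • (e + jV m u) → ∃ a : F, a ≠ 0 ∧ k • r = a • r := by
    intro k hk A u hA hu hu0 hke
    have hne : k⁻¹ ∉ Est (q := 2) e := by
      intro hh
      obtain ⟨⟨b, -, hb⟩, -⟩ := c.se _ hk (by simpa using inv_mem hh)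
      rw [hke] at hb
      have h1 : A • e + (0 : F) • f + jV m (A • u) = b • e + (0 : F) • f + jV m 0 := by
        rw [map_zero, map_smul, ← hb]; module
      exact smul_ne_zero hA hu0 (eq_of_std hF h h1).2.2
    have horth : herm 2 (k⁻¹ • e) e = 0 := by
      rw [← herm_smul_SU k, smul_inv_smul, hke, herm_smul_right hF, herm_add_right hF, h.ee,
        h.e_jV hF, add_zero, mul_zero]
    obtain ⟨B, u', hB, hu', hu'0, hke'⟩ := orth_cases hF h c (inv_mem hk) horth hne
    obtain ⟨a, b, hab⟩ := plane_transfer hF h c hm hg (inv_mem hk) hlam hB hw hu' hw0 hu'0 hge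
      hke' hr
    obtain ⟨ρ', -, -, hr', huni⟩ := plane_data hF h c (by omega) hk hA hu hu0 hke
    obtain ⟨a2, b2, hab2⟩ := plane_transfer hF h c hm hg hk hlam hA hw hu hw0 hu0 hge hke hr
    have hρρ : ρ = ρ' := by
      have := huni a2 b2 ρ 1 (by rw [one_smul]; exact hab2)
      rwa [one_mul] at this
    have hkr : k • r = a • e + b • f := by
      rw [hrdef, hab, smul_add, smul_comm k a, smul_comm k b, smul_inv_smul, smul_inv_smul]
    have hkr' : a • e + b • f = ρ • (k • e) + (1 : F) • (k • f) := by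
      rw [← hkr, hrdef, smul_add, smul_comm k, one_smul]
    have hab' := huni _ _ _ _ hkr'
    have hkrr : k • r = b • r := by
      rw [hkr, hab', ← hρρ, hrdef, smul_add, smul_smul]
    refine ⟨b, fun hb0 => ?_, hkrr⟩
    rw [hb0, zero_smul, smul_eq_zero_iff_eq] at hkrr
    have h1 : ρ • e + (1 : F) • f + jV m 0 = (0 : F) • e + (0 : F) • f + jV m 0 := by
      rw [map_zero, one_smul, zero_smul, zero_smul, add_zero, add_zero, add_zero]; exact hkrr
    exact one_ne_zero (eq_of_std hF h h1).2.1
  have hline : ∀ l ∈ Lev (q := 2) e f, ∃ a : F, l • r = a • r := by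
    intro l hl
    obtain ⟨a, -, hle, hlf, -⟩ := Lev_smul_comb hF h hl
    exact ⟨a, by rw [hrdef, smul_add, smul_comm l, hle, hlf, smul_add, smul_comm ρ a]⟩
  have horth_fix : ∀ k ∈ H, herm 2 (k • e) e = 0 → ∃ a : F, k • r = a • r := by
    intro k hk ho
    by_cases hE : k ∈ Est (q := 2) e
    · exact hline k (c.se k hk hE)
    · obtain ⟨A, u, hA, hu, hu0, hke⟩ := orth_cases hF h c hk ho hE
      obtain ⟨a, -, ha⟩ := hbase k hk A u hA hu hu0 hke
      exact ⟨a, ha⟩
  -- elements moving `e` off the line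
  have hoff : ∀ k ∈ H, tail2 (k • e) ≠ 0 → ∃ a : F, k • r = a • r := by
    intro k hk hv0
    set v := tail2 (k • e) with hv
    set β := herm 2 (k • e) e with hβ
    obtain ⟨w', hw', hw'0, hvw⟩ : ∃ w' : Fin m → F, herm 2 w' w' = 0 ∧ w' ≠ 0 ∧
        herm 2 v w' = β := by
      by_cases hβ0 : β = 0
      · have hvv : herm 2 v v = 0 := by
          have h1 := herm_smul_SU k e e
          rw [h.decomp hF (k • e), ← hβ, ← hv, herm_std hF h, h.ee, hβ0] at h1
          simpa [zero_pow_q hF] using h1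
        exact ⟨v, hvv, hv0, by rw [hvv, hβ0]⟩
      · obtain ⟨u, hu, hvu⟩ : ∃ u : Fin m → F, herm 2 u u = 0 ∧ herm 2 v u ≠ 0 := by
          by_contra! hall
          exact hv0 (eq_zero_of_orth_isotropic hF (by omega) hall)
        refine ⟨(β / herm 2 v u) ^ 2 • u, by rw [herm_smul_left, herm_smul_right hF, hu]; simp,
          smul_ne_zero (pow_ne_zero _ (div_ne_zero hβ0 hvu))
            fun e0 => hvu (by rw [e0, herm_zero_right hF]), ?_⟩
        rw [herm_smul_right hF, pow_q_pow_q hF, div_mul_cancel₀ _ hvu]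
    obtain ⟨g0, hg0⟩ := exists_move_iso hF hm hw hw' hw0 hw'0
    have hg2 : jG m g0 * g ∈ H := mul_mem (c.lev (jG_mem_Lev hF h g0)) hg
    have hge2 : (jG m g0 * g) • e = lam • (e + jV m w') := by
      rw [mul_smul, hge, smul_comm _ lam, smul_add, h.jG_e, jG_smul_jV, hg0]
    obtain ⟨b, -, hb⟩ := hbase _ hg2 lam w' hlam hw' hw'0 hge2
    obtain ⟨a, ha⟩ := horth_fix _ (mul_mem (inv_mem hg2) hk) (by
      rw [← herm_smul_SU (jG m g0 * g), mul_smul _ k, smul_inv_smul, hge2, herm_smul_right hF,
        herm_add_right hF, ← hβ, h.decomp hF (k • e), ← hβ, ← hv]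
      simp only [herm_add_left, herm_smul_left, h.e_jV hF, h.f_jV hF, herm_jV_jV, hvw, mul_zero,
        zero_add]
      linear_combination (lam ^ 2 * β) * char_two_four hF)
    refine ⟨a * b, ?_⟩
    calc k • r = (jG m g0 * g) • (((jG m g0 * g)⁻¹ * k) • r) := by
          rw [← mul_smul, mul_inv_cancel_left]
      _ = _ := by rw [ha, smul_comm _ a, hb, smul_smul]
  obtain ⟨b0, hb0, hgr⟩ := hbase g hg lam w hlam hw hw0 hge
  obtain ⟨α', γ, hα', hγ0, hγ1, hgf⟩ := sum_move hF h c (by omega) hg hlam hw hw0 hge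
  intro k hk
  by_cases hv0 : tail2 (k • e) = 0
  swap
  · exact hoff k hk hv0
  have hd := h.decomp hF (k • e)
  rw [hv0, map_zero, add_zero] at hd
  set α := herm 2 (k • e) f
  set β := herm 2 (k • e) e
  by_cases hβ0 : β = 0
  · rw [hβ0, zero_smul, add_zero] at hd
    have hα0 : α ≠ 0 := fun e0 => (smul_ne_zero_iff_ne k).2 (h.e_ne hF) (by rw [hd, e0, zero_smul])
    exact hline k (c.se k hk ⟨α, hα0, hd⟩)
  obtain ⟨a, ha⟩ := hoff (g * k) (mul_mem hg hk) (by
    rw [mul_smul, hd, smul_add, smul_comm g α, smul_comm g β, hge, hgf]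
    rw [show α • lam • (e + jV m w) + β • lam • (α' • e + f + γ • jV m w) =
        (lam * (α + β * α')) • e + (lam * β) • f + jV m ((lam * (α + β * γ)) • w) by
      rw [map_smul]; module, tail2_std hF h]
    refine smul_ne_zero (mul_ne_zero hlam fun e0 => ?_) hw0
    have hiso := herm_smul_SU k e e
    rw [hd, show α • e + β • f = α • e + β • f + jV m 0 by rw [map_zero, add_zero],
      herm_std hF h, herm_zero_left, h.ee, add_zero] at hiso
    have hαγ : α = β * γ := by linear_combination e0 - (β * γ) * char_two_four hF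
    rw [hαγ] at hiso
    have h2 : γ + γ ^ 2 = 0 := by
      linear_combination hiso - (γ + γ ^ 2) * cube_eq_one_four hF hβ0
    exact one_ne_zero (α := F) (by linear_combination omega_eq hF hγ0 hγ1 - h2))
  refine ⟨a * b0⁻¹, ?_⟩
  have h1 : k • r = g⁻¹ • ((g * k) • r) := by rw [← mul_smul, inv_mul_cancel_left]
  have h2 : g⁻¹ • r = b0⁻¹ • r := by
    rw [inv_smul_eq_iff, smul_comm g, hgr, inv_smul_smul₀ hb0]
  rw [h1, ha, smul_comm _ a, h2, smul_smul]

variable {n : ℕ}

/-- The stabiliser of a point of norm one. -/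
theorem index_stab_norm (hn : 5 ≤ n) {r : Fin n → F} (hr : herm 2 r r = 1) (hr0 : r ≠ 0) :
    3 * (stabilizer (SU n F 2) (Projectivization.mk F r hr0)).index = nvec n F 2 1 := by
  classical
  rw [index_stabilizer]
  set O := orbit (SU n F 2) (Projectivization.mk F r hr0)
  have hrep : ∀ P ∈ O, herm 2 P.rep P.rep = 1 := by
    rintro P ⟨g, rfl⟩
    have h1 : g • Projectivization.mk F r hr0 =
        Projectivization.mk F (g • r) ((smul_ne_zero_iff_ne g).2 hr0) := smul_mk_SU g hr0
    obtain ⟨a, ha⟩ := (Projectivization.mk_eq_mk_iff' F _ _ (Projectivization.rep_nonzero _) _).1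
      ((g • Projectivization.mk F r hr0).mk_rep.trans h1)
    show herm 2 (g • Projectivization.mk F r hr0).rep (g • Projectivization.mk F r hr0).rep = 1
    rw [← ha, herm_smul_left, herm_smul_right hF, herm_smul_SU, hr, mul_one, ← pow_succ']
    exact norm_four hF (fun e0 => Projectivization.rep_nonzero
      (g • Projectivization.mk F r hr0) (by rw [← ha, e0, zero_smul]))
  let φ : O × Fˣ → {v : Fin n → F // herm 2 v v = 1} := fun pa =>
    ⟨(pa.2 : F) • pa.1.1.rep, by
      rw [herm_smul_left, herm_smul_right hF, hrep _ pa.1.2, mul_one, ← pow_succ']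
      exact norm_four hF pa.2.ne_zero⟩
  have hbij : Function.Bijective φ := by
    constructor
    · rintro ⟨⟨P, hP⟩, a⟩ ⟨⟨P', hP'⟩, a'⟩ e0
      have e1 : (a : F) • P.rep = (a' : F) • P'.rep := congrArg Subtype.val e0
      have hPP : P = P' := by
        rw [← P.mk_rep, ← P'.mk_rep]
        exact (Projectivization.mk_eq_mk_iff' F _ _ _ _).2 ⟨(a : F)⁻¹ * a', by
          rw [← smul_smul, ← e1, inv_smul_smul₀ a.ne_zero]⟩
      subst hPP
      exact Prod.ext rfl (Units.ext (smul_left_injective F P.rep_nonzero e1))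
    · rintro ⟨v, hv⟩
      have hv0 : v ≠ 0 := fun e0 => one_ne_zero (α := F) (by rw [← hv, e0, herm_zero_left])
      obtain ⟨g, hg⟩ := exists_move_norm hF (by omega) (Or.inl (by omega))
        (v := r) (v' := v) (by rw [hr]; exact one_ne_zero) (by rw [hv, hr])
      have hP : Projectivization.mk F v hv0 ∈ O := ⟨g, by
        show g • Projectivization.mk F r hr0 = _
        rw [smul_mk_SU g hr0]
        exact (Projectivization.mk_eq_mk_iff' F _ _ _ _).2 ⟨1, by rw [one_smul, hg]⟩⟩
      obtain ⟨a, ha⟩ := (Projectivization.mk_eq_mk_iff' F _ _ hv0 (Projectivization.rep_nonzero _)).1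
        (Projectivization.mk_rep (Projectivization.mk F v hv0)).symm
      have ha0 : a ≠ 0 := fun e0 => hv0 (by rw [← ha, e0, zero_smul])
      exact ⟨(⟨_, hP⟩, Units.mk0 a ha0), Subtype.ext ha⟩
  have h1 := Nat.card_eq_of_bijective φ hbij
  rw [Nat.card_prod, Nat.card_units, Nat.card_eq_fintype_card (α := F), hF,
    Nat.card_coe_set_eq] at h1
  rw [show nvec n F 2 1 = O.ncard * (2 ^ 2 - 1) from h1.symm]
  omega

theorem two_even_counts (hev : Even n) (hn : 2 ≤ n) :
    nvec n F 2 1 = 2 ^ (n - 1) * (2 ^ n - 1) ∧ nvec n F 2 1 ≤ 3 * Nat.card (IsoPt hF n) ∧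
      nvec n F 2 1 ≤ 2 ^ (2 * n - 1) := by
  have h1 := nvec_one_formula hF n
  rw [if_pos hev] at h1
  have h2 := card_pts_formula hF n
  rw [if_pos hev] at h2
  refine ⟨h1, ?_, ?_⟩
  · rw [h1, show 3 * Nat.card (IsoPt hF n) = Nat.card (IsoPt hF n) * (2 ^ 2 - 1) by ring, h2,
      mul_comm]
    exact Nat.mul_le_mul_left _ (Nat.le_succ _)
  · rw [h1, show 2 * n - 1 = (n - 1) + n by omega, pow_add]
    exact Nat.mul_le_mul_left _ (Nat.sub_le _ _)

/-- The bound in even dimension. -/
theorem su_index_ge_two_even (hn : 6 ≤ n) (hev : Even n) :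
    ∀ H : Subgroup (SU n F 2), H ≠ ⊤ → nvec n F 2 1 ≤ 3 * H.index := by
  induction n using Nat.strong_induction_on with
  | _ n ih =>
    intro H0 hH0
    obtain ⟨m, rfl⟩ : ∃ m, n = m + 2 := ⟨n - 2, by omega⟩
    have hevm : Even m := by
      obtain ⟨r, hr⟩ := hev
      exact ⟨r - 1, by omega⟩
    have hm46 : m = 4 ∨ 6 ≤ m := by
      obtain ⟨r, hr⟩ := hevm
      omega
    obtain ⟨e, f, h⟩ := exists_std hF (m := m)
    obtain ⟨H, hidx, hne, hB⟩ := exists_conj_not_full hF h (fun hh => by omega) hH0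
    rw [← hidx]
    have hB1 : Nat.card (Bset hF h H) = 1 := by
      have h1 := card_Bset_le hF h H
      have h2 : 0 < Nat.card (Bset hF h H) := Nat.card_pos
      omega
    obtain ⟨c1, c2, c3⟩ := two_even_counts hF hev (by omega)
    have hN := card_pts_step hF m (by omega)
    by_cases hK : Kj hF h H = ⊤
    · have hA : Aset hF h H = ⊥ :=
        (stable_eq_bot_or_top hF (by omega) _ fun g v hv =>
          Kj_stable hF h H g (hK ▸ Subgroup.mem_top g) v hv).resolve_right
          fun e' => hB (Bset_full_of_top hF h H (by omega) e')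
      by_cases hj1 : (Kbar hF h H).relIndex (Lev e f) = 1
      · have hQ := inf_Qs_eq_bot hF h H hA hB1
        have hL := Subgroup.relIndex_eq_one.1 hj1
        rcases hm46 with rfl | hm6
        · by_contra hlt
          refine six_false hF h hQ hL ?_
          rw [c1] at hlt
          norm_num at hlt
          omega
        obtain ⟨H', hidx', hQ', hL'⟩ := exists_conj_Lev_le_two hF h H (Or.inr (by omega)) hQ hL
        have hne' : H' ≠ ⊤ := fun e' => hne (by
          rw [← Subgroup.index_eq_one, ← hidx', e', Subgroup.index_top])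
        rw [← hidx']
        rcases le_or_gt (Nat.card (IsoPt hF (m + 2))) H'.index with hle | hlt
        · omega
        obtain ⟨c, g, hg, lam, hlam, w, hw, hw0, hge⟩ :=
          core_setup hF h (by omega) hne' hQ' hL' hlt
        obtain ⟨r, hr, hfix⟩ := exists_fixed_line hF h (by omega) c hg hlam hw hw0 hge
        have hr0 : r ≠ 0 := fun e0 => one_ne_zero (α := F) (by rw [← hr, e0, herm_zero_left])
        rw [← index_stab_norm hF (by omega) hr hr0]
        refine Nat.mul_le_mul_left _ (Nat.le_of_dvd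
          (Nat.pos_of_ne_zero Subgroup.index_ne_zero_of_finite) (Subgroup.index_dvd_of_le ?_))
        intro k hk
        obtain ⟨a, ha⟩ := hfix k hk
        rw [MulAction.mem_stabilizer_iff, smul_mk_SU k hr0]
        exact (Projectivization.mk_eq_mk_iff' F _ _ _ _).2 ⟨a, ha.symm⟩
      · have hx := x_ge_of_B_one hF h H hB1 (by omega)
        rw [Lev_eq_Lev1 hF h, hA, Nat.card_unique, mul_one] at hx
        have hj2 : 2 ≤ (Kbar hF h H).relIndex (Lev e f) := by
          have : 0 < (Kbar hF h H).relIndex (Lev e f) :=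
            Nat.pos_of_ne_zero Subgroup.index_ne_zero_of_finite
          omega
        have h4 : 2 ^ (2 * m + 1) * 2 ≤ H.index :=
          (Nat.mul_le_mul_left _ hj2).trans (hx.trans (relIndex_le_index hF H (Est e)))
        rw [show 2 * (m + 2) - 1 = 2 * m + 1 + 2 by omega, pow_add] at c3
        omega
    · have hbig : Nat.card (IsoPt hF (m + 2)) ≤ H.index := by
        rcases hm46 with rfl | hm6
        · refine step_big hF h (by norm_num) H hB (su_four_two_index_ge hF _ hK) ?_
          rw [card_pts_step hF 4 (by norm_num), card_pts_four hF]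
          norm_num
        refine step_big hF h (by omega) H hB le_rfl ?_
        have hJ := ih m (by omega) hm6 hevm _ hK
        rw [(two_even_counts hF hevm (by omega)).1] at hJ
        have h5 : 3 * Nat.card (IsoPt hF (m + 2)) ≤ 2 ^ (2 * m + 4) := by
          have h6 := card_pts_mul hF (m + 2)
          have h7 : nvec (m + 2) F 2 0 ≤ 2 ^ (2 * (m + 2)) := by
            have := nvec_zero_le hF (m + 2) (by omega)
            omega
          rw [show 2 * (m + 2) = 2 * m + 4 by ring] at h7
          omega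
        have h8 : 2 ^ (2 * m - 2) ≤ 2 ^ (m - 1) * (2 ^ m - 1) := by
          rw [show 2 * m - 2 = (m - 1) + (m - 1) by omega, pow_add]
          refine Nat.mul_le_mul_left _ ?_
          obtain ⟨r, rfl⟩ : ∃ r, m = r + 1 := ⟨m - 1, by omega⟩
          rw [Nat.add_sub_cancel, pow_succ]
          have : 1 ≤ 2 ^ r := Nat.one_le_two_pow
          omega
        have h9 : 2 ^ (2 * m + 4) ≤ 2 ^ (m + 1) * 2 ^ (2 * m - 2) := by
          rw [← pow_add]; exact Nat.pow_le_pow_right (by norm_num) (by omega)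
        refine Nat.le_of_mul_le_mul_left ?_ (show 0 < 3 by norm_num)
        calc 3 * Nat.card (IsoPt hF (m + 2)) ≤ 2 ^ (m + 1) * 2 ^ (2 * m - 2) := h5.trans h9
          _ ≤ 2 ^ (m + 1) * (3 * (Kj hF h H).index) := Nat.mul_le_mul_left _ (h8.trans hJ)
          _ = _ := by ring
      omega

/-- The stabiliser of a point of norm one in the simple group. -/
theorem psu_exists_norm (hn : 5 ≤ n) :
    ∃ H : Subgroup (Cfsg.PSU n F 2), 3 * H.index = nvec n F 2 1 := by
  let π := QuotientGroup.mk' (Subgroup.center (SU n F 2))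
  have hπ : Function.Surjective π := QuotientGroup.mk'_surjective _
  set r : Fin n → F := eI (⟨0, by omega⟩ : Fin n)
  have hr : herm 2 r r = 1 := by rw [herm_eI_eI hF, if_pos rfl]
  have hr0 : r ≠ 0 := fun e0 => one_ne_zero (α := F) (by rw [← hr, e0, herm_zero_left])
  refine ⟨(stabilizer (SU n F 2) (Projectivization.mk F r hr0)).map π, ?_⟩
  rw [Subgroup.index_map_eq _ hπ, index_stab_norm hF hn hr hr0]
  rw [QuotientGroup.ker_mk']
  intro g hg
  obtain ⟨a, ha⟩ := (mem_center_iff hF (by omega)).1 hg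
  rw [MulAction.mem_stabilizer_iff, smul_mk_SU g hr0]
  exact (Projectivization.mk_eq_mk_iff' F _ _ _ _).2 ⟨a, (ha r).symm⟩

end Cfsg.Agent.MinIndexUN
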