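import Cfsg.Agent.MinIndexUN.TwoEnd

/-!
A point stabiliser which is exactly the Levi subgroup, over the field of four elements (helper10).
-/

set_option autoImplicit false

namespace Cfsg.Agent.MinIndexUN

open Matrix Cfsg.Agent.Unitary MulAction

variable {F : Type*} [Field F] [Fintype F] {m : ℕ} (hF : Fintype.card F = 2 ^ 2)

include hF

theorem two_counts (hodd : Odd m) :
    3 * Nat.card (IsoPt hF m) + 1 = nvec m F 2 0 ∧ 2 * nvec m F 2 0 + 2 ^ m = 2 ^ (2 * m) ∧
      nvec m F 2 0 + nvec m F 2 1 = 2 ^ (2 * m) := by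
  refine ⟨?_, ?_, ?_⟩
  · rw [← card_pts_mul hF m]; ring
  · have h := q_mul_nvec_zero hF m
    rw [hodd.neg_one_pow] at h
    zify
    push_cast at h
    linear_combination h
  · have h := nvec_total hF (n := m)
    zify
    push_cast at h
    linear_combination h

theorem four_pts_le (hm : 3 ≤ m) : 4 * Nat.card (IsoPt hF m) + 1 ≤ 2 ^ (2 * m) := by
  have h1 := card_pts_mul hF m
  have h2 := nvec_zero_le hF m (by omega)
  have h3 := q_mul_nvec_zero hF m
  have h8 : (2 : ℤ) ^ 3 ≤ 2 ^ m := pow_le_pow_right₀ (by norm_num) hm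
  have h9 : (2 : ℤ) ^ (2 * m) = 2 ^ m * 2 ^ m := by rw [two_mul, pow_add]
  rw [← h1] at h3
  push_cast at h3
  zify
  rcases neg_one_pow_eq_or ℤ m with e0 | e0 <;> rw [e0, pow_succ] at h3 <;> nlinarith

/-- A point in the orbit, as a vector. -/
theorem orbit_vec {H : Subgroup (SU (m + 2) F 2)} {p s : IsoPt hF (m + 2)}
    {x y : Fin (m + 2) → F} {a c : F} (ha : a ≠ 0) (hp : p.1.rep = a • x) (hc : c ≠ 0)
    (hs : s.1.rep = c • y) (hm : s ∈ orbit H p) :
    ∃ g ∈ H, ∃ lam : F, lam ≠ 0 ∧ g • x = lam • y := by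
  obtain ⟨⟨g, hg⟩, hgp⟩ := hm
  obtain ⟨l, hl, he⟩ := rep_smul_of_eq hF (g := g) (p := p) (p' := s) hgp
  rw [hp, hs, smul_comm g, smul_smul] at he
  exact ⟨g, hg, a⁻¹ * (l * c), mul_ne_zero (inv_ne_zero ha) (mul_ne_zero hl hc),
    by rw [← smul_smul, ← he, inv_smul_smul₀ ha]⟩

variable {e f : Fin (m + 2) → F} (h : Std 2 e f) {H : Subgroup (SU (m + 2) F 2)}
include h

/-- A second point of the hyperbolic line. -/
theorem partner_facts (hm : 3 ≤ m) (hne : H ≠ ⊤) (hQ : H ⊓ Qs hF h = ⊥)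
    (hL : Lev e f ≤ H) (hlt : H.index < Nat.card (IsoPt hF (m + 2))) {p : IsoPt hF (m + 2)} {a : F}
    (ha : a ≠ 0) (hp : p.1.rep = a • e) (hOp : 2 ^ (2 * m + 1) < Nat.card (orbit H p))
    {f' : Fin (m + 2) → F} (hs : Std 2 f' e) (hL' : Lev f' e ≤ H) (hsub : Lev (q := 2) e f ≤ Est f') :
    (∃ g ∈ H, ∃ lam : F, lam ≠ 0 ∧ g • e = lam • f') ∧
      ∀ g ∈ H, g ∈ Est f' → g ∈ Lev e f := by
  classical
  haveI := finite_pts hF (m + 2)
  obtain ⟨r, b, hb, hr⟩ := exists_pt hF (hs.e_ne hF) hs.ee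
  have hjf : ∀ g : SU m F 2, jG m g ∈ Kbar hF hs H := fun g =>
    Lev_le_Kbar hF hs H hL' (jG_mem_Lev hF hs g)
  have hArf : Aset hF hs H = ⊥ := by
    refine (stable_eq_bot_or_top hF hm _ fun g v hv => stable_Aset hF hs H hjf g hv).resolve_right
      fun htop => ?_
    have hle : Est f' ≤ H := Est_le hF hs H
      (Qs_le_of_full hF hs H htop (Bset_full_of_top hF hs H (by omega) htop)) hL'
    haveI := isPreprimitive_points hF (n := m + 2) (by omega) (fun hh => by omega)
    haveI : Nontrivial (IsoPt hF (m + 2)) := by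
      refine ⟨p, r, fun e0 => ?_⟩
      have h1 : herm 2 p.1.rep r.1.rep = 0 := by rw [e0]; exact r.2
      rw [hp, hr, herm_smul_left, herm_smul_right hF, hs.fe hF, mul_one] at h1
      exact (mul_ne_zero ha (pow_ne_zero _ hb)) h1
    have hco :=
      MulAction.IsPreprimitive.isCoatom_stabilizer_of_isPreprimitive (G := SU (m + 2) F 2) r
    rw [stab_eq hF, hr, Est_smul hb] at hco
    rcases hco.le_iff.1 hle with e0 | e0
    · exact hne e0
    · rw [e0, ← index_Est hF r, hr, Est_smul hb] at hlt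
      exact lt_irrefl _ hlt
  have hxr : 2 ^ (2 * m) ≤ H.relIndex (Est f') := by
    have h1 := x_ge_Lev hF hs H
    rw [hArf, Nat.card_unique, one_mul] at h1
    refine Nat.le_of_mul_le_mul_right ?_ (show 0 < 2 by norm_num)
    rw [← pow_succ]
    refine le_trans (Nat.le_mul_of_pos_right _
      (Nat.pos_of_ne_zero Subgroup.index_ne_zero_of_finite)) (h1.trans ?_)
    exact Nat.mul_le_mul_left _ (card_Bset_le hF hs H)
  have hOr : 2 ^ (2 * m) < Nat.card (orbit H r) := by
    have h1 := index_mul_card_orbit hF H r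
    rw [hr, Est_smul hb] at h1
    by_contra hle
    push Not at hle
    have h2 : H.index * Nat.card (orbit H r) < Nat.card (IsoPt hF (m + 2)) * 2 ^ (2 * m) :=
      lt_of_le_of_lt (Nat.mul_le_mul_left _ hle)
        (Nat.mul_lt_mul_of_pos_right hlt (Nat.one_le_two_pow))
    rw [h1, mul_comm] at h2
    exact absurd (Nat.mul_le_mul_left (Nat.card (IsoPt hF (m + 2))) hxr) (not_le.2 h2)
  have hN := card_pts_step hF m (by omega)
  have c1 := four_pts_le hF hm
  have hsame : orbit H r = orbit H p := by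
    by_contra hdiff
    have hd : Disjoint (orbit H p) (orbit H r) := by
      rw [Set.disjoint_left]
      intro s hs1 hs2
      exact hdiff ((orbit_eq_iff.2 hs2).symm.trans (orbit_eq_iff.2 hs1))
    have := Set.ncard_union_eq hd (Set.toFinite _) (Set.toFinite _)
    have hle := Set.ncard_le_card (orbit H p ∪ orbit H r)
    rw [← Nat.card_coe_set_eq (orbit H p), ← Nat.card_coe_set_eq (orbit H r)] at this
    have h5 : 2 ^ (2 * m + 1) = 2 * 2 ^ (2 * m) := by rw [pow_succ']
    omega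
  have hr_mem : r ∈ orbit H p := hsame ▸ mem_orbit_self r
  refine ⟨orbit_vec hF ha hp hb hr hr_mem, ?_⟩
  have hcard : Nat.card (stabilizer H r) = Nat.card (Lev (q := 2) e f) := by
    rw [← card_stab_eq hF h H hQ hL p ha hp]
    obtain ⟨k, rfl⟩ := hr_mem
    rw [stabilizer_smul_eq_stabilizer_map_conj]
    exact Subgroup.card_map_of_injective (MulAut.conj k).injective
  let φ : Lev (q := 2) e f → stabilizer H r := fun l => ⟨⟨l.1, hL l.2⟩, by
    show (l.1 : SU (m + 2) F 2) ∈ stabilizer (SU (m + 2) F 2) r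
    rw [stab_eq hF, hr, Est_smul hb]
    exact hsub l.2⟩
  have hφ : Function.Injective φ := fun l l' e0 =>
    Subtype.ext (congrArg (fun z : stabilizer H r => (z.1 : SU (m + 2) F 2)) e0)
  have hsur := (hφ.bijective_of_nat_card_le hcard.le).2
  intro g hg hgf
  obtain ⟨l, hl⟩ := hsur ⟨⟨g, hg⟩, by
    show g ∈ stabilizer (SU (m + 2) F 2) r
    rw [stab_eq hF, hr, Est_smul hb]
    exact hgf⟩
  rw [← show (l.1 : SU (m + 2) F 2) = g from
    congrArg (fun z : stabilizer H r => (z.1 : SU (m + 2) F 2)) hl]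
  exact l.2

theorem core_setup (hm : 3 ≤ m) (hne : H ≠ ⊤) (hQ : H ⊓ Qs hF h = ⊥) (hL : Lev e f ≤ H)
    (hlt : H.index < Nat.card (IsoPt hF (m + 2))) :
    Core e f H ∧ ∃ g ∈ H, ∃ lam : F, lam ≠ 0 ∧ ∃ w : Fin m → F,
      herm 2 w w = 0 ∧ w ≠ 0 ∧ g • e = lam • (e + jV m w) := by
  classical
  haveI := finite_pts hF (m + 2)
  obtain ⟨p, a, ha, hp⟩ := exists_pt hF (h.e_ne hF) h.ee
  have hOp : 2 ^ (2 * m + 1) < Nat.card (orbit H p) := by
    have h1 := x_ge_Lev hF h H
    have h0 : Nat.card (Aset hF h H) * Nat.card (Bset hF h H) = 1 := by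
      rw [← card_inf_Qs hF h H, hQ, Subgroup.card_bot]
    rw [h0, mul_one] at h1
    have hx : 2 ^ (2 * m + 1) ≤ H.relIndex (Est e) :=
      le_trans (Nat.le_mul_of_pos_right _ (Nat.pos_of_ne_zero Subgroup.index_ne_zero_of_finite)) h1
    have h2 := index_mul_card_orbit hF H p
    rw [hp, Est_smul ha] at h2
    by_contra hle
    push Not at hle
    have h3 : H.index * Nat.card (orbit H p) < Nat.card (IsoPt hF (m + 2)) * 2 ^ (2 * m + 1) :=
      lt_of_le_of_lt (Nat.mul_le_mul_left _ hle)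
        (Nat.mul_lt_mul_of_pos_right hlt (Nat.one_le_two_pow))
    rw [h2, mul_comm] at h3
    exact absurd (Nat.mul_le_mul_left (Nat.card (IsoPt hF (m + 2))) hx) (not_le.2 h3)
  -- the three points of the line
  have hs : Std 2 f e := Std.symm hF h
  obtain ⟨hOf, hsf⟩ := partner_facts hF h hm hne hQ hL hlt ha hp hOp hs
    (fun l hl => hL ⟨hl.2, hl.1⟩) (fun l hl => hl.2)
  have hU : Std 2 (e + f) e := ⟨by
      rw [herm_add_left, herm_add_right hF, herm_add_right hF, h.ee, h.ff, h.ef, h.fe hF]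
      linear_combination char_two_four hF,
    h.ee, by rw [herm_add_left, h.ee, h.fe hF, zero_add], by
      funext i
      have he' := congrFun h.es i
      have hf' := congrFun h.fs i
      simp only [tail2, Fin.tail, Pi.zero_apply] at he' hf'
      simp [tail2, Fin.tail, he', hf'], h.es⟩
  obtain ⟨hOu, hsu⟩ := partner_facts hF h hm hne hQ hL hlt ha hp hOp hU
    (fun l hl => by
      obtain ⟨s, hs0, hsU, hse, -⟩ := Lev_smul_comb hF hU hl
      refine hL ⟨⟨s, hs0, hse⟩, ⟨s, hs0, ?_⟩⟩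
      rw [smul_add, hse, smul_add] at hsU
      exact add_left_cancel hsU)
    (fun l hl => by
      obtain ⟨s, hs0, hse, hsf', -⟩ := Lev_smul_comb hF h hl
      exact ⟨s, hs0, by rw [smul_add, hse, hsf', smul_add]⟩)
  have c : Core e f H :=
    ⟨hL, fun g hg hge => mem_Lev_of_trivial hF h H hQ hL hg hge, hsf, hsu⟩
  have c1 := four_pts_le hF hm
  have hN := card_pts_step hF m (by omega)
  have hit : ∀ {ι : Type _} [Finite ι] (φ : ι → IsoPt hF (m + 2)), Function.Injective φ →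
      4 * Nat.card (IsoPt hF m) < Nat.card ι → ∃ i, φ i ∈ orbit H p := by
    intro ι _ φ hφ hcard
    by_contra! hno
    have hd : Disjoint (orbit H p) (Set.range φ) :=
      Set.disjoint_left.2 fun s hs1 ⟨i, hi⟩ => hno i (hi ▸ hs1)
    have h1 := Set.ncard_union_eq hd (Set.toFinite _) (Set.toFinite _)
    have h2 := Set.ncard_le_card (orbit H p ∪ Set.range φ)
    rw [Set.ncard_range_of_injective hφ, ← Nat.card_coe_set_eq (orbit H p)] at h1
    omega
  have hpos : 0 < Nat.card (IsoPt hF m) :=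
    lt_of_lt_of_le (pow_pos (by norm_num) _) (pts_lower hF hm)
  have hvec : ∀ (s t : F) (w : Fin m → F), (s ≠ 0 ∨ t ≠ 0 ∨ w ≠ 0) →
      s * t ^ 2 + t * s ^ 2 + herm 2 w w = 0 →
      ∃ (P : IsoPt hF (m + 2)) (b : F), b ≠ 0 ∧
        P.1.rep = b • (s • e + t • f + jV m w) := by
    intro s t w h0 hiso
    refine exists_pt hF (fun e0 => ?_) (by rw [herm_std hF h]; exact hiso)
    have h1 : s • e + t • f + jV m w = (0 : F) • e + (0 : F) • f + jV m 0 := by
      rw [e0, zero_smul, zero_smul, map_zero, add_zero, add_zero]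
    obtain ⟨h2, h3, h4⟩ := eq_of_std hF h h1
    tauto
  let W := {w : Fin m → F // w ≠ 0 ∧ herm 2 w w = 0}
  have hW : Nat.card W = 3 * Nat.card (IsoPt hF m) := by
    have h1 : Nat.card W + 1 = nvec m F 2 0 := by
      rw [nvec, ← Nat.card_congr (Equiv.optionSubtypeNe (⟨0, herm_zero_left 0⟩ :
        {v : Fin m → F // herm 2 v v = 0})), Finite.card_option]
      congr 1
      exact Nat.card_congr
        { toFun := fun v => ⟨⟨v.1, v.2.2⟩, fun e' => v.2.1 (congrArg Subtype.val e')⟩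
          invFun := fun v => ⟨v.1.1, fun e' => v.2 (Subtype.ext e'), v.1.2⟩
          left_inv := fun _ => rfl
          right_inv := fun _ => rfl }
    rw [← card_pts_mul hF m] at h1
    omega
  choose P b hb hP using fun w : W => hvec 1 0 w.1 (Or.inr (Or.inr w.2.1))
    (by rw [w.2.2]; simp [zero_pow_q hF])
  choose P' b' hb' hP' using fun w : W => hvec 0 1 w.1 (Or.inr (Or.inr w.2.1))
    (by rw [w.2.2]; simp [zero_pow_q hF])
  have hscal : ∀ (b s t : F) (w : Fin m → F), b • (s • e + t • f + jV m w) =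
      (b * s) • e + (b * t) • f + jV m (b • w) := fun b s t w => by
    rw [map_smul]; module
  have hinj1 : Function.Injective (Sum.elim P P') := by
    rintro (w | w) (w' | w') e0 <;>
      have h1 := congrArg (fun z : IsoPt hF (m + 2) => z.1.rep) e0 <;>
      simp only [Sum.elim_inl, Sum.elim_inr, hP, hP', hscal] at h1 <;>
      obtain ⟨h2, h3, h4⟩ := eq_of_std hF h h1 <;>
      simp only [mul_one, mul_zero] at h2 h3
    · rw [h2] at h4
      exact congrArg _ (Subtype.ext (smul_right_injective _ (hb w') h4))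
    · exact absurd h2 (hb w)
    · exact absurd h3 (hb' w)
    · rw [h3] at h4
      exact congrArg _ (Subtype.ext (smul_right_injective _ (hb' w') h4))
  obtain ⟨g, hg, lam, hlam, w, hw, hw0, hge⟩ : ∃ g ∈ H, ∃ lam : F, lam ≠ 0 ∧ ∃ w : Fin m → F,
      herm 2 w w = 0 ∧ w ≠ 0 ∧ g • e = lam • (e + jV m w) := by
    obtain ⟨i, hi⟩ := hit _ hinj1 (by rw [Nat.card_sum, hW]; omega)
    rcases i with w | w
    · obtain ⟨g, hg, lam, hlam, hge⟩ := orbit_vec hF ha hp (hb w) (hP w) hi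
      exact ⟨g, hg, lam, hlam, w.1, w.2.2, w.2.1, by rw [hge]; module⟩
    obtain ⟨g, hg, lam, hlam, hge⟩ := orbit_vec hF ha hp (hb' w) (hP' w) hi
    obtain ⟨g1, hg1, κ, hκ, hge1⟩ := hOf
    have hgf : (g * g1⁻¹) • f = (κ⁻¹ * lam) • (f + jV m w.1) := by
      have h1 : g1⁻¹ • f = κ⁻¹ • e := by
        rw [inv_smul_eq_iff, smul_comm g1, hge1, inv_smul_smul₀ hκ]
      rw [mul_smul, h1, smul_comm g, hge, smul_smul]
      module
    have hmu := mul_ne_zero (inv_ne_zero hκ) hlam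
    obtain ⟨α, γ, hα, hγ0, hγ1, hge2⟩ := sum_move hF hs c.symm (by omega)
      (mul_mem hg (inv_mem hg1)) hmu w.2.2 w.2.1 hgf
    rcases hα with rfl | rfl
    · refine ⟨_, mul_mem hg (inv_mem hg1), _, hmu, γ • w.1, ?_, smul_ne_zero hγ0 w.2.1, ?_⟩
      · rw [herm_smul_left, herm_smul_right hF, w.2.2, mul_zero, mul_zero]
      · rw [hge2, map_smul, zero_smul, zero_add]
    obtain ⟨g4, hg4, κ', hκ', hge4⟩ := hOu
    refine ⟨g * g1⁻¹ * g4, mul_mem (mul_mem hg (inv_mem hg1)) hg4, κ' * (κ⁻¹ * lam),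
      mul_ne_zero hκ' hmu, (1 + γ) • w.1, ?_, smul_ne_zero ?_ w.2.1, ?_⟩
    · rw [herm_smul_left, herm_smul_right hF, w.2.2, mul_zero, mul_zero]
    · exact fun e0 => hγ1 (by linear_combination e0 - char_two_four hF)
    · rw [mul_smul _ g4, hge4, smul_comm (g * g1⁻¹), smul_add, hgf, hge2, map_smul, mul_smul κ']
      linear_combination (norm := module)
        (char_two_four hF) • (κ' • ((κ⁻¹ * lam) • f))
  exact ⟨c, g, hg, lam, hlam, w, hw, hw0, hge⟩

theorem index_ge_of_Lev_two (hm : 3 ≤ m) (hodd : Odd m) (hne : H ≠ ⊤)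
    (hQ : H ⊓ Qs hF h = ⊥) (hL : Lev e f ≤ H) : Nat.card (IsoPt hF (m + 2)) ≤ H.index := by
  classical
  by_contra hlt
  push Not at hlt
  haveI := finite_pts hF (m + 2)
  obtain ⟨c, g, hg, lam, hlam, w, hw, hw0, hge⟩ := core_setup hF h hm hne hQ hL hlt
  obtain ⟨p, a, ha, hp⟩ := exists_pt hF (h.e_ne hF) h.ee
  have hOp : 2 ^ (2 * m + 1) < Nat.card (orbit H p) := by
    have h1 := x_ge_Lev hF h H
    have h0 : Nat.card (Aset hF h H) * Nat.card (Bset hF h H) = 1 := by
      rw [← card_inf_Qs hF h H, hQ, Subgroup.card_bot]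
    rw [h0, mul_one] at h1
    have hx : 2 ^ (2 * m + 1) ≤ H.relIndex (Est e) :=
      le_trans (Nat.le_mul_of_pos_right _ (Nat.pos_of_ne_zero Subgroup.index_ne_zero_of_finite)) h1
    have h2 := index_mul_card_orbit hF H p
    rw [hp, Est_smul ha] at h2
    by_contra hle
    push Not at hle
    have h3 : H.index * Nat.card (orbit H p) < Nat.card (IsoPt hF (m + 2)) * 2 ^ (2 * m + 1) :=
      lt_of_le_of_lt (Nat.mul_le_mul_left _ hle)
        (Nat.mul_lt_mul_of_pos_right hlt (Nat.one_le_two_pow))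
    rw [h2, mul_comm] at h3
    exact absurd (Nat.mul_le_mul_left (Nat.card (IsoPt hF (m + 2))) hx) (not_le.2 h3)
  obtain ⟨c1, c2, c3⟩ := two_counts hF hodd
  have hN := card_pts_step hF m (by omega)
  have hit : ∀ {ι : Type _} [Finite ι] (φ : ι → IsoPt hF (m + 2)), Function.Injective φ →
      4 * Nat.card (IsoPt hF m) < Nat.card ι → ∃ i, φ i ∈ orbit H p := by
    intro ι _ φ hφ hcard
    by_contra! hno
    have hd : Disjoint (orbit H p) (Set.range φ) :=
      Set.disjoint_left.2 fun s hs1 ⟨i, hi⟩ => hno i (hi ▸ hs1)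
    have h1 := Set.ncard_union_eq hd (Set.toFinite _) (Set.toFinite _)
    have h2 := Set.ncard_le_card (orbit H p ∪ Set.range φ)
    rw [Set.ncard_range_of_injective hφ, ← Nat.card_coe_set_eq (orbit H p)] at h1
    omega
  have h8 : 2 ^ 3 ≤ 2 ^ m := Nat.pow_le_pow_right (by norm_num) hm
  have hpos : 0 < Nat.card (IsoPt hF m) :=
    lt_of_lt_of_le (pow_pos (by norm_num) _) (pts_lower hF hm)
  have hvec : ∀ (s t : F) (w : Fin m → F), (s ≠ 0 ∨ t ≠ 0 ∨ w ≠ 0) →
      s * t ^ 2 + t * s ^ 2 + herm 2 w w = 0 →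
      ∃ (P : IsoPt hF (m + 2)) (b : F), b ≠ 0 ∧
        P.1.rep = b • (s • e + t • f + jV m w) := by
    intro s t w h0 hiso
    refine exists_pt hF (fun e0 => ?_) (by rw [herm_std hF h]; exact hiso)
    have h1 : s • e + t • f + jV m w = (0 : F) • e + (0 : F) • f + jV m 0 := by
      rw [e0, zero_smul, zero_smul, map_zero, add_zero, add_zero]
    obtain ⟨h2, h3, h4⟩ := eq_of_std hF h h1
    tauto
  have hscal : ∀ (b s t : F) (w : Fin m → F), b • (s • e + t • f + jV m w) =
      (b * s) • e + (b * t) • f + jV m (b • w) := fun b s t w => by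
    rw [map_smul]; module
  obtain ⟨ρ, hρ0, hρ1, hr, -⟩ := plane_data hF h c (by omega) hg hlam hw hw0 hge
  -- a point orthogonal to one of the points `e + w'`
  choose T bt hbt hT using fun v : {v : Fin m → F // herm 2 v v = 1} => hvec (ρ ^ 2) 1 v.1
    (Or.inr (Or.inl one_ne_zero)) (by
      rw [v.2]
      linear_combination omega_eq hF hρ0 hρ1 + ρ * cube_eq_one_four hF hρ0)
  choose Z bz hbz hZ using fun s : IsoPt hF m => hvec 0 0 s.1.rep
    (Or.inr (Or.inr s.1.rep_nonzero)) (by rw [s.2]; simp [zero_pow_q hF])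
  haveI := finite_pts hF m
  have hinj2 : Function.Injective (Sum.elim Z T) := by
    rintro (s | v) (s' | v') e0 <;>
      have h1 := congrArg (fun z : IsoPt hF (m + 2) => z.1.rep) e0 <;>
      simp only [Sum.elim_inl, Sum.elim_inr, hZ, hT, hscal] at h1 <;>
      obtain ⟨h2, h3, h4⟩ := eq_of_std hF h h1 <;>
      simp only [mul_one, mul_zero] at h2 h3
    · refine congrArg _ (by_contra fun hne' => ne_smul_of_ne hF hne' ((bz s)⁻¹ * bz s') ?_)
      rw [← smul_smul, ← h4, inv_smul_smul₀ (hbz s)]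
    · exact absurd h3.symm (hbt v')
    · exact absurd h3 (hbt v)
    · rw [h3] at h4
      exact congrArg _ (Subtype.ext (smul_right_injective _ (hbt v') h4))
  obtain ⟨i, hi⟩ := hit _ hinj2 (by
    rw [Nat.card_sum]
    show _ < _ + nvec m F 2 1
    omega)
  rcases i with s | v
  · obtain ⟨g', hg', mu, hmu, hge'⟩ := orbit_vec hF ha hp (hbz s) (hZ s) hi
    exact not_move_to_perp hF h c hg' hmu s.2 s.1.rep_nonzero (by rw [hge']; module)
  obtain ⟨g', hg', mu, hmu, hge'⟩ := orbit_vec hF ha hp (hbt v) (hT v) hi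
  have hv0 : v.1 ≠ 0 := fun e0 => one_ne_zero (α := F) (by rw [← v.2, e0, herm_zero_left])
  obtain ⟨u, hu, hvu⟩ : ∃ u : Fin m → F, herm 2 u u = 0 ∧ herm 2 v.1 u ≠ 0 := by
    by_contra! hall
    exact hv0 (eq_zero_of_orth_isotropic hF (by omega) hall)
  have huv : herm 2 u v.1 ≠ 0 := mt (herm_eq_zero_comm hF).1 hvu
  set w' := (herm 2 u v.1)⁻¹ • u with hw'
  have hw'1 : herm 2 w' v.1 = 1 := by rw [hw', herm_smul_left, inv_mul_cancel₀ huv]
  have hw'' : herm 2 w' w' = 0 := by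
    rw [hw', herm_smul_left, herm_smul_right hF, hu, mul_zero, mul_zero]
  have hw'0 : w' ≠ 0 := smul_ne_zero (inv_ne_zero huv) fun e0 => huv (by rw [e0, herm_zero_left])
  obtain ⟨g0, hg0⟩ := exists_move_iso hF hm hw hw'' hw0 hw'0
  have hg2 : jG m g0 * g ∈ H := mul_mem (hL (jG_mem_Lev hF h g0)) hg
  have hge2 : (jG m g0 * g) • e = lam • (e + jV m w') := by
    rw [mul_smul, hge, smul_comm _ lam, smul_add, h.jG_e, jG_smul_jV, hg0]
  exact core_false hF h c hm hg2 hlam hw'' hw'0 hge2 hρ0 hρ1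
    (plane_transfer hF h c hm hg hg2 hlam hlam hw hw'' hw0 hw'0 hge hge2 hr) hg' hw'1
    (by rw [hge']; module)

end Cfsg.Agent.MinIndexUN
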