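import Cfsg.Agent.MinIndexUN.TwoBasic

/-!
Characters of exponent two of `SU₃(2)` invariant under `GU₃(2)` (helper10).
-/

set_option autoImplicit false

namespace Cfsg.Agent.MinIndexUN

open Matrix Cfsg.Agent.Unitary

variable {F : Type*} [Field F] [Fintype F] (hF : Fintype.card F = 2 ^ 2)

include hF

/-- A map into the field which is additive and invariant is trivial. -/
theorem hom_SU3_two (ψ : SU 3 F 2 → F) (hadd : ∀ g g', ψ (g * g') = ψ g + ψ g')
    (hinv : ∀ (G : GU 3 F 2) (g g' : SU 3 F 2), (∀ v : Fin 3 → F, g' • (G • v) = G • (g • v)) →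
      ψ g' = ψ g) : ∀ g, ψ g = 0 := by
  classical
  obtain ⟨e0, f0, hstd⟩ := exists_std hF (m := 1)
  have h1 : ψ 1 = 0 := by
    have := hadd 1 1
    rw [mul_one] at this
    linear_combination -this
  have hinv1 : ∀ g, ψ g⁻¹ = -ψ g := fun g => by
    have := hadd g g⁻¹
    rw [mul_inv_cancel, h1] at this
    linear_combination -this
  have hconj : ∀ g x, ψ (g * x * g⁻¹) = ψ x := fun g x => by
    rw [hadd, hadd, hinv1]; ring
  -- transvections at the standard point
  have hz : ∀ (c : F) (hc : c + c ^ 2 = -herm 2 (0 : Fin 1 → F) 0),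
      ψ (Qg hF hstd 0 hc) = 0 := by
    intro c hc
    have hc2 : c ^ 2 = c := by
      rw [herm_zero_left, neg_zero] at hc
      linear_combination hc - c * char_two_four hF
    rcases fixed_cases hF hc2 with rfl | rfl
    · rw [Qg_one hF hstd]; exact h1
    · obtain ⟨b, hb⟩ := exists_trace_eq hF (t := -herm 2 (fun _ : Fin 1 => (1 : F)) fun _ => 1)
        (by rw [neg_pow_q hF, herm_self_fixed hF])
      have hw : herm 2 (fun _ : Fin 1 => (1 : F)) (fun _ => 1) = 1 := by
        simp [herm, hermForm]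
      have e : Qg hF hstd 0 hc = Qg hF hstd (fun _ => 1) hb * Qg hF hstd (fun _ => 1) hb := by
        rw [Qg_mul]
        refine Qg_congr hF hstd _ _ ?_ ?_
        · funext i
          show (0 : F) = 1 + 1
          linear_combination -char_two_four hF
        · rw [hw]
          linear_combination (1 - b) * char_two_four hF
      rw [e, hadd]
      linear_combination ψ (Qg hF hstd (fun _ => 1) hb) * char_two_four hF
  -- all transvections
  have htv : ∀ {u : Fin 3 → F} {c : F} (hu : herm 2 u u = 0) (hc : c + c ^ 2 = 0),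
      ψ (tv hF hu hc) = 0 := by
    intro u c hu hc
    by_cases hu0 : u = 0
    · rw [show tv hF hu hc = 1 from eq_of_smul_eq_SU fun x => by rw [tv_smul, hu0]; simp]
      exact h1
    obtain ⟨g, -, a, ha, hg⟩ := exists_move_point hF (S := ∅) (u := u) (u' := e0)
      (by simp [supp_empty]) (by simp [supp_empty]) hu hstd.ee hu0 (hstd.e_ne hF)
    rw [← hconj g, conj_tv hF g hu hc]
    have hb : c + c ^ 2 = -herm 2 (0 : Fin 1 → F) 0 := by simpa using hc
    rw [show tv hF ((herm_smul_SU g u u).trans hu) hc = Qg hF hstd 0 hb from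
      eq_of_smul_eq_SU fun x => ?_]
    · exact hz _ hb
    · rw [Qg_zero_eq_tv hF hstd hb hc, tv_smul, tv_smul, hg, herm_smul_right hF, smul_smul]
      congr 2
      linear_combination (c * herm 2 x e0) * cube_eq_one_four hF ha
  have htg : ∀ g ∈ tvGroup hF (∅ : Finset (Fin 3)), ψ g = 0 := by
    intro g hg
    induction hg using Subgroup.closure_induction with
    | mem x hx =>
      obtain ⟨u, c, hu, hc, -, rfl⟩ := hx
      exact htv hu hc
    | one => exact h1
    | mul a b _ _ ha hb => rw [hadd, ha, hb, add_zero]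
    | inv a _ ha => rw [hinv1, ha, neg_zero]
  -- the radical
  obtain ⟨w, hw0, hw1⟩ := exists_omega_four hF
  have hrot : ∀ (u : Fin 1 → F) (b : F) (hb : b + b ^ 2 = -herm 2 u u)
      (hb' : b + b ^ 2 = -herm 2 (w • u) (w • u)),
      ψ (Qg hF hstd (w • u) hb') = ψ (Qg hF hstd u hb) := by
    intro u b hb hb'
    let M : Matrix (Fin (1 + 2)) (Fin (1 + 2)) F := embMat (embMat (Matrix.diagonal fun _ : Fin 1 => w))
    have hMv : ∀ x : Fin (1 + 2) → F,
        M *ᵥ x = Fin.cons (x 0) (Fin.cons (x 1) (w • tail2 x)) := fun x => by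
      show embMat (embMat _) *ᵥ x = _
      rw [embMat_mulVec, embMat_mulVec]
      congr 2
      funext i
      simp [Matrix.mulVec_diagonal, tail2]
    have hMf : ∀ x y, herm 2 (M *ᵥ x) (M *ᵥ y) = herm 2 x y := fun x y => by
      rw [hMv, hMv]
      conv_rhs => rw [← cons_eta x, ← cons_eta y]
      simp only [herm_cons_cons, herm_smul_left, herm_smul_right hF]
      linear_combination (herm 2 (tail2 x) (tail2 y)) * cube_eq_one_four hF hw0
    let P : GU (1 + 2) F 2 := mkGU hF M hMf
    have hP : ∀ x : Fin (1 + 2) → F,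
        P • x = Fin.cons (x 0) (Fin.cons (x 1) (w • tail2 x)) := fun x => by
      show mkGU hF M hMf • x = _
      rw [mkGU_smul, hMv]
    have hPe : P • e0 = e0 := by
      rw [hP, hstd.es, smul_zero]
      conv_rhs => rw [← cons_eta e0, hstd.es]
    have hPj : P • jV 1 u = jV 1 (w • u) := by
      rw [hP, tail2_jV]; rfl
    refine hinv P _ _ fun v => ?_
    rw [Qg_smul hF hstd, Qg_smul hF hstd]
    have e1 : herm 2 (P • v) e0 = herm 2 v e0 := by
      conv_lhs => rw [← hPe, herm_smul_GU]
    have e2 : herm 2 (P • v) (jV 1 (w • u)) = herm 2 v (jV 1 u) := by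
      rw [← hPj, herm_smul_GU]
    rw [e1, e2]
    simp only [smul_add, smul_sub, smul_comm P, hPe, hPj]
  have hQ : ∀ x ∈ Qs hF hstd, ψ x = 0 := by
    rintro _ ⟨u, b, hb, rfl⟩
    have hN : ∀ {a : F}, a ≠ 0 → b + b ^ 2 = -herm 2 (a • u) (a • u) := fun {a} ha => by
      rw [herm_smul_left, herm_smul_right hF]
      linear_combination hb + (herm 2 u u) * cube_eq_one_four hF ha
    have hw2 := pow_ne_zero 2 hw0
    have h3 : ψ (Qg hF hstd (w ^ 2 • u) (hN hw2)) = ψ (Qg hF hstd u hb) := by
      rw [← hrot u b hb (hN hw0), ← hrot (w • u) b (hN hw0)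
        (by rw [smul_smul, ← sq]; exact hN hw2)]
      exact congrArg ψ (Qg_congr hF hstd _ _ (by rw [smul_smul, ← sq]) rfl)
    have e : Qg hF hstd u hb * Qg hF hstd (w • u) (hN hw0) * Qg hF hstd (w ^ 2 • u) (hN hw2) ∈
        {x | ψ x = 0} := by
      rw [Qg_mul, Qg_mul, Set.mem_ofPred_eq]
      have h0 : u + w • u + w ^ 2 • u = 0 := by
        rw [show u + w • u + w ^ 2 • u = (w ^ 2 + w + 1) • u by module, omega_eq hF hw0 hw1,
          zero_smul]
      have hcc := cond_add hF (cond_add hF hb (hN hw0)) (hN hw2)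
      rw [Qg_congr hF hstd _ (b' := b + b - herm 2 (w • u) u + b - herm 2 (w ^ 2 • u) (u + w • u))
        (by rw [← h0]; exact hcc) h0 rfl]
      exact hz _ _
    rw [Set.mem_ofPred_eq, hadd, hadd, hrot u b hb (hN hw0), h3] at e
    linear_combination e - ψ (Qg hF hstd u hb) * char_two_four hF
  -- the Levi part
  have hL : ∀ l ∈ Lev (q := 2) e0 f0, ψ l = 0 := by
    intro l hl
    obtain ⟨g₀, hg₀⟩ := cube_mem_jG hF hstd hl
    rw [eq_one_of_card_le_one hF (S := (∅ : Finset (Fin 1))) (by simp) (g := g₀)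
      (mem_fixS.2 (by simp)), map_one, pow_succ, pow_succ, pow_one] at hg₀
    have := congrArg ψ hg₀
    rw [hadd, hadd, h1] at this
    linear_combination this - ψ l * char_two_four hF
  intro g
  obtain ⟨t, ht, a, ha, hte⟩ := exists_move_point hF (S := ∅) (u := g • e0) (u' := e0)
    (by simp [supp_empty]) (by simp [supp_empty]) ((herm_smul_SU g e0 e0).trans hstd.ee) hstd.ee
    ((smul_ne_zero_iff_ne g).2 (hstd.e_ne hF)) (hstd.e_ne hF)
  obtain ⟨x, hx, l, hl, hxl⟩ := exists_dec hF hstd (g := t * g) ⟨a, ha, by rw [mul_smul, hte]⟩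
  have := congrArg ψ hxl
  rw [hadd, hadd, htg t ht, hQ x hx, hL l hl, zero_add, zero_add] at this
  exact this

end Cfsg.Agent.MinIndexUN
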