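import Cfsg.Agent.MinIndexUN.TwoBasic
import Cfsg.Agent.MinIndexUN.Dim3
import Cfsg.Agent.MinIndexUN.Orbit

/-!
The index of the stabiliser of a translation group in dimension three, four elements (helper10).
-/

set_option autoImplicit false

namespace Cfsg.Agent.MinIndexUN

open Matrix Cfsg.Agent.Unitary

variable {F : Type*} [Field F] [Fintype F] (hF : Fintype.card F = 2 ^ 2)

include hF

theorem three_counts : nvec 3 F 2 0 = 28 ∧ nvec 3 F 2 1 = 36 := by
  refine ⟨?_, ?_⟩
  · rw [nvec_zero_formula hF 3, if_neg (by decide)]; norm_num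
  · rw [nvec_one_formula hF 3, if_neg (by decide)]; norm_num

variable {e f : Fin (3 + 2) → F} (h : Std 2 e f)
include h

theorem tact_herm_four {g : SU (3 + 2) F 2} (hg : g ∈ Lev (q := 2) e f) (x y : Fin 3 → F) :
    herm 2 (tact 2 e f g x) (tact 2 e f g y) = herm 2 x y := by
  obtain ⟨a, ha, hge, -, -⟩ := Lev_smul_comb hF h hg
  rw [tact_eq hF h hge, tact_eq hF h hge, herm_smul_left, herm_smul_right hF, lact_herm hF h hg,
    pow_q_pow_q hF]
  linear_combination (herm 2 x y) * cube_eq_one_four hF ha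

variable {K : Subgroup (SU (3 + 2) F 2)} {A : AddSubgroup (Fin 3 → F)}

/-- A non-trivial small translation group. -/
theorem plane_small (hK : Pres 2 e f K (A : Set (Fin 3 → F))) {v : Fin 3 → F} (hvA : v ∈ A)
    (hv : v ≠ 0) : 27 ≤ K.relIndex (Lev e f) * (Nat.card A - 1) := by
  obtain ⟨c0, c1⟩ := three_counts hF
  have hS : ((A : Set (Fin 3 → F)) \ {0}).ncard = Nat.card A - 1 := by
    rw [Set.ncard_sdiff_singleton_of_mem (zero_mem A), ← Nat.card_coe_set_eq]
    rfl
  rw [← hS]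
  by_cases hN : herm 2 v v = 0
  · have h1 : {w : Fin 3 → F | w ≠ 0 ∧ herm 2 w w = 0}.ncard = 27 := by
      rw [show {w : Fin 3 → F | w ≠ 0 ∧ herm 2 w w = 0} =
          {w : Fin 3 → F | herm 2 w w = 0} \ {0} by ext w; simp [and_comm],
        Set.ncard_sdiff_singleton_of_mem (by simp), ← Nat.card_coe_set_eq]
      show nvec 3 F 2 0 - 1 = 27
      omega
    rw [← h1]
    refine tact_cover hF h le_rfl hK hvA (fun g hg hm => ⟨hm, ?_⟩) fun w hw => ?_
    · exact fun e0 => tact_ne_zero hF h hg hv e0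
    · obtain ⟨g0, hg0⟩ := exists_move_iso hF le_rfl hN hw.2 hv hw.1
      exact ⟨jG 3 g0, jG_mem_Lev hF h g0, by rw [tact_jG hF h, hg0]⟩
  · have h1 : {w : Fin 3 → F | herm 2 w w = 1}.ncard = 36 := by
      rw [← Nat.card_coe_set_eq]; exact c1
    refine le_trans (show 27 ≤ {w : Fin 3 → F | herm 2 w w = 1}.ncard by omega) ?_
    refine tact_cover hF h le_rfl hK hvA (fun g hg hm => ⟨hm, ?_⟩) fun w hw => ?_
    · exact fun e0 => tact_ne_zero hF h hg hv e0
    · obtain ⟨G, -, hG⟩ := exists_fixGU_smul_eq hF (S := (∅ : Finset (Fin 3))) (x := v) (x' := w)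
        (by simp [supp_empty]) (by simp [supp_empty]) (by rw [hw, norm_value hF hN]) hN
      obtain ⟨g, hg, hgv⟩ := exists_tact_GU hF h G
      exact ⟨g, hg, by rw [hgv, hG]⟩

/-- A totally real translation group of order eight. -/
theorem plane_eight (hK : Pres 2 e f K (A : Set (Fin 3 → F)))
    (hreal : ∀ x ∈ A, ∀ y ∈ A, herm 2 x y ^ 2 = herm 2 x y) (hcard : Nat.card A = 8) :
    11 ≤ K.relIndex (Lev e f) := by
  classical
  have hbool : Nat.card {s : F // s ^ 2 = s} = 2 := card_fixed hF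
  -- some vector has norm one
  obtain ⟨v, hvA, hv⟩ : ∃ v ∈ A, herm 2 v v = 1 := by
    by_contra! hall'
    have hall : ∀ x ∈ A, herm 2 x x = 0 := fun x hx => by
      by_contra e0
      exact hall' x hx (norm_value hF e0)
    obtain ⟨x, hx, y, hy, hxy⟩ : ∃ x ∈ A, ∃ y ∈ A, herm 2 x y = 1 := by
      by_contra! horth
      obtain ⟨z, hzA, hz0⟩ : ∃ z ∈ A, z ≠ 0 := by
        by_contra! h0
        have : A = ⊥ := eq_bot_iff.2 fun x hx => h0 x hx
        rw [this, Nat.card_unique] at hcard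
        omega
      have hsub : (A : Set (Fin 3 → F)) ⊆ Set.range fun γ : F => γ • z := fun y hy =>
        let ⟨γ, hγ⟩ := eq_smul_of_orth hF hz0 (hall z hzA) (hall y hy)
          ((fixed_cases hF (hreal y hy z hzA)).resolve_right (horth y hy z hzA))
        ⟨γ, hγ.symm⟩
      have h3 := Set.ncard_le_ncard hsub (Set.finite_range _)
      rw [← Nat.card_coe_set_eq] at h3
      have h4 : (Set.range fun γ : F => γ • z).ncard ≤ 2 ^ 2 := by
        rw [← Nat.card_coe_set_eq]
        exact (Finite.card_range_le _).trans (by rw [Nat.card_eq_fintype_card, hF])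
      have h5 : Nat.card A ≤ 2 ^ 2 := h3.trans h4
      omega
    let ψ : A → {s : F // s ^ 2 = s} × {s : F // s ^ 2 = s} := fun a =>
      (⟨herm 2 a.1 x, hreal _ a.2 x hx⟩, ⟨herm 2 a.1 y, hreal _ a.2 y hy⟩)
    have hninj : ¬ Function.Injective ψ := fun hi => by
      have h5 := Nat.card_le_card_of_injective ψ hi
      rw [Nat.card_prod, hbool, hcard] at h5
      omega
    obtain ⟨a, b, hab, hne⟩ := Function.not_injective_iff.1 hninj
    refine sub_ne_zero.2 (fun e0 => hne (Subtype.ext e0)) (eq_zero_of_orth_pair hF (z := x)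
      (f' := y) (hall x hx) (hall y hy) hxy ?_ ?_ (hall _ (sub_mem a.2 b.2)))
    · rw [herm_sub_left, sub_eq_zero]; exact congrArg (fun p => (p.1 : F)) hab
    · rw [herm_sub_left, sub_eq_zero]; exact congrArg (fun p => (p.2 : F)) hab
  -- halves
  have hhalf : ∀ (Φ : (Fin 3 → F) → F), (∀ x ∈ A, Φ x = 0 ∨ Φ x = 1) →
      ∀ u ∈ A, (∀ x ∈ A, Φ (x + u) = Φ x + 1) →
      Nat.card {x : Fin 3 → F // x ∈ A ∧ Φ x = 0} = 4 ∧
        Nat.card {x : Fin 3 → F // x ∈ A ∧ Φ x = 1} = 4 := by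
    intro Φ h01 u hu hshift
    have e1 : {x : Fin 3 → F // x ∈ A ∧ Φ x = 0} ≃ {x : Fin 3 → F // x ∈ A ∧ Φ x = 1} :=
      (Equiv.addRight u).subtypeEquiv fun x => by
        show _ ↔ x + u ∈ A ∧ Φ (x + u) = 1
        constructor
        · rintro ⟨hxA, h0⟩
          exact ⟨add_mem hxA hu, by rw [hshift x hxA, h0, zero_add]⟩
        · rintro ⟨hxA, h1⟩
          have hxA' : x ∈ A := by simpa using sub_mem hxA hu
          exact ⟨hxA', by rw [hshift x hxA'] at h1; linear_combination h1⟩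
    have e2 : A ≃ {x : Fin 3 → F // x ∈ A ∧ Φ x = 0} ⊕ {x : Fin 3 → F // x ∈ A ∧ Φ x = 1} :=
      { toFun := fun a => if ha : Φ a.1 = 0 then Sum.inl ⟨a.1, a.2, ha⟩
          else Sum.inr ⟨a.1, a.2, (h01 a.1 a.2).resolve_left ha⟩
        invFun := Sum.elim (fun x => ⟨x.1, x.2.1⟩) fun x => ⟨x.1, x.2.1⟩
        left_inv := fun a => by by_cases ha : Φ a.1 = 0 <;> simp [ha]
        right_inv := fun z => by
          rcases z with ⟨x, hxA, hx⟩ | ⟨x, hxA, hx⟩ <;> simp [hx] }
    have h2 := Nat.card_congr e2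
    rw [Nat.card_sum, ← Nat.card_congr e1, hcard] at h2
    refine ⟨by omega, by rw [← Nat.card_congr e1]; omega⟩
  have hsym : ∀ x ∈ A, ∀ y ∈ A, herm 2 y x = herm 2 x y := fun x hx y hy => by
    rw [herm_swap hF x y, hreal x hx y hy]
  obtain ⟨-, hnorm⟩ := hhalf (fun x => herm 2 x x)
    (fun x hx => fixed_cases hF (hreal x hx x hx)) v hvA fun x hx => by
      simp only [herm_add_left, herm_add_right hF, hv, hsym x hx v hvA]
      linear_combination (herm 2 x v) * char_two_four hF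
  have hperp : ∀ x ∈ A, herm 2 x x = 1 →
      Nat.card {y : Fin 3 → F // y ∈ A ∧ herm 2 y x = 0} = 4 := fun x hx hxx =>
    (hhalf (fun y => herm 2 y x) (fun y hy => fixed_cases hF (hreal y hy x hx)) x hx
      fun y _ => by simp only [herm_add_left, hxx]).1
  obtain ⟨z, hzA, hz0, hzv⟩ : ∃ z ∈ A, z ≠ 0 ∧ herm 2 z v = 0 := by
    by_contra! h0
    have hs : Subsingleton {y : Fin 3 → F // y ∈ A ∧ herm 2 y v = 0} := ⟨fun a b => Subtype.ext (by
      rw [Classical.by_contradiction fun e0 => h0 a.1 a.2.1 e0 a.2.2,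
        Classical.by_contradiction fun e0 => h0 b.1 b.2.1 e0 b.2.2])⟩
    have := hperp v hvA hv
    have := Finite.card_le_one_iff_subsingleton.2 hs
    omega
  -- the pairs inside `A`
  let S : Set ((Fin 3 → F) × (Fin 3 → F)) :=
    {p | (p.1 ∈ A ∧ herm 2 p.1 p.1 = 1) ∧ (p.2 ∈ A ∧ herm 2 p.2 p.1 = 0) ∧ p.2 ≠ 0}
  have hScard : S.ncard ≤ 12 := by
    let X := {x : Fin 3 → F // x ∈ A ∧ herm 2 x x = 1}
    let Y := fun x : X => {y : Fin 3 → F // (y ∈ A ∧ herm 2 y x.1 = 0) ∧ y ≠ 0}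
    have hY : ∀ x : X, Nat.card (Y x) = 3 := fun x => by
      have h4 := hperp x.1 x.2.1 x.2.2
      rw [← Nat.card_congr (Equiv.optionSubtypeNe (⟨0, zero_mem A, herm_zero_left _⟩ :
        {y : Fin 3 → F // y ∈ A ∧ herm 2 y x.1 = 0})), Finite.card_option] at h4
      have h5 : Nat.card (Y x) = Nat.card {y : {y : Fin 3 → F // y ∈ A ∧ herm 2 y x.1 = 0} //
          y ≠ ⟨0, zero_mem A, herm_zero_left _⟩} := Nat.card_congr
        { toFun := fun y => ⟨⟨y.1, y.2.1⟩, fun e' => y.2.2 (congrArg Subtype.val e')⟩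
          invFun := fun y => ⟨y.1.1, y.1.2, fun e' => y.2 (Subtype.ext e')⟩
          left_inv := fun _ => rfl
          right_inv := fun _ => rfl }
      omega
    have h6 : Nat.card S ≤ Nat.card (Σ x : X, Y x) := Nat.card_le_card_of_injective
      (fun p => ⟨⟨p.1.1, p.2.1⟩, ⟨p.1.2, p.2.2⟩⟩) (fun p p' e0 => Subtype.ext (Prod.ext
        (congrArg (fun s : Σ x : X, Y x => s.1.1) e0)
        (congrArg (fun s : Σ x : X, Y x => s.2.1) e0)))
    have hX : Nat.card X = 4 := hnorm
    rw [Nat.card_sigma, Finset.sum_congr rfl fun x _ => hY x, Finset.sum_const, smul_eq_mul,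
      Finset.card_univ, ← Nat.card_eq_fintype_card, hX] at h6
    rwa [← Nat.card_coe_set_eq]
  -- the orbit of the pair
  obtain ⟨G1, -, hG1⟩ := exists_fixGU_smul_eq hF (S := (∅ : Finset (Fin 3))) (x := v) (x' := eI 0)
    (by simp [supp_empty]) (by simp [supp_empty]) (by rw [hv, herm_eI_eI hF, if_pos rfl])
    (by rw [hv]; exact one_ne_zero)
  set z1 := G1 • z with hz1
  have hz1S : z1 ∈ supp ({0} : Finset (Fin 3)) := fun i hi => by
    rw [Finset.mem_singleton] at hi
    subst hi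
    rw [← herm_eI_right hF (0 : Fin 3) z1, ← hG1, hz1, herm_smul_GU, hzv]
  have hz1n : herm 2 z1 z1 = herm 2 z z := herm_smul_GU G1 z z
  let Y0 := {y : Fin 3 → F // y ∈ supp ({0} : Finset (Fin 3)) ∧ herm 2 y y = herm 2 z z ∧ y ≠ 0}
  have hY0 : 6 ≤ Nat.card Y0 := by
    have he1 : eI (1 : Fin 3) ∈ (supp ({0} : Finset (Fin 3)) : Submodule F (Fin 3 → F)) :=
      eI_mem_supp (by decide)
    have he2 : eI (2 : Fin 3) ∈ (supp ({0} : Finset (Fin 3)) : Submodule F (Fin 3 → F)) :=
      eI_mem_supp (by decide)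
    have hFx : Nat.card Fˣ = 3 := by
      rw [Nat.card_units, Nat.card_eq_fintype_card (α := F), hF]; norm_num
    have hn : ∀ a : Fˣ, (a : F) ^ 3 = 1 := fun a => cube_eq_one_four hF a.ne_zero
    by_cases hzz : herm 2 z z = 0
    · have := Nat.card_le_card_of_injective (fun p : Fˣ × Fˣ => (⟨(p.1 : F) • eI 1 + (p.2 : F) • eI 2,
        add_mem (Submodule.smul_mem _ _ he1) (Submodule.smul_mem _ _ he2), by
          simp only [herm_add_left, herm_add_right hF, herm_smul_left, herm_smul_right hF,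
            herm_eI_eI hF, hzz, Fin.reduceEq, if_true, if_false]
          linear_combination hn p.1 + hn p.2 + char_two_four hF,
        fun e0 => p.1.ne_zero (by simpa [eI] using congrFun e0 1)⟩ : Y0))
        (fun p p' e0 => by
          have e1 := congrArg Subtype.val e0
          refine Prod.ext (Units.ext ?_) (Units.ext ?_)
          · simpa [eI] using congrFun e1 1
          · simpa [eI] using congrFun e1 2)
      rw [Nat.card_prod, hFx] at this
      exact le_trans (by norm_num) this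
    · have hz1' := norm_value hF hzz
      let φ : Fˣ ⊕ Fˣ → Y0 := Sum.elim
        (fun a => ⟨(a : F) • eI 1, Submodule.smul_mem _ _ he1, by
          rw [herm_smul_left, herm_smul_right hF, herm_eI_eI hF, if_pos rfl, hz1']
          linear_combination hn a,
          fun e0 => a.ne_zero (by simpa [eI] using congrFun e0 1)⟩)
        (fun a => ⟨(a : F) • eI 2, Submodule.smul_mem _ _ he2, by
          rw [herm_smul_left, herm_smul_right hF, herm_eI_eI hF, if_pos rfl, hz1']
          linear_combination hn a,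
          fun e0 => a.ne_zero (by simpa [eI] using congrFun e0 2)⟩)
      have hφ : Function.Injective φ := by
        rintro (a | a) (b | b) e0 <;> have e1 := congrArg Subtype.val e0
        · exact congrArg _ (Units.ext (by simpa [φ, eI] using congrFun e1 1))
        · exact absurd (by simpa [φ, eI] using congrFun e1 1) a.ne_zero
        · exact absurd (by simpa [φ, eI] using congrFun e1 2) a.ne_zero
        · exact congrArg _ (Units.ext (by simpa [φ, eI] using congrFun e1 2))
      have := Nat.card_le_card_of_injective φ hφ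
      rw [Nat.card_sum, hFx] at this
      omega
  let X1 := {x : Fin 3 → F // herm 2 x x = 1}
  have hGx : ∀ x : X1, ∃ G : GU 3 F 2, G • (eI 0 : Fin 3 → F) = x.1 := fun x => by
    obtain ⟨G, -, hG⟩ := exists_fixGU_smul_eq hF (S := (∅ : Finset (Fin 3))) (x := eI 0)
      (x' := x.1) (by simp [supp_empty]) (by simp [supp_empty])
      (by rw [herm_eI_eI hF, if_pos rfl, x.2])
      (by rw [herm_eI_eI hF, if_pos rfl]; exact one_ne_zero)
    exact ⟨G, hG⟩
  choose Gx hGx' using hGx
  let Φ : X1 × Y0 → (Fin 3 → F) × (Fin 3 → F) := fun p => (p.1.1, Gx p.1 • p.2.1)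
  have hΦ : Function.Injective Φ := by
    rintro ⟨x, y⟩ ⟨x', y'⟩ e0
    obtain rfl : x = x' := Subtype.ext (congrArg Prod.fst e0)
    exact Prod.ext rfl (Subtype.ext (smul_left_cancel _ (congrArg Prod.snd e0)))
  have hO : 216 ≤ (Set.range Φ).ncard := by
    rw [Set.ncard_range_of_injective hΦ, Nat.card_prod]
    have hX1 : Nat.card X1 = 36 := (three_counts hF).2
    rw [hX1]
    omega
  have hcov := card_orbit_le (X := Lev (q := 2) e f) (K := K)
    (fun g (p : (Fin 3 → F) × (Fin 3 → F)) => (tact 2 e f g p.1, tact 2 e f g p.2))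
    (v := (v, z)) (fun g hg g' hg' => Prod.ext (tact_mul hF h hg hg' v) (tact_mul hF h hg hg' z))
    (O := Set.range Φ) (S := S) (Set.toFinite _) ?_ ?_
  · by_contra hlt
    have h9 : K.relIndex (Lev e f) * S.ncard ≤ 10 * 12 := Nat.mul_le_mul (by omega) hScard
    omega
  · rintro _ ⟨⟨x, y⟩, rfl⟩
    obtain ⟨G2, hG2, hG2z⟩ : ∃ G2 ∈ fixGU (q := 2) ({0} : Finset (Fin 3)), G2 • z1 = y.1 := by
      by_cases hzz : herm 2 z z = 0
      · have hz10 : z1 ≠ 0 := (smul_ne_zero_iff_ne G1).2 hz0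
        have hy : herm 2 y.1 y.1 = 0 := y.2.2.1.trans hzz
        obtain ⟨t, htS, ht, hzt⟩ := exists_partner hF hz1S (hz1n.trans hzz) hz10
        obtain ⟨t', htS', ht', hyt⟩ := exists_partner hF y.2.1 hy y.2.2.2
        obtain ⟨G2, hG2, h1, -⟩ := exists_fixGU_pair hF hz1S htS y.2.1 htS' (hz1n.trans hzz) ht hzt
          hy ht' hyt
        exact ⟨G2, hG2, h1⟩
      · exact exists_fixGU_smul_eq hF hz1S y.2.1 (hz1n.trans y.2.2.1.symm) (by rwa [hz1n])
    obtain ⟨g, hg, hgv⟩ := exists_tact_GU hF h (Gx x * G2 * G1)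
    refine ⟨g, hg, Prod.ext ?_ ?_⟩
    · show tact 2 e f g v = x.1
      rw [hgv, mul_smul, mul_smul, hG1, mem_fixGU.1 hG2 0 (Finset.mem_singleton_self 0), hGx']
    · show tact 2 e f g z = Gx x • y.1
      rw [hgv, mul_smul, mul_smul, ← hz1, hG2z]
  · intro k hk hkL
    exact ⟨⟨hK k hk hkL v hvA, by rw [tact_herm_four hF h hkL, hv]⟩,
      ⟨hK k hk hkL z hzA, by rw [tact_herm_four hF h hkL, hzv]⟩, tact_ne_zero hF h hkL hz0⟩

end Cfsg.Agent.MinIndexUN
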