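import Cfsg.Agent.MinIndexUN.Main
import Cfsg.Agent.MinIndexUN.TwoComplement
import Cfsg.Agent.MinIndexUN.TwoFinal
import Cfsg.Agent.MinIndexUN.TwoPlane

/-!
The minimal index in odd dimension over the field of four elements (helper10).
-/

set_option autoImplicit false

namespace Cfsg.Agent.MinIndexUN

open Cfsg.Agent.Unitary MulAction

variable {F : Type*} [Field F] [Fintype F] (hF : Fintype.card F = 2 ^ 2)

include hF

theorem Lev_eq_Lev1 {m : ℕ} {e f : Fin (m + 2) → F} (h : Std 2 e f) :
    Lev1 (q := 2) e f = Lev e f :=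
  le_antisymm Lev1_le fun g hg =>
    let ⟨a, ha, hge, _⟩ := Lev_smul_comb hF h hg
    ⟨hg, a, norm_four hF ha, hge⟩

/-- The points are a minimal permutation representation. -/
theorem su_index_ge_two {n : ℕ} (hn : 5 ≤ n) (hodd : Odd n) :
    ∀ H : Subgroup (SU n F 2), H ≠ ⊤ → Nat.card (IsoPt hF n) ≤ H.index := by
  induction n using Nat.strong_induction_on with
  | _ n ih =>
    intro H0 hH0
    obtain ⟨m, rfl⟩ : ∃ m, n = m + 2 := ⟨n - 2, by omega⟩
    have hoddm : Odd m := by
      obtain ⟨r, hr⟩ := hodd
      exact ⟨r - 1, by omega⟩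
    have hm3 : 3 ≤ m := by omega
    have hm35 : m = 3 ∨ 5 ≤ m := by
      obtain ⟨r, hr⟩ := hoddm
      omega
    obtain ⟨e, f, h⟩ := exists_std hF (m := m)
    obtain ⟨H, hidx, hne, hB⟩ := exists_conj_not_full hF h (fun hh => by omega) hH0
    rw [← hidx]
    have hB1 : Nat.card (Bset hF h H) = 1 := by
      have h1 := card_Bset_le hF h H
      have h2 : 0 < Nat.card (Bset hF h H) := Nat.card_pos
      omega
    obtain ⟨c1, c2, -⟩ := two_counts hF hoddm
    have hN := card_pts_step hF m (by omega)
    set j := (Kbar hF h H).relIndex (Lev e f) with hj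
    have hx : 2 ^ (2 * m + 1) * j ≤ H.index * Nat.card (Aset hF h H) := by
      have h1 := x_ge_of_B_one hF h H hB1 (by omega)
      rw [Lev_eq_Lev1 hF h] at h1
      exact h1.trans (Nat.mul_le_mul_right _ (relIndex_le_index hF H (Est e)))
    have hj0 : 0 < j := Nat.pos_of_ne_zero Subgroup.index_ne_zero_of_finite
    -- no translations
    have htriv : Aset hF h H = ⊥ → Nat.card (IsoPt hF (m + 2)) ≤ H.index := by
      intro hA
      by_cases hj1 : j = 1
      · obtain ⟨H', hidx', hQ', hL'⟩ := exists_conj_Lev_le_two hF h H hm35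
          (inf_Qs_eq_bot hF h H hA hB1) (Subgroup.relIndex_eq_one.1 hj1)
        rw [← hidx']
        refine index_ge_of_Lev_two hF h hm3 hoddm (fun e' => hne ?_) hQ' hL'
        rw [← Subgroup.index_eq_one, ← hidx', e', Subgroup.index_top]
      · rw [hA, Nat.card_unique, mul_one] at hx
        have h4 : 2 ^ (2 * m + 1) * 2 ≤ H.index :=
          (Nat.mul_le_mul_left _ (by omega)).trans hx
        have h5 : 2 ^ (2 * m) * 2 = 2 ^ (2 * m + 1) := by rw [pow_succ]
        have h7 : 0 ≤ 2 ^ m := Nat.zero_le _
        linarith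
    by_cases hA : Aset hF h H = ⊥
    · exact htriv hA
    by_cases hK : Kj hF h H = ⊤
    · exact absurd ((stable_eq_bot_or_top hF hm3 _ fun g v hv =>
        Kj_stable hF h H g (hK ▸ Subgroup.mem_top g) v hv).resolve_right
        fun e' => hB (Bset_full_of_top hF h H (by omega) e')) hA
    rcases hm35 with rfl | hm5
    · -- dimension five
      obtain ⟨v, hvA, hv0⟩ : ∃ v ∈ Aset hF h H, v ≠ 0 := by
        by_contra! hall
        exact hA (eq_bot_iff.2 fun x hx' => hall x hx')
      obtain ⟨hA8, -⟩ := card_isotropic_le hF (Bset hF h H) (fun b hb => Bset_trace hF h H hb) hB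
        (Aset hF h H) fun x hx y hy => alt_mem hF h H hx hy
      have h27 := plane_small hF h (Kbar_pres hF h H) hvA hv0
      have hpw : Nat.card (Aset hF h H) = 1 ∨ Nat.card (Aset hF h H) = 2 ∨
          Nat.card (Aset hF h H) = 4 ∨ Nat.card (Aset hF h H) = 8 := by
        have hd := (Aset hF h H).card_addSubgroup_dvd_card
        rw [Nat.card_eq_fintype_card (α := Fin 3 → F), Fintype.card_fun, hF, Fintype.card_fin,
          ← pow_mul, Nat.dvd_prime_pow Nat.prime_two] at hd
        obtain ⟨i, -, hi⟩ := hd
        rcases i with - | - | - | - | i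
        · left; simpa using hi
        · right; left; simpa using hi
        · right; right; left; simpa using hi
        · right; right; right; simpa using hi
        · exfalso
          rw [hi] at hA8
          have : 2 ^ 4 ≤ 2 ^ (i + 1 + 1 + 1 + 1) := Nat.pow_le_pow_right (by norm_num) (by omega)
          omega
      have hN5 : Nat.card (IsoPt hF (3 + 2)) = 165 := by
        norm_num at hN c2 ⊢
        omega
      rw [hN5]
      norm_num at hx
      rcases hpw with e1 | e1 | e1 | e1
      · exact absurd (AddSubgroup.card_eq_one.1 e1) hA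
      · rw [e1] at h27 hx; omega
      · rw [e1] at h27 hx; omega
      · have h11 := plane_eight hF h (Kbar_pres hF h H) (fun v hv w hw => by
          have h2 := alt_mem hF h H hv hw
          rw [AddSubgroup.card_eq_one.1 hB1, AddSubgroup.mem_bot, sub_eq_zero] at h2
          rw [← herm_swap hF v w, h2]) e1
        rw [e1] at hx; omega
    · have ihm := ih m (by omega) hm5 hoddm _ hK
      refine step_big hF h (by omega) H hB ihm ?_
      have hlow := pts_lower hF (n := m) (by omega)
      set N := Nat.card (IsoPt hF m)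
      have h1 : 2 ^ 2 * N * 2 ≤ 2 ^ (m + 1) * N := by
        rw [mul_right_comm]
        refine Nat.mul_le_mul_right _ ?_
        calc 2 ^ 2 * 2 = 2 ^ 3 := by norm_num
          _ ≤ 2 ^ (m + 1) := Nat.pow_le_pow_right (by norm_num) (by omega)
      have h3 : (2 ^ (2 * m + 1) + 1) * 2 ≤ 2 ^ (m + 1) * N := by
        calc (2 ^ (2 * m + 1) + 1) * 2 ≤ 2 ^ (2 * m + 1) * 4 := by
              have : 1 ≤ 2 ^ (2 * m + 1) := Nat.one_le_two_pow
              omega
          _ ≤ 2 ^ (2 * m + 1) * 2 ^ (m - 3) := by
              refine Nat.mul_le_mul_left _ ?_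
              calc 4 = 2 ^ 2 := by norm_num
                _ ≤ 2 ^ (m - 3) := Nat.pow_le_pow_right (by norm_num) (by omega)
          _ = 2 ^ (m + 1) * 2 ^ (2 * m - 3) := by
              rw [← pow_add, ← pow_add]; congr 1; omega
          _ ≤ _ := Nat.mul_le_mul_left _ hlow
      omega

end Cfsg.Agent.MinIndexUN
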